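import Groth.Agent.Brauer.K444.AzOps
import Mathlib.Algebra.Module.FinitePresentation
import Mathlib.RingTheory.Flat.FaithfullyFlat.Basic
import Mathlib.RingTheory.LocalProperties.Exactness

/-!
# Descent of the Azumaya property along flat base change
-/

set_option autoImplicit false
universe u v w
open scoped TensorProduct
open MulOpposite

namespace K281.AzDescent

variable {R : Type u} [CommRing R] (S : Type v) [CommRing S] [Algebra R S]
  {A : Type w} [Ring A] [Algebra R A]

/-- `S ⊗ (A ⊗ Aᵒᵖ) ≃ (S ⊗ A) ⊗_S (S ⊗ A)ᵒᵖ`. -/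
noncomputable def e1 : S ⊗[R] (A ⊗[R] Aᵐᵒᵖ) ≃ₗ[S] (S ⊗[R] A) ⊗[S] (S ⊗[R] A)ᵐᵒᵖ :=
  (TensorProduct.AlgebraTensorModule.distribBaseChange R S A Aᵐᵒᵖ) ≪≫ₗ
    TensorProduct.congr (LinearEquiv.refl S _)
      ((LinearEquiv.baseChange R S _ _ (opLinearEquiv R (M := A)).symm) ≪≫ₗ
        opLinearEquiv S (M := S ⊗[R] A))

theorem e1_tmul (s : S) (a b : A) : e1 S (s ⊗ₜ[R] (a ⊗ₜ[R] op b)) =
    (s ⊗ₜ[R] a) ⊗ₜ[S] op ((1 : S) ⊗ₜ[R] b) := by
  simp [e1]

theorem square (s : S) (t : A ⊗[R] Aᵐᵒᵖ) :
    AlgHom.mulLeftRight S (S ⊗[R] A) (e1 S (s ⊗ₜ[R] t)) =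
      s • (AlgHom.mulLeftRight R A t).baseChange S := by
  induction t using TensorProduct.induction_on with
  | zero => simp
  | tmul x y =>
    induction y using MulOpposite.rec' with
    | _ y =>
    rw [e1_tmul]
    refine TensorProduct.AlgebraTensorModule.curry_injective (LinearMap.ext fun s' ↦
      (LinearMap.ext fun m ↦ ?_))
    simp [AlgHom.mulLeftRight_apply, TensorProduct.smul_tmul']
  | add x y hx hy =>
    rw [TensorProduct.tmul_add, map_add, map_add, hx, hy, map_add, LinearMap.baseChange_add,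
      smul_add]

section

variable [Module.Finite R A] [Module.Projective R A]

theorem bijective_baseChange [Module.Flat R S]
    (h : Function.Bijective (AlgHom.mulLeftRight S (S ⊗[R] A))) :
    Function.Bijective ((AlgHom.mulLeftRight R A).toLinearMap.baseChange S) := by
  have hfp : Module.FinitePresentation R A := Module.finitePresentation_of_projective R A
  have hb := Module.FinitePresentation.isBaseChange_map R A A S
  have hcomm : (AlgHom.mulLeftRight S (S ⊗[R] A)).toLinearMap ∘ₗ (e1 (R := R) (A := A) S).toLinearMap =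
      hb.equiv.toLinearMap ∘ₗ ((AlgHom.mulLeftRight R A).toLinearMap.baseChange S) := by
    refine TensorProduct.AlgebraTensorModule.curry_injective (LinearMap.ext fun s' ↦
      (LinearMap.ext fun m ↦ ?_))
    have h1 := square (R := R) (A := A) S s' m
    simpa [hb.equiv_tmul] using h1
  have h2 : Function.Bijective (hb.equiv.toLinearMap ∘ₗ
      ((AlgHom.mulLeftRight R A).toLinearMap.baseChange S)) := by
    rw [← hcomm]
    rw [LinearMap.coe_comp]
    exact h.comp (e1 (R := R) (A := A) S).bijective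
  rw [LinearMap.coe_comp] at h2
  exact (Function.Bijective.of_comp_iff' hb.equiv.bijective _).1 h2

/-- faithfully flat descent of the Azumaya property. -/
theorem bijective_of_faithfullyFlat [Module.FaithfullyFlat R S]
    (h : Function.Bijective (AlgHom.mulLeftRight S (S ⊗[R] A))) :
    Function.Bijective (AlgHom.mulLeftRight R A) := by
  have h1 := bijective_baseChange (R := R) (A := A) S h
  exact (Module.FaithfullyFlat.lTensor_bijective_iff_bijective R S
    (AlgHom.mulLeftRight R A).toLinearMap).1 h1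

end

section cancel

variable (R : Type*) [CommRing R] (S : Type*) [CommRing S] [Algebra R S]
  (T : Type*) [CommRing T] [Algebra R T] [Algebra S T] [IsScalarTower R S T]
  (B : Type*) [Ring B] [Algebra R B]

/-- The natural isomorphism `T ⊗[S] (S ⊗[R] B) ≃ₐ[T] T ⊗[R] B`, for a noncommutative algebra `B`. -/
noncomputable def cancelAlg : T ⊗[S] (S ⊗[R] B) ≃ₐ[T] T ⊗[R] B :=
  AlgEquiv.symm <| AlgEquiv.ofLinearEquiv
    (TensorProduct.AlgebraTensorModule.cancelBaseChange R S T T B).symm
    (by simp [Algebra.TensorProduct.one_def]) <|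
      LinearMap.map_mul_of_map_mul_tmul (fun _ _ _ _ ↦ by simp)

theorem cancelAlg_tmul (a : T) (s : S) (b : B) :
    cancelAlg R S T B (a ⊗ₜ (s ⊗ₜ b)) = (s • a) ⊗ₜ b :=
  TensorProduct.AlgebraTensorModule.cancelBaseChange_tmul R S T a b s

end cancel

end K281.AzDescent
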