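import Groth.Agent.Dix.K281.ExtCofan
import Groth.Agent.Etcore.LimEt
import Groth.Agent.EtpbcB.EdgeEt
import Groth.Agent.GalCoh.K445.EtRes
import Groth.Agent.CohtopA.GmDivFinal
import Groth.Agent.Sga4h.EtaleRes
import Groth.Prelude.Def_EtLim

/-!
# Gluing in degree two: étale locally trivial classes on `U` come from `H²(X, j_* N)` if `R¹ j_* N = 0`
-/

set_option autoImplicit false
universe u

open CategoryTheory CategoryTheory.Limits CategoryTheory.Abelian AlgebraicGeometry Opposite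

namespace K281.BrGlue

open Groth.Agent.Etcore.EtZ Groth.Agent.Etcore.EtZPull Groth.Agent.Etcore.LimEt
open Groth.Agent.CurvesA Groth.Agent.Etcore.PullCoh Groth.Agent.EtpbcB

variable {X U : Scheme.{u}} (j : U ⟶ X)

/-- Naturality of `f⁻¹ Z_V ≅ Z_{V ×_X U}`. -/
theorem pull_map_Z {V T : X.Etale} (a : V ⟶ T) :
    (EtCoh.pull j).map ((Z X).map a) ≫ pullHom j T = pullHom j V ≫ (Z U).map ((EtCoh.bc j).map a) := by
  apply pullZ_ext
  rw [map_comp_app, map_comp_app, eta_map, pullHom_eta, map_univ, map_univ, eta_res, map_res,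
    pullHom_eta]

/-- The constant sheaf is the free sheaf on a terminal object. -/
noncomputable abbrev κ (X : Scheme.{u}) : (Z X).obj (EtCoh.top X) ≅ EtCoh.const X ℤ :=
  SiteZU.constIso.{u + 1} X.smallEtaleTopology (EtCore.topIsTerminal X)

/-- The family of the `Z_{V_i} → ℤ` for an étale covering is jointly epimorphic. -/
theorem joint_epi {ι : Type*} (V : ι → X.Etale) (hV : ∀ x : X, ∃ i, x ∈ Set.range (V i).hom)
    (B : EtCoh.Ab X) (f : EtCoh.const X ℤ ⟶ B)
    (h : ∀ i, ((Z X).map ((EtCore.topIsTerminal X).from (V i)) ≫ (κ X).hom) ≫ f = 0) : f = 0 := by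
  rw [← cancel_epi (κ X).hom, comp_zero]
  apply SiteZU.ev_injective.{u + 1}
  rw [map_zero]
  let s : EtCoh.sect B (EtCoh.top X) := SiteZU.ev.{u + 1} ((κ X).hom ≫ f)
  have key : ∀ i, B.obj.map ((EtCore.topIsTerminal X).from (V i)).op s = 0 := by
    intro i
    have h1 := h i
    rw [Category.assoc] at h1
    have h2 := SiteZU.ev_map_comp.{u + 1} (J := X.smallEtaleTopology)
      ((EtCore.topIsTerminal X).from (V i)) ((κ X).hom ≫ f)
    rw [h1, map_zero] at h2
    exact h2.symm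
  refine Groth.Agent.CohtopA.GmDivFinal.eq_zero_of_local (X := X) (U := EtCoh.top X) s fun x => ?_
  obtain ⟨i, v, hv⟩ := hV x
  refine ⟨V i, (EtCore.topIsTerminal X).from (V i), ⟨v, ?_⟩, key i⟩
  have hw : ((EtCore.topIsTerminal X).from (V i)).left ≫ 𝟙 X = (V i).hom :=
    CategoryTheory.Over.w ((EtCore.topIsTerminal X).from (V i)).hom
  have hw' : ((EtCore.topIsTerminal X).from (V i)).left = (V i).hom :=
    (Category.comp_id _).symm.trans hw
  rw [hw']
  exact hv

variable [PreservesFiniteLimits (EtCoh.pull j)]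

omit [PreservesFiniteLimits (EtCoh.pull j)] in
theorem mapExact_eq_zero {U X : Scheme.{u}} {g : U ⟶ X} [PreservesFiniteLimits (EtCoh.pull g)] {F : EtCoh.Ab X} {n : ℕ}
    {e : EtCoh.H X F n} (h : EtCore.Hpull g F n e = 0) :
    (Ext.mapExactFunctor (EtCoh.pull g) e : Ext.{u + 1} _ _ n) = 0 := by
  apply (EdgeEt.bij_aux g ((EtCoh.pull g).obj F) n).1
  change (Ext.mk₀ (EtCore.pullConst g ℤ).inv).comp _ _ = (Ext.mk₀ (EtCore.pullConst g ℤ).inv).comp 0 _
  rw [Ext.comp_zero]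
  exact h

/-- **Gluing in degree two.** -/
theorem exists_HofPush_eq {S : ShortComplex (EtCoh.Ab U)} (hS : S.ShortExact) [Injective S.X₂]
    (he : Epi ((EtCoh.push j).map S.g)) (e : EtCoh.H U S.X₁ 2)
    (hloc : ∀ x : X, ∃ V : X.Etale, x ∈ Set.range V.hom ∧
      ∃ _ : PreservesFiniteLimits (EtCoh.pull ((EtCoh.bc j).obj V).hom),
        EtCore.Hpull ((EtCoh.bc j).obj V).hom S.X₁ 2 e = 0) :
    ∃ ξ : EtCoh.H X ((EtCoh.push j).obj S.X₁) 2, EtLim.HofPush j S.X₁ 2 ξ = e := by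
  choose V hV hpf hVe using hloc
  obtain ⟨u, hu⟩ := (EdgeEt.bij_aux j S.X₁ 2).2 e
  change (Ext.mk₀ (EtCore.pullConst j ℤ).inv).comp u (zero_add 2) = e at hu
  have hu' : u = (Ext.mk₀ (EtCore.pullConst j ℤ).hom).comp e (zero_add 2) := by
    rw [← hu, Ext.mk₀_comp_mk₀_assoc, Iso.hom_inv_id, Ext.mk₀_id_comp]
  obtain ⟨ξ, hξ⟩ := K281.ExtCofan.exists_edge_two_eq (EtCoh.pullPushAdj j) hS he
    (A := EtCoh.const X ℤ) (ι := X) (Q := fun x => (Z X).obj (V x)) _ (colimit.isColimit _)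
    (fun x => (Z X).map ((EtCore.topIsTerminal X).from (V x)) ≫ (κ X).hom)
    (fun B f hf => joint_epi V (fun x => ⟨x, hV x⟩) B f hf) u (fun x => by
      have i1 := hpf x
      have i2 : EtShriek.JCont ((EtCoh.bc j).obj (V x)).hom := by
        have : Etale ((EtCoh.bc j).obj (V x)).hom := ((EtCoh.bc j).obj (V x)).prop
        exact Groth.Agent.Sga4h.EtaleRes.jCont _
      have h1 := mapExact_eq_zero (g := ((EtCoh.bc j).obj (V x)).hom) (hVe x)
      have h2 : u.mapExactFunctor (EtCoh.pull ((EtCoh.bc j).obj (V x)).hom) = 0 := by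
        rw [hu', Ext.mapExactFunctor_comp, h1, Ext.comp_zero]
      let y : Ext ((Z U).obj ((EtCoh.bc j).obj (EtCoh.top X))) S.X₁ 2 :=
        (Ext.mk₀ (pullInv j (EtCoh.top X) ≫ (EtCoh.pull j).map (κ X).hom)).comp u (zero_add 2)
      have h3 : y.mapExactFunctor (EtCoh.pull ((EtCoh.bc j).obj (V x)).hom) = 0 := by
        rw [Ext.mapExactFunctor_comp, h2, Ext.comp_zero]
      have h4 := K445.EtRes.res_eq_zero_of_mapExact ((EtCoh.bc j).obj (V x))
        ((EtCoh.bc j).map ((EtCore.topIsTerminal X).from (V x))) y h3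
      rw [ExtStep.res_apply, Ext.mk₀_comp_mk₀_assoc] at h4
      have h5 : (EtCoh.pull j).map ((Z X).map ((EtCore.topIsTerminal X).from (V x)) ≫ (κ X).hom) =
          pullHom j (V x) ≫ ((Z U).map ((EtCoh.bc j).map ((EtCore.topIsTerminal X).from (V x))) ≫
            pullInv j (EtCoh.top X) ≫ (EtCoh.pull j).map (κ X).hom) := by
        rw [← Category.assoc (pullHom j (V x)), ← pull_map_Z, Category.assoc,
          ← Category.assoc (pullHom j (EtCoh.top X)), pullHom_pullInv, Category.id_comp, Functor.map_comp]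
      rw [h5, ← Ext.mk₀_comp_mk₀_assoc]
      refine (congrArg (fun z => (Ext.mk₀ (pullHom j (V x))).comp z (zero_add 2)) h4).trans ?_
      exact Ext.comp_zero _ _ _ _ _)
  refine ⟨ξ, ?_⟩
  have h6 : EtLim.HofPush j S.X₁ 2 ξ = EdgeEt.edgeH j S.X₁ 2 ξ := rfl
  rw [h6, EdgeEt.edgeH_eq, hξ]
  exact hu

end K281.BrGlue
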