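import Groth.Agent.Dix.K281.ClosedGm
import Groth.Agent.Sga4A.HensClosed2

/-!
# Cohomology of the direct image along a closed immersion, and of the kernel of `G_m → i_* G_m`
-/

set_option autoImplicit false
universe u v w

open CategoryTheory CategoryTheory.Limits CategoryTheory.Abelian AlgebraicGeometry Opposite

namespace K281.ClosedPush

open Groth.Agent Groth.Agent.Sga4A

/-- An isomorphism induces bijections on `Ext`. -/
theorem bijective_comp_mk₀ {C : Type*} [Category C] [Abelian C] [HasExt.{w} C] (Z : C)
    {F G : C} (η : F ⟶ G) [IsIso η] (n : ℕ) :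
    Function.Bijective (fun e : Ext Z F n => e.comp (Ext.mk₀ η) (add_zero n)) := by
  refine Function.bijective_iff_has_inverse.2
    ⟨fun e => e.comp (Ext.mk₀ (inv η)) (add_zero n), fun e => ?_, fun e => ?_⟩
  · simp
  · simp

/-- For a closed immersion `i`, the canonical map `H^n(X, i_* F) → H^n(Z, F)` is bijective. -/
theorem HofPush_bijective {Z X : Scheme.{u}} (i : Z ⟶ X) [IsClosedImmersion i]
    [PreservesFiniteLimits (EtCoh.pull i)] (F : EtCoh.Ab Z) (n : ℕ) :
    Function.Bijective (EtLim.HofPush i F n) := by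
  have h1 : PreservesFiniteColimits (EtCoh.push i) := EtSplit.preservesFiniteColimits_push i
  have h2 : IsIso (EtCoh.pullPushAdj i).counit := Etcore.OpenClosed.isIso_counit_closedImmersion i
  have h3 : IsIso ((EtCoh.pullPushAdj i).unit.app ((EtCoh.push i).obj F)) := by
    have h := (EtCoh.pullPushAdj i).right_triangle_components F
    have : IsIso ((EtCoh.push i).map ((EtCoh.pullPushAdj i).counit.app F)) := inferInstance
    exact isIso_of_comp_hom_eq_id _ h
  have h4 : Function.Bijective (EtCore.Hpull i ((EtCoh.push i).obj F) n) :=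
    HensClosed.Hpull_bijective_of_unit i _ n (bijective_comp_mk₀ _ _ n)
  have h5 : Function.Bijective ((EtCoh.HF Z n).map ((EtCoh.pullPushAdj i).counit.app F)).hom :=
    ConcreteCategory.bijective_of_isIso ((EtCoh.HF Z n).map ((EtCoh.pullPushAdj i).counit.app F))
  exact h5.comp h4

/-- A surjection whose kernel has vanishing `Ext` in two consecutive degrees is bijective on `Ext`. -/
theorem bijective_of_kernel' {C : Type*} [Category C] [Abelian C] [HasExt.{w} C] (Z : C)
    {F G : C} (η : F ⟶ G) [Epi η] (n : ℕ) (h : Subsingleton (Ext Z (kernel η) n))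
    (h' : Subsingleton (Ext Z (kernel η) (n + 1))) :
    Function.Bijective (fun e : Ext Z F n => e.comp (Ext.mk₀ η) (add_zero n)) := by
  have hS : (ShortComplex.mk (kernel.ι η) η (kernel.condition η)).ShortExact :=
    { exact := ShortComplex.exact_of_f_is_kernel _ (kernelIsKernel η) }
  constructor
  · have hinj : ∀ x : Ext Z F n, x.comp (Ext.mk₀ η) (add_zero n) = 0 → x = 0 := by
      intro x hx
      obtain ⟨y, hy⟩ := Ext.covariant_sequence_exact₂ Z hS x hx
      rw [← hy, Subsingleton.elim y 0, Ext.zero_comp]
    exact (injective_iff_map_eq_zero (AddMonoidHom.mk' (fun e : Ext Z F n =>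
      e.comp (Ext.mk₀ η) (add_zero n)) (fun _ _ => Ext.add_comp _ _ _ _))).2 hinj
  · intro y
    obtain ⟨x, hx⟩ := Ext.covariant_sequence_exact₃ Z hS y rfl (Subsingleton.elim _ _)
    exact ⟨x, hx⟩

theorem HF_map_bijective {X : Scheme.{u}} {F G : EtCoh.Ab X} (η : F ⟶ G) [Epi η] (n : ℕ)
    (h : Subsingleton (EtCoh.H X (kernel η) n)) (h' : Subsingleton (EtCoh.H X (kernel η) (n + 1))) :
    Function.Bijective ((EtCoh.HF X n).map η).hom :=
  bijective_of_kernel' (EtCoh.const X ℤ) η n h h'

/-- The restriction map on `G_m`-cohomology along a closed immersion is bijective as soon as the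
kernel of `G_m → i_* G_m` has no cohomology in two consecutive degrees. -/
theorem HGmPull_bijective {Z X : Scheme.{u}} (i : Z ⟶ X) [IsClosedImmersion i]
    [PreservesFiniteLimits (EtCoh.pull i)] (n : ℕ)
    (h : Subsingleton (EtCoh.H X (kernel (EtLim.GmPush i)) n))
    (h' : Subsingleton (EtCoh.H X (kernel (EtLim.GmPush i)) (n + 1))) :
    Function.Bijective (EtLim.HGmPull i n) := by
  have : Epi (EtLim.GmPush i) := K281.ClosedGm.epi_gmPush i
  exact (HofPush_bijective i _ n).comp (HF_map_bijective (EtLim.GmPush i) n h h')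

end K281.ClosedPush
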