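import Groth.Agent.Dix.GmPush
import Groth.Agent.Etbase.PushExact
import Groth.Agent.Etbase.EtAffCover
import Groth.Prelude.Def_EtLim

/-!
# `G_m → i_* G_m` is an epimorphism for a closed immersion
-/

set_option autoImplicit false
universe u

open CategoryTheory CategoryTheory.Limits AlgebraicGeometry Opposite

namespace K281.ClosedGm

open Groth.Agent.Dix.GmPush Groth.Agent.CurvesA.MuConst

variable {Z X : Scheme.{u}}

theorem GmPush_eq (i : Z ⟶ X) : EtLim.GmPush i = gmToPush i := rfl

theorem val_gmPush (i : Z ⟶ X) (U : X.Etale) (s : EtCoh.sect (EtCoh.Gm X) U) :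
    ((unitOf (X := Z) (U := (EtCoh.bc i).obj U) ((EtLim.GmPush i).hom.app (op U) s) :
        Γ(((EtCoh.bc i).obj U).left, ⊤)ˣ) : Γ(((EtCoh.bc i).obj U).left, ⊤)) =
      (proj i U).appTop.hom (unitOf s : Γ(U.left, ⊤)) := rfl

theorem val_push_map (i : Z ⟶ X) {U V : X.Etale} (g : V ⟶ U)
    (s : EtCoh.sect ((EtCoh.push i).obj (EtCoh.Gm Z)) U) :
    ((unitOf (X := Z) (U := (EtCoh.bc i).obj V)
      (((EtCoh.push i).obj (EtCoh.Gm Z)).obj.map g.op s) :
        Γ(((EtCoh.bc i).obj V).left, ⊤)ˣ) : Γ(((EtCoh.bc i).obj V).left, ⊤)) =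
      ((EtCoh.bc i).map g).left.appTop.hom
        (unitOf (X := Z) (U := (EtCoh.bc i).obj U) s : Γ(((EtCoh.bc i).obj U).left, ⊤)) := rfl

theorem proj_map (i : Z ⟶ X) {U V : X.Etale} (g : V ⟶ U) (a : Γ(U.left, ⊤)) :
    ((EtCoh.bc i).map g).left.appTop.hom ((proj i U).appTop.hom a) =
      (proj i V).appTop.hom (g.left.appTop.hom a) := by
  have h := bc_map_proj i g
  have h1 := congrArg (fun k => k.appTop.hom a) h
  simp only [Scheme.Hom.comp_appTop] at h1
  exact h1

/-- An open subscheme of an étale `X`-scheme. -/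
noncomputable def opn (W : X.Etale) (V : W.left.Opens) : X.Etale :=
  have : Etale W.hom := W.prop
  Scheme.Etale.mk (V.ι ≫ W.hom)

noncomputable def opnι (W : X.Etale) (V : W.left.Opens) : opn W V ⟶ W :=
  MorphismProperty.Over.homMk V.ι rfl

theorem opnι_left (W : X.Etale) (V : W.left.Opens) : (opnι W V).left = V.ι := rfl

theorem isUnit_opnι (W : X.Etale) (f : Γ(W.left, ⊤)) :
    IsUnit ((opnι W (W.left.basicOpen f)).left.appTop.hom f) := by
  rw [opnι_left]
  have h := RingedSpace.isUnit_res_basicOpen W.left.toRingedSpace (U := ⊤) f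
  have h2 : (W.left.basicOpen f).ι.appTop.hom f = (Scheme.Opens.topIso _).inv.hom
      ((W.left.presheaf.map (homOfLE (W.left.basicOpen_le f)).op).hom f) := by
    have h3 : (W.left.basicOpen f).ι.appTop = W.left.presheaf.map (homOfLE (W.left.basicOpen_le f)).op ≫
        (Scheme.Opens.topIso (W.left.basicOpen f)).inv := by
      simp only [Scheme.Opens.topIso_inv, Scheme.Opens.ι_appTop]
      refine Eq.trans ?_ (W.left.presheaf.map_comp _ _)
      rfl
    rw [h3]
    rfl
  exact h2 ▸ (h.map (Scheme.Opens.topIso (W.left.basicOpen f)).inv.hom)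

theorem mem_range_opnι (W : X.Etale) (f : Γ(W.left, ⊤)) (w : W.left)
    (hw : w ∈ W.left.basicOpen f) :
    ∃ v : (opn W (W.left.basicOpen f)).left, (opnι W (W.left.basicOpen f)).left v = w :=
  ⟨(⟨w, hw⟩ : (W.left.basicOpen f).toScheme), rfl⟩

/-- Units lift locally along a closed immersion. -/
theorem exists_lift (i : Z ⟶ X) [IsClosedImmersion i] (W : X.Etale) [IsAffine W.left]
    (s : EtCoh.sect ((EtCoh.push i).obj (EtCoh.Gm Z)) W) (w : W.left) :
    ∃ (V : X.Etale) (g : V ⟶ W) (v : V.left) (_ : g.left v = w) (t : (EtCoh.Gm X).obj.obj (op V)),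
      (EtLim.GmPush i).hom.app (op V) t = ((EtCoh.push i).obj (EtCoh.Gm Z)).obj.map g.op s := by
  have hcl : IsClosedImmersion (proj i W) :=
    MorphismProperty.of_isPullback (isPullback i W).flip ‹IsClosedImmersion i›
  have hsurj := (IsClosedImmersion.isAffine_surjective_of_isAffine (proj i W)).2
  let u : (Γ(((EtCoh.bc i).obj W).left, ⊤))ˣ := unitOf (X := Z) (U := (EtCoh.bc i).obj W) s
  obtain ⟨f, hf⟩ := hsurj (u : Γ(((EtCoh.bc i).obj W).left, ⊤))
  obtain ⟨f', hf'⟩ := hsurj ((u⁻¹ : (Γ(((EtCoh.bc i).obj W).left, ⊤))ˣ) : Γ(((EtCoh.bc i).obj W).left, ⊤))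
  by_cases hw : w ∈ W.left.basicOpen (f * f')
  · obtain ⟨v, hv⟩ := mem_range_opnι W (f * f') w hw
    let g := opnι W (W.left.basicOpen (f * f'))
    have hu := isUnit_opnι W (f * f')
    rw [map_mul] at hu
    have hu' : IsUnit (g.left.appTop.hom f) := isUnit_of_mul_isUnit_left hu
    refine ⟨opn W (W.left.basicOpen (f * f')), g, v, hv, ofUnit hu'.unit, ?_⟩
    apply unitOf_injective (X := Z) (U := (EtCoh.bc i).obj (opn W (W.left.basicOpen (f * f'))))
    apply Units.ext
    refine (val_gmPush i _ (ofUnit hu'.unit)).trans ?_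
    refine Eq.trans ?_ (val_push_map i g s).symm
    refine (proj_map i g f).symm.trans ?_
    exact congrArg _ hf
  · have hw' : w ∈ W.left.basicOpen (1 - f * f') := by
      rw [Scheme.mem_basicOpen_top] at hw ⊢
      have : (W.left.presheaf.germ ⊤ w trivial).hom (1 - f * f') =
          1 - (W.left.presheaf.germ ⊤ w trivial).hom (f * f') := by rw [map_sub, map_one]
      change IsUnit ((W.left.presheaf.germ ⊤ w trivial).hom (1 - f * f'))
      rw [this]
      exact (IsLocalRing.isUnit_or_isUnit_one_sub_self _).resolve_left hw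
    obtain ⟨v, hv⟩ := mem_range_opnι W (1 - f * f') w hw'
    let g := opnι W (W.left.basicOpen (1 - f * f'))
    have hu := isUnit_opnι W (1 - f * f')
    have h0 : (proj i W).appTop.hom (1 - f * f') = 0 := by
      rw [map_sub, map_mul, map_one]
      change 1 - (proj i W).appTop f * (proj i W).appTop f' = 0
      rw [hf, hf', Units.mul_inv, sub_self]
    have h1 := (map_zero ((EtCoh.bc i).map g).left.appTop.hom).symm.trans
      ((congrArg ((EtCoh.bc i).map g).left.appTop.hom h0.symm).trans (proj_map i g (1 - f * f')))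
    have hu2 := hu.map (proj i (opn W (W.left.basicOpen (1 - f * f')))).appTop.hom
    have h2 : IsUnit (0 : Γ(((EtCoh.bc i).obj (opn W (W.left.basicOpen (1 - f * f')))).left, ⊤)) :=
      (congrArg IsUnit h1).mpr hu2
    have h3 : Subsingleton Γ(((EtCoh.bc i).obj (opn W (W.left.basicOpen (1 - f * f')))).left, ⊤) := by
      rw [isUnit_zero_iff] at h2
      exact subsingleton_of_zero_eq_one h2
    refine ⟨opn W (W.left.basicOpen (1 - f * f')), g, v, hv, 0, ?_⟩
    apply unitOf_injective (X := Z) (U := (EtCoh.bc i).obj (opn W (W.left.basicOpen (1 - f * f'))))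
    apply Units.ext
    exact Subsingleton.elim _ _

theorem epi_gmPush (i : Z ⟶ X) [IsClosedImmersion i] : Epi (EtLim.GmPush i) := by
  rw [Groth.Agent.Etbase.PushExact.epi_iff]
  intro U s x
  obtain ⟨Y, g, y, -, hY, hy⟩ := Groth.Agent.Etbase.EtAffCover.exists_affine_of_mem
    (X.smallEtaleTopology.top_mem U) x
  obtain ⟨V, g', v, hv, t, ht⟩ := exists_lift i Y
    (((EtCoh.push i).obj (EtCoh.Gm Z)).obj.map g.op s) y
  refine ⟨V, g' ≫ g, v, ?_, t, ?_⟩
  · change g.left (g'.left v) = x
    rw [hv, hy]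
  · rw [ht, op_comp, Functor.map_comp]
    rfl

end K281.ClosedGm
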