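import Groth.Agent.Dix.K281.HensCech
import Groth.Agent.Dix.K281.ClosedGm
import Groth.Agent.CalgB.HensPair

/-!
# `H^n(Spec A, G_m) → H^n(Spec A/I, G_m)` for a henselian local ring
-/

set_option autoImplicit false
universe u

open CategoryTheory CategoryTheory.Limits AlgebraicGeometry Opposite Simplicial
open scoped TensorProduct

namespace K281.HensGm

open Groth.Agent.Etbase.CechCartan Groth.Agent.Etbase.EtCartan
  Groth.Agent.Sga4A.HensClosed Groth.Agent.Dix.GmPush Groth.Agent.CurvesA.MuConst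
  UnitCob UnitCobHens HensCech ClosedGm

variable {A : Type u} [CommRing A]

section fin

theorem finite_of_isFinite {X : Scheme.{u}} (f : X ⟶ Spec (CommRingCat.of A)) [hf : IsFinite f] :
    ((Scheme.ΓSpecIso (CommRingCat.of A)).inv ≫ f.appTop).hom.Finite := by
  have h1 : f.appTop.hom.Finite := hf.finite_app ⊤ (isAffineOpen_top _)
  rw [CommRingCat.hom_comp]
  refine h1.comp (RingHom.Finite.of_surjective _ ?_)
  exact (ConcreteCategory.bijective_of_isIso (Scheme.ΓSpecIso (CommRingCat.of A)).inv).2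

theorem flat_of_flat {X : Scheme.{u}} [IsAffine X] (f : X ⟶ Spec (CommRingCat.of A)) [hf : Flat f] :
    ((Scheme.ΓSpecIso (CommRingCat.of A)).inv ≫ f.appTop).hom.Flat := by
  have h1 : f.appTop.hom.Flat := (HasRingHomProperty.iff_of_isAffine (P := @Flat)).1 hf
  rw [CommRingCat.hom_comp]
  refine RingHom.Flat.comp (RingHom.Flat.of_bijective ?_) h1
  exact (ConcreteCategory.bijective_of_isIso (Scheme.ΓSpecIso (CommRingCat.of A)).inv)

variable (W : (Spec (CommRingCat.of A)).Etale)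

theorem isAffine_of_isFinite' {X : Scheme.{u}} (f : X ⟶ Spec (CommRingCat.of A)) (hf : IsFinite f) :
    IsAffine X := isAffine_of_isAffineHom f

theorem isAffine_of_finite (hW : IsFinite W.hom) : IsAffine W.left :=
  isAffine_of_isFinite' (X := W.left) W.hom hW

theorem module_finite (hW : IsFinite W.hom) : Module.Finite A Γ(W.left, ⊤) :=
  RingHom.finite_algebraMap.1 (finite_of_isFinite (X := W.left) (hf := hW) W.hom)

theorem flat_of_etale {X : Scheme.{u}} (f : X ⟶ Spec (CommRingCat.of A)) (hf : Etale f) : Flat f :=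
  inferInstance

theorem module_flat (h : IsAffine W.left) : Module.Flat A Γ(W.left, ⊤) :=
  RingHom.flat_algebraMap_iff.1 (flat_of_flat (X := W.left) (hf := flat_of_etale (X := W.left) W.hom W.prop)
    W.hom)

end fin

theorem isoSpec_inv_comp {X : Scheme.{u}} [IsAffine X] (f : X ⟶ Spec (CommRingCat.of A)) :
    X.isoSpec.inv ≫ f =
      Spec.map (CommRingCat.ofHom ((Scheme.ΓSpecIso (CommRingCat.of A)).inv ≫ f.appTop).hom) := by
  rw [← Scheme.isoSpec_inv_naturality, Scheme.isoSpec_Spec_inv, ← Spec.map_comp]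
  rfl

section quot

variable (I : Ideal A)

/-- The closed immersion `Spec A/I → Spec A`. -/
noncomputable abbrev jj : Spec (CommRingCat.of (A ⧸ I)) ⟶ Spec (CommRingCat.of A) :=
  Spec.map (CommRingCat.ofHom (Ideal.Quotient.mk I))

instance : IsClosedImmersion (jj I) :=
  IsClosedImmersion.spec_of_surjective _ Ideal.Quotient.mk_surjective

variable (W : (Spec (CommRingCat.of A)).Etale)

theorem exists_back [IsAffine W.left] :
    ∃ ρ : Γ(((EtCoh.bc (jj I)).obj W).left, ⊤) →+* (A ⧸ I) ⊗[A] Γ(W.left, ⊤),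
      ∀ c : Γ(W.left, ⊤), ρ ((proj (jj I) W).appTop.hom c) = 1 ⊗ₜ c := by
  let T := (A ⧸ I) ⊗[A] Γ(W.left, ⊤)
  let t : Spec (CommRingCat.of T) ⟶ W.left :=
    Spec.map (CommRingCat.ofHom (Algebra.TensorProduct.includeRight : Γ(W.left, ⊤) →ₐ[A] T).toRingHom) ≫
      W.left.isoSpec.inv
  let s : Spec (CommRingCat.of T) ⟶ Spec (CommRingCat.of (A ⧸ I)) :=
    Spec.map (CommRingCat.ofHom (Algebra.TensorProduct.includeLeftRingHom : (A ⧸ I) →+* T))
  have hst : t ≫ W.hom = s ≫ jj I := by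
    have h1 : W.left.isoSpec.inv ≫ W.hom = Spec.map (CommRingCat.ofHom (algebraMap A Γ(W.left, ⊤))) :=
      isoSpec_inv_comp (X := W.left) W.hom
    rw [Category.assoc, h1, ← Spec.map_comp, ← Spec.map_comp, ← CommRingCat.ofHom_comp,
      ← CommRingCat.ofHom_comp]
    congr 2
    ext a
    change (1 : A ⧸ I) ⊗ₜ[A] (algebraMap A Γ(W.left, ⊤) a) = (Ideal.Quotient.mk I a) ⊗ₜ[A] 1
    exact (Algebra.TensorProduct.tmul_one_eq_one_tmul a).symm
  let k : Spec (CommRingCat.of T) ⟶ ((EtCoh.bc (jj I)).obj W).left :=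
    (isPullback (jj I) W).lift t s hst
  have hk : k ≫ proj (jj I) W = t := (isPullback (jj I) W).lift_fst _ _ _
  refine ⟨(k.appTop ≫ (Scheme.ΓSpecIso (CommRingCat.of T)).hom).hom, fun c => ?_⟩
  have h1 : (proj (jj I) W).appTop ≫ k.appTop ≫ (Scheme.ΓSpecIso (CommRingCat.of T)).hom =
      CommRingCat.ofHom (Algebra.TensorProduct.includeRight : Γ(W.left, ⊤) →ₐ[A] T).toRingHom := by
    rw [← Category.assoc, ← Scheme.Hom.comp_appTop, hk]
    change (Spec.map (CommRingCat.ofHom (Algebra.TensorProduct.includeRight : Γ(W.left, ⊤) →ₐ[A] T).toRingHom) ≫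
      W.left.isoSpec.inv).appTop ≫ _ = _
    rw [Scheme.Hom.comp_appTop, Category.assoc, Scheme.ΓSpecIso_naturality]
    have h5 : W.left.isoSpec.inv.appTop ≫ (Scheme.ΓSpecIso Γ(W.left, ⊤)).hom = 𝟙 _ := by
      rw [← Scheme.toSpecΓ_appTop]
      change W.left.isoSpec.inv.appTop ≫ W.left.isoSpec.hom.appTop = 𝟙 _
      rw [← Scheme.Hom.comp_appTop, Iso.hom_inv_id]
      rfl
    exact (Category.assoc _ _ _).symm.trans ((congrArg (· ≫ _) h5).trans (Category.id_comp _))
  exact congrArg (fun z => z.hom c) h1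

theorem exists_fwd :
    ∃ κ : (A ⧸ I) ⊗[A] Γ(W.left, ⊤) →+* Γ(((EtCoh.bc (jj I)).obj W).left, ⊤),
      ∀ c : Γ(W.left, ⊤), κ (1 ⊗ₜ c) = (proj (jj I) W).appTop.hom c := by
  let P := Γ(((EtCoh.bc (jj I)).obj W).left, ⊤)
  let : Algebra A P := ((proj (jj I) W).appTop.hom.comp (algebraMap A Γ(W.left, ⊤))).toAlgebra
  let r : Γ(W.left, ⊤) →ₐ[A] P := { (proj (jj I) W).appTop.hom with commutes' := fun a => rfl }
  let q : (A ⧸ I) →ₐ[A] P :=
    { ((Scheme.ΓSpecIso (CommRingCat.of (A ⧸ I))).inv ≫ (projY (jj I) W).appTop).hom with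
      commutes' := by
        intro a
        have h := (isPullback (jj I) W).w
        have h2 : W.hom.appTop ≫ (proj (jj I) W).appTop = (jj I).appTop ≫ (projY (jj I) W).appTop :=
          congrArg (fun z => z.appTop) h
        have h3 : (Scheme.ΓSpecIso (CommRingCat.of A)).inv ≫ (jj I).appTop =
            CommRingCat.ofHom (Ideal.Quotient.mk I) ≫ (Scheme.ΓSpecIso (CommRingCat.of (A ⧸ I))).inv :=
          (Scheme.ΓSpecIso_inv_naturality _).symm
        have h4 : (CommRingCat.ofHom (Ideal.Quotient.mk I) ≫ (Scheme.ΓSpecIso (CommRingCat.of (A ⧸ I))).inv) ≫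
            (projY (jj I) W).appTop = ((Scheme.ΓSpecIso (CommRingCat.of A)).inv ≫ W.hom.appTop) ≫
              (proj (jj I) W).appTop := by
          rw [← h3, Category.assoc, Category.assoc, h2]
        exact congrArg (fun z => z.hom a) h4 }
  refine ⟨(Algebra.TensorProduct.lift q r (fun _ _ => Commute.all _ _)).toRingHom, fun c => ?_⟩
  change (Algebra.TensorProduct.lift q r (fun _ _ => Commute.all _ _)) (1 ⊗ₜ c) = r c
  simp

end quot

section plain

variable {C0 C1 : Type u} [CommRing C0] [Algebra A C0] [CommRing C1] [Algebra A C1]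
  {p : ℕ} (a : Fin p → (C0 →ₐ[A] C1))

/-- the multiplicative differential without coefficients -/
noncomputable def d0 (u : C0ˣ) : C1ˣ := ∏ i, (Units.map (a i : C0 →* C1) u) ^ ((-1 : ℤ) ^ (i : ℕ))

theorem dU_xA (B : Type u) [CommRing B] [Algebra A B] (u : C0ˣ) :
    dU B a (xA B u) = xA B (d0 a u) := by
  rw [dU_apply, d0]
  change _ = Units.map (Algebra.TensorProduct.includeRight : C1 →ₐ[A] B ⊗[A] C1).toRingHom.toMonoidHom
    (∏ i, (Units.map (a i : C0 →* C1) u) ^ ((-1 : ℤ) ^ (i : ℕ)))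
  rw [map_prod]
  refine Finset.prod_congr rfl fun i _ => ?_
  rw [map_zpow]
  congr 1

theorem exists_xA (y : (A ⊗[A] C0)ˣ) : ∃ y₀ : C0ˣ, xA A y₀ = y := by
  refine ⟨Units.map (Algebra.TensorProduct.lid A C0 : A ⊗[A] C0 →* C0) y, ?_⟩
  apply Units.ext
  change (1 : A) ⊗ₜ[A] (Algebra.TensorProduct.lid A C0 (y : A ⊗[A] C0)) = y
  exact (Algebra.TensorProduct.lid A C0).symm_apply_apply _

theorem xA_injective : Function.Injective (xA (R := A) (C1 := C0) A) := by
  intro u v h
  apply Units.ext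
  have h1 : (1 : A) ⊗ₜ[A] (u : C0) = 1 ⊗ₜ[A] (v : C0) := congrArg Units.val h
  simpa using congrArg (Algebra.TensorProduct.lid A C0) h1

end plain

section main

variable [HenselianLocalRing A] (I : Ideal A) (hI : I ≠ ⊤)
  {V U : (Spec (CommRingCat.of A)).Etale} (f : V ⟶ U)

theorem affCov (hf : Cov _ f) : AffCov f :=
  ⟨isAffine_of_finite V hf.1, isAffine_of_finite U hf.2.1, hf.2.2.surj⟩

theorem unitOf_dC (n : ℕ) (x : EtCoh.sect (EtCoh.Gm (Spec (CommRingCat.of A))) ((Arrow.mk f).cechNerve _⦋n⦌)) :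
    unitOf (X := Spec (CommRingCat.of A)) (U := (Arrow.mk f).cechNerve _⦋n + 1⦌)
      (dC (EtCoh.Gm (Spec (CommRingCat.of A))).obj (Arrow.mk f).cechNerve n x) =
      d0 (aa f n) (unitOf x) := by
  have h1 : ∀ (W : (Spec (CommRingCat.of A)).Etale) (m : ℤ)
      (s : EtCoh.sect (EtCoh.Gm (Spec (CommRingCat.of A))) W), unitOf (m • s) = unitOf s ^ m :=
    fun W m s => rfl
  have h2 : ∀ (W : (Spec (CommRingCat.of A)).Etale) (t : Finset (Fin (n + 2)))
      (s : Fin (n + 2) → EtCoh.sect (EtCoh.Gm (Spec (CommRingCat.of A))) W),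
      unitOf (∑ i ∈ t, s i) = ∏ i ∈ t, unitOf (s i) := by
    intro W t s
    classical
    induction t using Finset.induction_on with
    | empty => rfl
    | insert a t ha ih => rw [Finset.sum_insert ha, Finset.prod_insert ha, unitOf_add, ih]
  refine (congrArg unitOf (dC_apply _ _ _ _)).trans ((h2 _ _ _).trans ?_)
  rw [d0]
  refine Finset.prod_congr rfl fun i _ => ?_
  refine (h1 _ _ _).trans ?_
  congr 1

include hI in
theorem exists_cob' (hf : Cov _ f) (n : ℕ)
    (x : EtCoh.sect (EtCoh.Gm (Spec (CommRingCat.of A))) ((Arrow.mk f).cechNerve _⦋n + 1⦌))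
    (hx : dC (EtCoh.Gm (Spec (CommRingCat.of A))).obj (Arrow.mk f).cechNerve (n + 1) x = 0)
    (hx0 : (EtLim.GmPush (jj I)).hom.app (op ((Arrow.mk f).cechNerve _⦋n + 1⦌)) x = 0) :
    ∃ y : EtCoh.sect (EtCoh.Gm (Spec (CommRingCat.of A))) ((Arrow.mk f).cechNerve _⦋n⦌),
      (EtLim.GmPush (jj I)).hom.app (op ((Arrow.mk f).cechNerve _⦋n⦌)) y = 0 ∧
      dC (EtCoh.Gm (Spec (CommRingCat.of A))).obj (Arrow.mk f).cechNerve n y = x := by
  have hfin : ∀ m, Module.Finite A (CC f m) := fun m =>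
    module_finite _ (isFinite_cechNerve hf.1 hf.2.1 f m)
  have haff : ∀ m, IsAffine ((Arrow.mk f).cechNerve _⦋m⦌ : (Spec (CommRingCat.of A)).Etale).left :=
    fun m => isAffine_of_finite _ (isFinite_cechNerve hf.1 hf.2.1 f m)
  have hflat : ∀ m, Module.Flat A (CC f m) := fun m => module_flat _ (haff m)
  have hfree : ∀ m, Module.Free A (CC f m) := fun m => Module.free_of_flat_of_isLocalRing
  have hle : I ≤ IsLocalRing.maximalIdeal A := IsLocalRing.le_maximalIdeal hI
  have hH : HenselianRing A I :=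
    Groth.Agent.CalgB.HensPair.henselian_of_le (J := IsLocalRing.maximalIdeal A) inferInstance hle
  obtain ⟨y, hy1, hy2⟩ := exists_cob (aa f n) (aa f (n + 1)) (exactL f (affCov f hf) n)
    (fun B _ _ y => dU_dU f B n y) I (unitOf x) (by
      have h1 := unitOf_dC f (n + 1) x
      rw [hx] at h1
      rw [dU_xA]
      refine (congrArg _ h1.symm).trans ?_
      exact map_one _) (by
      obtain ⟨ρ, hρ⟩ := exists_back I ((Arrow.mk f).cechNerve _⦋n + 1⦌)
      apply Units.ext
      change (1 : A ⧸ I) ⊗ₜ[A] ((unitOf x : (CC f (n + 1))ˣ) : CC f (n + 1)) = 1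
      refine (hρ _).symm.trans ?_
      have h2 := congrArg (fun z => (unitOf (X := Spec (CommRingCat.of (A ⧸ I)))
        (U := (EtCoh.bc (jj I)).obj ((Arrow.mk f).cechNerve _⦋n + 1⦌)) z).val) hx0
      have h3 : (proj (jj I) ((Arrow.mk f).cechNerve _⦋n + 1⦌)).appTop.hom
          ((unitOf x : (CC f (n + 1))ˣ) : CC f (n + 1)) = 1 := h2
      exact (congrArg ρ h3).trans (map_one ρ))
  obtain ⟨y₀, rfl⟩ := exists_xA y
  refine ⟨ofUnit y₀, ?_, ?_⟩
  · obtain ⟨κ, hκ⟩ := exists_fwd I ((Arrow.mk f).cechNerve _⦋n⦌)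
    apply unitOf_injective (X := Spec (CommRingCat.of (A ⧸ I)))
        (U := (EtCoh.bc (jj I)).obj ((Arrow.mk f).cechNerve _⦋n⦌))
    apply Units.ext
    refine (hκ (y₀ : CC f n)).symm.trans ?_
    have h1 : (1 : A ⧸ I) ⊗ₜ[A] (y₀ : CC f n) = 1 := by
      have := congrArg Units.val hy1
      rw [bc_xA] at this
      exact this
    exact (congrArg κ h1).trans (map_one κ)
  · apply unitOf_injective
    refine (unitOf_dC f n _).trans ?_
    rw [dU_xA] at hy2
    exact xA_injective hy2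

/-- The kernel of `G_m → i_* G_m` is Čech acyclic for finite étale covers. -/
theorem cechAcyc_ker (hI : I ≠ ⊤) : CechAcyc (Cov (Spec (CommRingCat.of A)))
    (kernel (EtLim.GmPush (jj I))).obj := by
  intro V U f hf n x hx
  have := epi_gmPush (jj I)
  have hS : (ShortComplex.mk (kernel.ι (EtLim.GmPush (jj I))) (EtLim.GmPush (jj I))
      (kernel.condition _)).ShortExact :=
    { exact := ShortComplex.exact_of_f_is_kernel _ (kernelIsKernel _) }
  have hE := fun W => ses_eval.{u + 1, u, u + 1} (kernel.ι (EtLim.GmPush (jj I)))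
    (EtLim.GmPush (jj I)) (kernel.condition _) hS W
  obtain ⟨y, hy0, hy⟩ := exists_cob' I hI f hf n ((kernel.ι (EtLim.GmPush (jj I))).hom.app _ x) (by
    rw [← dC_naturality_apply, hx, map_zero]) ((hE _).2.2 x)
  obtain ⟨y', rfl⟩ := (hE _).2.1 y hy0
  refine ⟨y', ?_⟩
  apply (hE _).1
  rw [dC_naturality_apply]
  exact hy

end main

end K281.HensGm
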