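import Groth.Agent.Dix.K281.AzSpread

/-!
# Azumaya algebras are split by a finite étale cover locally on the base
-/

set_option autoImplicit false
universe u v w

open TensorProduct Polynomial IsLocalRing

namespace K281.AzEtaleSplit

open K281.AzSpread K280

variable {R : Type u} [CommRing R] {A : Type u} [Ring A] [Algebra R A]

/-- Clearing denominators in a tensor product with a localization. -/
theorem exists_smul_eq (S : Submonoid R) (R' : Type u) [CommRing R'] [Algebra R R']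
    [IsLocalization S R'] (z : R' ⊗[R] A) : ∃ s ∈ S, ∃ a : A, (algebraMap R R' s) • z = 1 ⊗ₜ a := by
  obtain ⟨⟨a, s⟩, h⟩ := IsLocalizedModule.surj S (TensorProduct.mk R R' A 1) z
  refine ⟨s, s.2, a, ?_⟩
  rw [algebraMap_smul]
  exact h

/-- A relation over a localization can be cleared. -/
theorem exists_relation (S : Submonoid R) (R' : Type u) [CommRing R'] [Algebra R R']
    [IsLocalization S R'] (r : ℕ) (hr : 0 < r) (a : A) (c : Fin r → R')
    (h : ∑ i : Fin r, c i • ((1 : R') ⊗ₜ[R] a) ^ (i : ℕ) = ((1 : R') ⊗ₜ[R] a) ^ r) :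
    ∃ σ ∈ S, ∃ e : Fin r → R, ∑ i : Fin r, e i • (σ • a) ^ (i : ℕ) = (σ • a) ^ r := by
  obtain ⟨⟨s, hs⟩, h1⟩ := IsLocalization.exist_integer_multiples_of_finite S c
  choose d hd using h1
  have h2 : TensorProduct.mk R R' A 1 (∑ i : Fin r, d i • a ^ (i : ℕ)) =
      TensorProduct.mk R R' A 1 (s • a ^ r) := by
    rw [map_sum, map_smul]
    simp only [map_smul, TensorProduct.mk_apply]
    have h3 : (1 : R') ⊗ₜ[R] (a ^ r) = ((1 : R') ⊗ₜ[R] a) ^ r := by
      rw [Algebra.TensorProduct.tmul_pow, one_pow]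
    rw [h3, ← h, Finset.smul_sum]
    refine Finset.sum_congr rfl fun i _ => ?_
    rw [← smul_assoc, Algebra.TensorProduct.tmul_pow, one_pow]
    have h4 := hd i
    change algebraMap R R' (d i) = s • c i at h4
    rw [← h4, algebraMap_smul]
  obtain ⟨⟨t, ht⟩, h5⟩ := (IsLocalizedModule.eq_iff_exists S (TensorProduct.mk R R' A 1)).1 h2
  have h6 : ∑ i : Fin r, (t * d i) • a ^ (i : ℕ) = (t * s) • a ^ r := by
    have h7 : t • ∑ i : Fin r, d i • a ^ (i : ℕ) = t • s • a ^ r := h5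
    rw [Finset.smul_sum] at h7
    simpa only [mul_smul] using h7
  refine ⟨t * s, S.mul_mem ht hs, fun i => (t * s) ^ (r - 1 - (i : ℕ)) * (t * d i), ?_⟩
  have h8 : ((t * s) • a) ^ r = (t * s) ^ (r - 1) • ((t * s) • a ^ r) := by
    rw [smul_pow, ← mul_smul, ← pow_succ, Nat.sub_add_cancel hr]
  rw [h8, ← h6, Finset.smul_sum]
  refine Finset.sum_congr rfl fun i _ => ?_
  rw [smul_pow, ← mul_smul, ← mul_smul]
  congr 1
  have h9 : (r - 1) = (r - 1 - (i : ℕ)) + i := by
    have := i.2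
    omega
  conv_rhs => rw [h9, pow_add]
  ring

theorem adjoin_smul {k : Type u} [Field k] {B : Type v} [Ring B] [Algebra k B] {c : k} (hc : c ≠ 0)
    (x : B) : Algebra.adjoin k ({c • x} : Set B) = Algebra.adjoin k ({x} : Set B) := by
  apply le_antisymm
  · rw [Algebra.adjoin_le_iff, Set.singleton_subset_iff]
    exact Subalgebra.smul_mem _ (Algebra.self_mem_adjoin_singleton k x) c
  · rw [Algebra.adjoin_le_iff, Set.singleton_subset_iff]
    have h := Subalgebra.smul_mem _ (Algebra.self_mem_adjoin_singleton k (c • x)) c⁻¹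
    rwa [smul_smul, inv_mul_cancel₀ hc, one_smul] at h

theorem regular_smul {k : Type u} [Field k] {B : Type v} [Ring B] [Algebra k B]
    [FiniteDimensional k B] {c : k} (hc : c ≠ 0) (x : B) (r : ℕ)
    (h : IsSeparable k x ∧ (minpoly k x).natDegree = r) :
    IsSeparable k (c • x) ∧ (minpoly k (c • x)).natDegree = r := by
  have h1 : IsSeparable k (c • x) := by
    rw [← EtaleSub.isSeparable_adjoin_singleton_iff, adjoin_smul hc,
      EtaleSub.isSeparable_adjoin_singleton_iff]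
    exact h.1
  refine ⟨h1, ?_⟩
  rw [← EtaleSub.finrank_adjoin_singleton h1.isIntegral, adjoin_smul hc,
    EtaleSub.finrank_adjoin_singleton h.1.isIntegral, h.2]

variable [IsAzumaya R A] (p : Ideal R) [p.IsPrime]

/-- Existence of the regular section with an exact relation over the base. -/
theorem exists_section : ∃ (r : ℕ) (ξ : A) (P : R[X]), 0 < r ∧
    Module.finrank (Localization.AtPrime p) (Localization.AtPrime p ⊗[R] A) = r ^ 2 ∧
    P.Monic ∧ P.natDegree = r ∧ aeval ξ P = 0 ∧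
    IsSeparable (ResidueField (Localization.AtPrime p))
      ((1 : ResidueField (Localization.AtPrime p)) ⊗ₜ[Localization.AtPrime p]
        ((1 : Localization.AtPrime p) ⊗ₜ[R] ξ)) ∧
    (minpoly (ResidueField (Localization.AtPrime p))
      ((1 : ResidueField (Localization.AtPrime p)) ⊗ₜ[Localization.AtPrime p]
        ((1 : Localization.AtPrime p) ⊗ₜ[R] ξ))).natDegree = r := by
  set Rp := Localization.AtPrime p
  set k := ResidueField Rp
  have hAz : IsAzumaya Rp (Rp ⊗[R] A) := K444.AzOps.isAzumaya_baseChange (R := R) Rp (A := A)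
  have hfree : Module.Free Rp (Rp ⊗[R] A) := Module.free_of_flat_of_isLocalRing
  obtain ⟨h1, h2, h3⟩ := AzFibre.fibre Rp (Rp ⊗[R] A) k
  obtain ⟨r, hr⟩ := Groth.Agent.S0192.result k (k ⊗[Rp] (Rp ⊗[R] A))
  rw [← pow_two] at hr
  have hnt : Nontrivial (k ⊗[Rp] (Rp ⊗[R] A)) := inferInstance
  have hr0 : 0 < r := by
    rcases Nat.eq_zero_or_pos r with rfl | h
    · have h4 : 0 < Module.finrank k (k ⊗[Rp] (Rp ⊗[R] A)) := Module.finrank_pos
      rw [hr] at h4
      simp at h4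
    · exact h
  have hrk : Module.finrank Rp (Rp ⊗[R] A) = r ^ 2 := by
    rw [← hr]
    exact (Module.finrank_baseChange (R := k) (S := Rp) (M' := Rp ⊗[R] A)).symm
  obtain ⟨x, hx, hd⟩ := CsaGen.exists_gen k (k ⊗[Rp] (Rp ⊗[R] A)) r hr
  obtain ⟨ξ₀, rfl⟩ : ∃ ξ : Rp ⊗[R] A, (1 : k) ⊗ₜ[Rp] ξ = x :=
    TensorProduct.mk_surjective Rp (Rp ⊗[R] A) k Ideal.Quotient.mk_surjective x
  obtain ⟨s, hs, a, ha⟩ := exists_smul_eq p.primeCompl Rp ξ₀
  have hunit : ∀ {s : R}, s ∈ p.primeCompl → algebraMap R Rp s ∉ maximalIdeal Rp := by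
    intro s hs h
    exact hs ((IsLocalization.AtPrime.to_map_mem_maximal_iff Rp p s).1 h)
  have hne : ∀ {s : R}, s ∈ p.primeCompl → algebraMap Rp k (algebraMap R Rp s) ≠ 0 := by
    intro s hs h
    exact hunit hs ((residue_eq_zero_iff _).1 h)
  have ha' : (1 : k) ⊗ₜ[Rp] ((1 : Rp) ⊗ₜ[R] a) =
      (algebraMap Rp k (algebraMap R Rp s)) • ((1 : k) ⊗ₜ[Rp] ξ₀) := by
    rw [← ha, TensorProduct.tmul_smul, algebraMap_smul Rp s, ← algebraMap_smul Rp s]
    exact (algebraMap_smul k (algebraMap R Rp s) _).symm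
  have hreg : IsSeparable k ((1 : k) ⊗ₜ[Rp] ((1 : Rp) ⊗ₜ[R] a)) ∧
      (minpoly k ((1 : k) ⊗ₜ[Rp] ((1 : Rp) ⊗ₜ[R] a))).natDegree = r := by
    rw [ha']
    exact regular_smul (hne hs) _ r ⟨hx, hd⟩
  have hmem := RegSection.mem_span_of_commute Rp (Rp ⊗[R] A) r hrk _ hreg.1 hreg.2
    (((1 : Rp) ⊗ₜ[R] a) ^ r) (by rw [← pow_succ, ← pow_succ'])
  rw [Submodule.mem_span_range_iff_exists_fun] at hmem
  obtain ⟨c, hc⟩ := hmem
  obtain ⟨σ, hσ, e, he⟩ := exists_relation p.primeCompl Rp r hr0 a c hc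
  set ξ : A := σ • a with hξ
  have hξ' : (1 : k) ⊗ₜ[Rp] ((1 : Rp) ⊗ₜ[R] ξ) =
      (algebraMap Rp k (algebraMap R Rp σ)) • ((1 : k) ⊗ₜ[Rp] ((1 : Rp) ⊗ₜ[R] a)) := by
    rw [hξ, TensorProduct.tmul_smul, ← algebraMap_smul Rp σ ((1 : Rp) ⊗ₜ[R] a),
      TensorProduct.tmul_smul]
    exact (algebraMap_smul k (algebraMap R Rp σ) _).symm
  obtain ⟨hsep, hdeg⟩ := regular_smul (hne hσ) _ r hreg
  rw [← hξ'] at hsep hdeg
  set g : R[X] := ∑ i : Fin r, C (e i) * X ^ (i : ℕ) with hg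
  have hgd : g.degree < r := degree_sum_fin_lt e
  have hfm : (X ^ r - g).Monic := monic_X_pow_sub (by simpa using hgd)
  refine ⟨r, ξ, X ^ r - g, hr0, hrk, hfm, ?_, ?_, hsep, hdeg⟩
  · have hR : Nontrivial R := (algebraMap R Rp).domain_nontrivial
    have h4 : g.degree < (X ^ r : R[X]).degree := by rw [degree_X_pow]; exact hgd
    have h5 := degree_sub_eq_left_of_degree_lt h4
    rw [degree_X_pow] at h5
    exact natDegree_eq_of_degree_eq_some h5
  · rw [hg, map_sub, map_sum, map_pow, aeval_X, ← he, sub_eq_zero]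
    refine Finset.sum_congr rfl fun i _ => ?_
    rw [map_mul, aeval_C, map_pow, aeval_X, Algebra.smul_def]

/-- The homomorphism from `R'[X]/(P)` to `R' ⊗ A`. -/
noncomputable def uHom (R' : Type u) [CommRing R'] [Algebra R R'] (ξ : A) (P : R[X])
    (h : aeval ξ P = 0) : AdjoinRoot (P.map (algebraMap R R')) →ₐ[R'] R' ⊗[R] A :=
  Ideal.Quotient.liftₐ (R₁ := R') (Ideal.span {P.map (algebraMap R R')})
    (Polynomial.aeval ((1 : R') ⊗ₜ[R] ξ)) (by
      intro a ha
      obtain ⟨b, rfl⟩ := Ideal.mem_span_singleton'.mp ha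
      have h5 : ((1 : R') ⊗ₜ[R] ξ) =
        Algebra.TensorProduct.includeRight (R := R) (A := R') (B := A) ξ := rfl
      have h6 : aeval ((1 : R') ⊗ₜ[R] ξ) (P.map (algebraMap R R')) = 0 := by
        rw [aeval_map_algebraMap, h5, aeval_algHom_apply, h, map_zero]
      rw [map_mul, h6, mul_zero])

omit [IsAzumaya R A] in
theorem uHom_root (R' : Type u) [CommRing R'] [Algebra R R'] (ξ : A) (P : R[X])
    (h : aeval ξ P = 0) : uHom R' ξ P h (AdjoinRoot.root _) = (1 : R') ⊗ₜ[R] ξ := by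
  have : uHom R' ξ P h (AdjoinRoot.mk _ X) = aeval ((1 : R') ⊗ₜ[R] ξ) (X : R'[X]) := rfl
  rwa [aeval_X, AdjoinRoot.mk_X] at this

end K281.AzEtaleSplit
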