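import Groth.Agent.Dix.K281.AzEtaleSplit

/-!
# Azumaya algebras are split by a finite étale cover locally on the base: end of the proof
-/

set_option autoImplicit false
universe u v w

open TensorProduct Polynomial IsLocalRing

namespace K281.AzEtaleSplit

open K281.AzSpread K280

variable {R : Type u} [CommRing R] {A : Type u} [Ring A] [Algebra R A]

/-- The family `b j * ξ ^ i`. -/
noncomputable def fam (r : ℕ) (ξ : A) (b : Fin r → A) : Fin r × Fin r → A :=
  fun k => b k.2 * ξ ^ (k.1 : ℕ)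

theorem one_tmul_fam (R' : Type u) [CommRing R'] [Algebra R R'] (r : ℕ) (ξ : A) (b : Fin r → A)
    (i j : Fin r) : (1 : R') ⊗ₜ[R] (fam r ξ b (i, j)) =
      ((1 : R') ⊗ₜ[R] b j) * ((1 : R') ⊗ₜ[R] ξ) ^ (i : ℕ) := by
  rw [Algebra.TensorProduct.tmul_pow, Algebra.TensorProduct.tmul_mul_tmul, one_pow, one_mul]
  rfl

variable [IsAzumaya R A] (p : Ideal R) [p.IsPrime]

theorem exists_local_basis (r : ℕ) (ξ : A) (P : R[X])
    (hA : Module.finrank (Localization.AtPrime p) (Localization.AtPrime p ⊗[R] A) = r ^ 2)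
    (hP : P.Monic) (hPd : P.natDegree = r) (hPξ : aeval ξ P = 0)
    (hsep : IsSeparable (ResidueField (Localization.AtPrime p))
      ((1 : ResidueField (Localization.AtPrime p)) ⊗ₜ[Localization.AtPrime p]
        ((1 : Localization.AtPrime p) ⊗ₜ[R] ξ)))
    (hdeg : (minpoly (ResidueField (Localization.AtPrime p))
      ((1 : ResidueField (Localization.AtPrime p)) ⊗ₜ[Localization.AtPrime p]
        ((1 : Localization.AtPrime p) ⊗ₜ[R] ξ))).natDegree = r) :
    (P.map (algebraMap R (Localization.AtPrime p))).Separable ∧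
    ∃ (b : Fin r → A) (B : Module.Basis (Fin r × Fin r) (Localization.AtPrime p)
      (Localization.AtPrime p ⊗[R] A)), ∀ k, B k = 1 ⊗ₜ fam r ξ b k := by
  classical
  set Rp := Localization.AtPrime p
  set k := ResidueField Rp
  have hAz : IsAzumaya Rp (Rp ⊗[R] A) := K444.AzOps.isAzumaya_baseChange (R := R) Rp (A := A)
  have hfree : Module.Free Rp (Rp ⊗[R] A) := Module.free_of_flat_of_isLocalRing
  obtain ⟨h1, h2, h3⟩ := AzFibre.fibre Rp (Rp ⊗[R] A) k
  set f := P.map (algebraMap R Rp) with hf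
  have hfm : f.Monic := hP.map _
  have hfd : f.natDegree = r := by rw [hf, hP.natDegree_map, hPd]
  have hfξ : aeval ((1 : Rp) ⊗ₜ[R] ξ) f = 0 := by
    have h5 : ((1 : Rp) ⊗ₜ[R] ξ) =
      Algebra.TensorProduct.includeRight (R := R) (A := Rp) (B := A) ξ := rfl
    rw [hf, aeval_map_algebraMap, h5, aeval_algHom_apply, hPξ, map_zero]
  have hfbar : aeval ((1 : k) ⊗ₜ[Rp] ((1 : Rp) ⊗ₜ[R] ξ)) (f.map (residue Rp)) = 0 := by
    have h4 : f.map (residue Rp) = f.map (algebraMap Rp k) := rfl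
    rw [h4, aeval_map_algebraMap]
    have h5 : ((1 : k) ⊗ₜ[Rp] ((1 : Rp) ⊗ₜ[R] ξ)) =
      Algebra.TensorProduct.includeRight (R := Rp) (A := k) (B := Rp ⊗[R] A) ((1 : Rp) ⊗ₜ[R] ξ) := rfl
    rw [h5, aeval_algHom_apply, hfξ, map_zero]
  have hfmin : f.map (residue Rp) = minpoly k ((1 : k) ⊗ₜ[Rp] ((1 : Rp) ⊗ₜ[R] ξ)) := by
    refine minpoly.unique_of_degree_le_degree_minpoly _ _ (hfm.map _) hfbar ?_
    rw [hfm.degree_map, degree_eq_natDegree hfm.ne_zero, hfd,
      degree_eq_natDegree (minpoly.ne_zero hsep.isIntegral), hdeg]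
  have hfsep : f.Separable := Groth.Agent.UnramA.Monogenic.separable_of_map_residue f hfm (by
    rw [hfmin]; exact hsep)
  refine ⟨hfsep, ?_⟩
  let u : AdjoinRoot f →ₐ[Rp] Rp ⊗[R] A := uHom Rp ξ P hPξ
  have hur : u (AdjoinRoot.root f) = (1 : Rp) ⊗ₜ[R] ξ := uHom_root Rp ξ P hPξ
  let pb := AdjoinRoot.powerBasis' hfm
  have hpbd : pb.dim = r := by rw [AdjoinRoot.powerBasis'_dim, hfd]
  have : Module.Finite Rp (AdjoinRoot f) := pb.finite
  have : Module.Free Rp (AdjoinRoot f) := Module.Free.of_basis pb.basis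
  have : Algebra.Etale Rp (AdjoinRoot f) :=
    Groth.Agent.Flat2E.FinEtaleSpread.etale_adjoinRoot f hfm hfsep
  have hE : Module.finrank Rp (AdjoinRoot f) = r := by rw [pb.finrank, hpbd]
  have hu : Function.Injective (u.toLinearMap.lTensor k) := by
    have hli' := RegSection.linearIndependent_pow_fibre Rp (Rp ⊗[R] A) ((1 : Rp) ⊗ₜ[R] ξ)
    let b := (pb.basis.baseChange k).reindex (finCongr hpbd)
    have hb : ∀ i : Fin r, u.toLinearMap.baseChange k (b i) =
        (1 : k) ⊗ₜ[Rp] (((1 : Rp) ⊗ₜ[R] ξ) ^ (i : ℕ)) := by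
      intro i
      have h6 : b i = (1 : k) ⊗ₜ[Rp] (AdjoinRoot.root f ^ (i : ℕ)) := by
        simp [b, pb, Module.Basis.reindex_apply, Module.Basis.baseChange_apply, PowerBasis.basis_eq_pow]
      rw [h6, LinearMap.baseChange_tmul]
      congr 1
      rw [AlgHom.toLinearMap_apply, map_pow, hur]
    have h7 : LinearMap.ker (u.toLinearMap.baseChange k) = ⊥ := by
      rw [LinearMap.ker_eq_bot']
      intro m hm
      rw [← b.sum_repr m, map_sum] at hm
      simp_rw [map_smul, hb] at hm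
      rw [hdeg] at hli'
      have h8 := Fintype.linearIndependent_iff.1 hli' _ hm
      rw [← b.sum_repr m]
      exact Finset.sum_eq_zero fun i _ => by rw [h8, zero_smul]
    have h10 : Function.Injective (u.toLinearMap.baseChange k) := LinearMap.ker_eq_bot.1 h7
    exact h10
  let _ : Module (AdjoinRoot f) (Rp ⊗[R] A) := rightModule u
  have hmod : ∀ (e : AdjoinRoot f) (a : Rp ⊗[R] A), e • a = a * u e := fun _ _ => rfl
  have : IsScalarTower Rp (AdjoinRoot f) (Rp ⊗[R] A) :=
    ⟨fun c l a => by rw [hmod, hmod, map_smul, mul_smul_comm]⟩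
  obtain ⟨β⟩ := SplitEtale.exists_basis Rp (Rp ⊗[R] A) r hA (AdjoinRoot f) hE u hu hmod
  choose s hs b hb using fun j => exists_smul_eq (R := R) (A := A) p.primeCompl Rp (β j)
  let e0 : Module.Basis (Fin r) Rp (AdjoinRoot f) := pb.basis.reindex (finCongr hpbd)
  have he0 : ∀ i, e0 i = AdjoinRoot.root f ^ (i : ℕ) := by
    intro i
    simp [e0, pb, Module.Basis.reindex_apply, PowerBasis.basis_eq_pow]
  let B0 : Module.Basis (Fin r × Fin r) Rp (Rp ⊗[R] A) := e0.smulTower β
  have hs' : ∀ j, IsUnit (algebraMap R Rp (s j)) := fun j =>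
    IsLocalization.map_units Rp ⟨s j, hs j⟩
  refine ⟨b, B0.unitsSMul (fun k => (hs' k.2).unit), fun k => ?_⟩
  obtain ⟨i, j⟩ := k
  rw [Module.Basis.unitsSMul_apply, one_tmul_fam, ← hb j, Units.smul_def, IsUnit.unit_spec]
  change algebraMap R Rp (s j) • B0 (i, j) = _
  rw [smul_mul_assoc]
  congr 1
  change (e0.smulTower β) (i, j) = _
  rw [Module.Basis.smulTower_apply, hmod, he0, map_pow, hur]

/-- **the reference** -/
theorem main : ∃ f : R, f ∉ p ∧ ∃ (R' : Type u) (_ : CommRing R') (_ : Algebra R R')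
    (_ : Algebra (Localization.Away f) R') (_ : IsScalarTower R (Localization.Away f) R'),
    Module.Finite (Localization.Away f) R' ∧ Algebra.Etale (Localization.Away f) R' ∧
    Module.FaithfullyFlat (Localization.Away f) R' ∧
    ∃ r : ℕ, 1 ≤ r ∧ Nonempty ((R' ⊗[R] A) ≃ₐ[R'] Matrix (Fin r) (Fin r) R') := by
  classical
  obtain ⟨r, ξ, P, hr, hA, hP, hPd, hPξ, hsep, hdeg⟩ := exists_section (A := A) p
  obtain ⟨hPsep, b, B, hB⟩ := exists_local_basis p r ξ P hA hP hPd hPξ hsep hdeg
  have hfp : Module.FinitePresentation R A := Module.finitePresentation_of_projective R A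
  obtain ⟨f1, hf1, h1⟩ := exists_basis p.primeCompl (fam r ξ b) (Localization.AtPrime p) B hB
  obtain ⟨f2, hf2, h2⟩ := exists_separable p.primeCompl P (Localization.AtPrime p) hPsep
  refine ⟨f1 * f2, p.primeCompl.mul_mem hf1 hf2, ?_⟩
  set f := f1 * f2
  set T := Localization.Away f
  obtain ⟨B', hB'⟩ := h1 f (dvd_mul_right _ _)
  have hsep' : (P.map (algebraMap R T)).Separable := h2 f T (dvd_mul_left _ _)
  have hm : (P.map (algebraMap R T)).Monic := hP.map _
  let E := AdjoinRoot (P.map (algebraMap R T))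
  have hnt : Nontrivial T := by
    have h0 : Submonoid.powers f ≤ p.primeCompl :=
      Submonoid.powers_le.2 (p.primeCompl.mul_mem hf1 hf2)
    let g : T →+* Localization.AtPrime p := IsLocalization.map (M := Submonoid.powers f)
      (T := p.primeCompl) (Localization.AtPrime p) (RingHom.id R) h0
    exact g.domain_nontrivial
  have hst : IsScalarTower R T E := inferInstance
  let pb := AdjoinRoot.powerBasis' hm
  have hpbd : pb.dim = r := by rw [AdjoinRoot.powerBasis'_dim, hP.natDegree_map, hPd]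
  have hfin : Module.Finite T E := pb.finite
  have hfree : Module.Free T E := Module.Free.of_basis pb.basis
  have het : Algebra.Etale T E :=
    Groth.Agent.Flat2E.FinEtaleSpread.etale_adjoinRoot _ hm hsep'
  have hE : Module.finrank T E = r := by rw [pb.finrank, hpbd]
  have hntE : Nontrivial E := Module.nontrivial_of_finrank_pos (R := T) (by rw [hE]; exact hr)
  refine ⟨E, inferInstance, inferInstance, inferInstance, hst, hfin, het, inferInstance, r, hr, ?_⟩
  let u : E →ₐ[T] T ⊗[R] A := uHom T ξ P hPξ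
  have hur : u (AdjoinRoot.root _) = (1 : T) ⊗ₜ[R] ξ := uHom_root T ξ P hPξ
  let _ : Module E (T ⊗[R] A) := rightModule u
  have hmod : ∀ (e : E) (a : T ⊗[R] A), e • a = a * u e := fun _ _ => rfl
  have : IsScalarTower T E (T ⊗[R] A) :=
    ⟨fun c l a => by rw [hmod, hmod, map_smul, mul_smul_comm]⟩
  let e0 : Module.Basis (Fin r) T E := pb.basis.reindex (finCongr hpbd)
  have he0 : ∀ i, e0 i = AdjoinRoot.root _ ^ (i : ℕ) := by
    intro i
    simp [e0, pb, Module.Basis.reindex_apply, PowerBasis.basis_eq_pow]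
  obtain ⟨β, -⟩ := exists_basis_tower e0 (fun j => (1 : T) ⊗ₜ[R] b j) B' (fun i j => by
    rw [hB', one_tmul_fam, hmod, he0, map_pow, hur])
  have hAz : IsAzumaya T (T ⊗[R] A) := K444.AzOps.isAzumaya_baseChange (R := R) T (A := A)
  have hfreeA : Module.Free T (T ⊗[R] A) := Module.Free.of_basis B'
  have hAr : Module.finrank T (T ⊗[R] A) = r ^ 2 := by
    rw [Module.finrank_eq_card_basis B', Fintype.card_prod, Fintype.card_fin, pow_two]
  obtain ⟨φ⟩ := AzSplit.nonempty_equiv T (T ⊗[R] A) r hAr E u hmod β hr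
  exact ⟨(AzDescent.cancelAlg (R := R) T E A).symm.trans φ⟩

end K281.AzEtaleSplit
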