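import Groth.Agent.Dix.K281.AzDescent
import Groth.Agent.S3245
import Mathlib.RingTheory.LocalRing.ResidueField.Ideal
import Mathlib.RingTheory.SimpleRing.Congr
import Mathlib.RingTheory.Flat.Localization

/-!
# The Azumaya property is fibrewise for finite projective algebras
-/

set_option autoImplicit false
universe u v w
open scoped TensorProduct
open MulOpposite

namespace K281.AzLocal

variable {R : Type u} [CommRing R]

theorem bijective_of_forall_maximal {M : Type v} {N : Type w} [AddCommGroup M] [Module R M]
    [AddCommGroup N] [Module R N] (f : M →ₗ[R] N)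
    (h : ∀ (P : Ideal R) [P.IsMaximal],
      Function.Bijective (f.baseChange (Localization.AtPrime P))) : Function.Bijective f := by
  refine bijective_of_isLocalized_maximal (fun P _ => Localization.AtPrime P ⊗[R] M)
    (fun P _ => TensorProduct.mk R (Localization.AtPrime P) M 1)
    (fun P _ => Localization.AtPrime P ⊗[R] N)
    (fun P _ => TensorProduct.mk R (Localization.AtPrime P) N 1) f ?_
  intro P _
  have h1 : IsLocalizedModule.map P.primeCompl (TensorProduct.mk R (Localization.AtPrime P) M 1)
      (TensorProduct.mk R (Localization.AtPrime P) N 1) f =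
      (f.baseChange (Localization.AtPrime P)).restrictScalars R := by
    apply IsLocalizedModule.linearMap_ext P.primeCompl
      (TensorProduct.mk R (Localization.AtPrime P) M 1)
      (TensorProduct.mk R (Localization.AtPrime P) N 1)
    ext m
    have h2 := IsLocalizedModule.map_apply P.primeCompl
      (TensorProduct.mk R (Localization.AtPrime P) M 1)
      (TensorProduct.mk R (Localization.AtPrime P) N 1) f m
    simp only [TensorProduct.mk_apply] at h2
    simp [h2]
  rw [h1]
  exact h P

theorem injective_of_forall_maximal {M : Type v} {N : Type w} [AddCommGroup M] [Module R M]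
    [AddCommGroup N] [Module R N] (f : M →ₗ[R] N)
    (h : ∀ (P : Ideal R) [P.IsMaximal],
      Function.Injective (f.baseChange (Localization.AtPrime P))) : Function.Injective f := by
  refine injective_of_isLocalized_maximal (fun P _ => Localization.AtPrime P ⊗[R] M)
    (fun P _ => TensorProduct.mk R (Localization.AtPrime P) M 1)
    (fun P _ => Localization.AtPrime P ⊗[R] N)
    (fun P _ => TensorProduct.mk R (Localization.AtPrime P) N 1) f ?_
  intro P _
  have h1 : IsLocalizedModule.map P.primeCompl (TensorProduct.mk R (Localization.AtPrime P) M 1)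
      (TensorProduct.mk R (Localization.AtPrime P) N 1) f =
      (f.baseChange (Localization.AtPrime P)).restrictScalars R := by
    apply IsLocalizedModule.linearMap_ext P.primeCompl
      (TensorProduct.mk R (Localization.AtPrime P) M 1)
      (TensorProduct.mk R (Localization.AtPrime P) N 1)
    ext m
    have h2 := IsLocalizedModule.map_apply P.primeCompl
      (TensorProduct.mk R (Localization.AtPrime P) M 1)
      (TensorProduct.mk R (Localization.AtPrime P) N 1) f m
    simp only [TensorProduct.mk_apply] at h2
    simp [h2]
  rw [h1]
  exact h P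

variable {A : Type v} [Ring A] [Algebra R A] [Module.Finite R A] [Module.Projective R A]

theorem isAzumaya_of_forall_maximal
    (h : ∀ (P : Ideal R) [P.IsMaximal],
      IsAzumaya (Localization.AtPrime P) (Localization.AtPrime P ⊗[R] A)) : IsAzumaya R A := by
  have hfaith : FaithfulSMul R A := by
    rw [faithfulSMul_iff_algebraMap_injective]
    refine injective_of_forall_maximal (Algebra.linearMap R A) ?_
    intro P _
    have := h P
    intro x y hxy
    obtain ⟨x, rfl⟩ := (TensorProduct.rid R (Localization.AtPrime P)).symm.surjective x
    obtain ⟨y, rfl⟩ := (TensorProduct.rid R (Localization.AtPrime P)).symm.surjective y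
    simp at hxy
    congr 1
    exact FaithfulSMul.algebraMap_injective (Localization.AtPrime P) (Localization.AtPrime P ⊗[R] A)
      (by simpa [Algebra.TensorProduct.algebraMap_apply] using hxy)
  refine { bij := ?_ }
  refine bijective_of_forall_maximal (AlgHom.mulLeftRight R A).toLinearMap ?_
  intro P _
  have : Module.Flat R (Localization.AtPrime P) := IsLocalization.flat _ P.primeCompl
  exact AzDescent.bijective_baseChange (R := R) (A := A) (Localization.AtPrime P) (h P).bij

theorem nontrivial_of_isAzumaya {R : Type u} [CommRing R] {A : Type v} [Ring A] [Algebra R A]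
    [IsAzumaya R A] [Nontrivial R] : Nontrivial A :=
  (FaithfulSMul.algebraMap_injective R A).nontrivial

/-- An Azumaya algebra over a field is central simple. -/
theorem central_simple_of_field (k : Type u) [Field k] (A : Type u) [Ring A] [Algebra k A]
    [IsAzumaya k A] : Algebra.IsCentral k A ∧ IsSimpleRing A := by
  have hnt : Nontrivial A := nontrivial_of_isAzumaya (R := k)
  have h1 := (Groth.Agent.S3245.result k A).1 inferInstance
  -- descend from the residue field of `k`, which is `k`
  refine ⟨inferInstance, ?_⟩
  have hb : Function.Bijective (algebraMap k (IsLocalRing.ResidueField k)) :=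
    ⟨(algebraMap k (IsLocalRing.ResidueField k)).injective, IsLocalRing.residue_surjective⟩
  let e0 : k ≃ₗ[k] IsLocalRing.ResidueField k :=
    LinearEquiv.ofBijective (Algebra.linearMap k (IsLocalRing.ResidueField k)) hb
  have h2 : Function.Bijective (Algebra.TensorProduct.includeRight :
      A →ₐ[k] (IsLocalRing.ResidueField k) ⊗[k] A) := by
    have h3 : ((Algebra.TensorProduct.includeRight :
      A →ₐ[k] (IsLocalRing.ResidueField k) ⊗[k] A)).toLinearMap =
      ((TensorProduct.lid k A).symm ≪≫ₗ (TensorProduct.congr e0 (LinearEquiv.refl k A))).toLinearMap := by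
      ext a
      have h6 : e0 1 = 1 := by
        change algebraMap k (IsLocalRing.ResidueField k) 1 = 1
        exact map_one _
      simp [h6]
    have h4 := ((TensorProduct.lid k A).symm ≪≫ₗ
      (TensorProduct.congr e0 (LinearEquiv.refl k A))).bijective
    have h5 : (⇑(Algebra.TensorProduct.includeRight :
      A →ₐ[k] (IsLocalRing.ResidueField k) ⊗[k] A)) = ⇑((TensorProduct.lid k A).symm ≪≫ₗ
      (TensorProduct.congr e0 (LinearEquiv.refl k A))) := by
      funext a
      exact LinearMap.congr_fun h3 a
    rw [h5]
    exact h4
  exact IsSimpleRing.of_ringEquiv (RingEquiv.ofBijective _ h2).symm h1.2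

/-- If the fibre at the prime `P` is central simple, then the localization at `P` is Azumaya. -/
theorem isAzumaya_localization {R : Type u} [CommRing R] {A : Type u} [Ring A] [Algebra R A]
    [Module.Finite R A] [Module.Projective R A] (P : Ideal R) [P.IsPrime]
    (h : Algebra.IsCentral P.ResidueField (P.ResidueField ⊗[R] A) ∧
      IsSimpleRing (P.ResidueField ⊗[R] A)) :
    IsAzumaya (Localization.AtPrime P) (Localization.AtPrime P ⊗[R] A) := by
  let Rp := Localization.AtPrime P
  let e : (IsLocalRing.ResidueField Rp) ⊗[Rp] (Rp ⊗[R] A) ≃ₐ[IsLocalRing.ResidueField Rp]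
      (IsLocalRing.ResidueField Rp) ⊗[R] A :=
    AzDescent.cancelAlg R Rp (IsLocalRing.ResidueField Rp) A
  have hfree : Module.Free Rp (Rp ⊗[R] A) := Module.free_of_flat_of_isLocalRing
  have hs : IsSimpleRing ((IsLocalRing.ResidueField Rp) ⊗[R] A) := h.2
  have hnt : Nontrivial (Rp ⊗[R] A) := by
    by_contra hcon
    rw [not_nontrivial_iff_subsingleton] at hcon
    have h1 : Subsingleton ((IsLocalRing.ResidueField Rp) ⊗[Rp] (Rp ⊗[R] A)) := inferInstance
    have h2 : Subsingleton ((IsLocalRing.ResidueField Rp) ⊗[R] A) := e.symm.toEquiv.subsingleton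
    exact not_nontrivial _ (inferInstance : Nontrivial ((IsLocalRing.ResidueField Rp) ⊗[R] A))
  refine (Groth.Agent.S3245.result Rp (Rp ⊗[R] A)).2 ⟨?_, ?_⟩
  · have := h.1
    exact Algebra.IsCentral.of_algEquiv _ _ _ e.symm
  · exact IsSimpleRing.of_ringEquiv e.symm.toRingEquiv hs

end K281.AzLocal
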