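import Groth.Agent.Dix.K280.SplitEtale
import Mathlib.RingTheory.LocalRing.Module
import Mathlib.RingTheory.Flat.LocallyFree
import Mathlib.LinearAlgebra.Matrix.ToLin

/-!
# An Azumaya algebra is split by a commutative subalgebra over which it is free of the right rank
-/

set_option autoImplicit false
universe u v w

open TensorProduct

namespace K281.AzSplit

/-- A linear map to a finite module is surjective if it is so at all residue fields. -/
theorem surjective_of_fibres {R : Type u} [CommRing R] {M : Type v} {N : Type w} [AddCommGroup M]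
    [Module R M] [AddCommGroup N] [Module R N] [Module.Finite R N] (φ : M →ₗ[R] N)
    (h : ∀ p : PrimeSpectrum R, Function.Surjective (φ.baseChange p.asIdeal.ResidueField)) :
    Function.Surjective φ := by
  rw [← LinearMap.range_eq_top, ← Submodule.Quotient.subsingleton_iff,
    ← Module.support_eq_empty_iff (R := R), Set.eq_empty_iff_forall_notMem]
  intro p hp
  rw [Module.mem_support_iff_nontrivial_residueField_tensorProduct] at hp
  revert hp
  rw [imp_false, not_nontrivial_iff_subsingleton]
  let q := (LinearMap.range φ).mkQ
  have h1 : Function.Surjective (q.baseChange p.asIdeal.ResidueField) :=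
    LinearMap.lTensor_surjective _ (Submodule.mkQ_surjective _)
  have h2 : (q.baseChange p.asIdeal.ResidueField) ∘ₗ (φ.baseChange p.asIdeal.ResidueField) = 0 := by
    rw [← LinearMap.baseChange_comp]
    have : q ∘ₗ φ = 0 := LinearMap.range_mkQ_comp φ
    rw [this, LinearMap.baseChange_zero]
  refine ⟨fun a b => ?_⟩
  have h3 : ∀ a : p.asIdeal.ResidueField ⊗[R] (N ⧸ LinearMap.range φ), a = 0 := by
    intro a
    obtain ⟨c, rfl⟩ := h1 a
    obtain ⟨d, rfl⟩ := h p c
    exact LinearMap.congr_fun h2 d
  rw [h3 a, h3 b]

variable (R : Type u) [CommRing R] (A : Type v) [Ring A] [Algebra R A] [IsAzumaya R A]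
  [Module.Free R A] (r : ℕ) (hr : 0 < r) (hA : Module.finrank R A = r ^ 2)
  (E : Type w) [CommRing E] [Algebra R E]
  (u : E →ₐ[R] A) [Module E A] [IsScalarTower R E A] (hmod : ∀ (e : E) (a : A), e • a = a * u e)

include hA in
theorem bijective_fibre [Module.Free E A] [Module.Finite E A] (hEA : Module.finrank E A = r)
    (hr : 0 < r) (F : Type*) [Field F] [Algebra E F] :
    Function.Bijective ((K280.SplitEtale.Phi R A E u hmod).toLinearMap.baseChange F) := by
  have : Nontrivial E := (algebraMap E F).domain_nontrivial
  have : Nontrivial R := (algebraMap R E).domain_nontrivial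
  have hAz : IsAzumaya E (E ⊗[R] A) := K444.AzOps.isAzumaya_baseChange (R := R) E (A := A)
  have hs := (K280.AzFibre.fibre E (E ⊗[R] A) F).2.1
  let g : F ⊗[E] (E ⊗[R] A) →ₐ[F] F ⊗[E] (Module.End E A) :=
    Algebra.TensorProduct.map (AlgHom.id F F) (K280.SplitEtale.Phi R A E u hmod)
  have hrk : Module.finrank F (F ⊗[E] (Module.End E A)) = r * r := by
    rw [Module.finrank_baseChange, Module.finrank_linearMap, hEA]
  have hnt : Nontrivial (F ⊗[E] (Module.End E A)) := by
    refine Module.nontrivial_of_finrank_pos (R := F) ?_
    rw [hrk]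
    positivity
  have hinj : Function.Injective g := g.toRingHom.injective
  have hinj' : Function.Injective
      ((K280.SplitEtale.Phi R A E u hmod).toLinearMap.baseChange F) := hinj
  have hrk2 : Module.finrank F (F ⊗[E] (E ⊗[R] A)) = r * r := by
    rw [Module.finrank_baseChange, Module.finrank_baseChange, hA, pow_two]
  exact ⟨hinj', (LinearMap.injective_iff_surjective_of_finrank_eq_finrank
    (hrk2.trans hrk.symm)).1 hinj'⟩

include hA in
theorem Phi_bijective [Module.Free E A] [Module.Finite E A] (hEA : Module.finrank E A = r)
    (hr : 0 < r) : Function.Bijective (K280.SplitEtale.Phi R A E u hmod) := by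
  have hsurj : Function.Surjective (K280.SplitEtale.Phi R A E u hmod).toLinearMap :=
    surjective_of_fibres _ fun p => (bijective_fibre R A r hA E u hmod hEA hr _).2
  refine Module.bijective_of_surjective_of_rankAtStalk_eq hsurj fun m _ => ?_
  have : Nontrivial E := ⟨⟨0, 1, fun h => (inferInstance : m.IsMaximal).ne_top
    ((Ideal.eq_top_iff_one m).2 (h ▸ m.zero_mem))⟩⟩
  have : Nontrivial R := (algebraMap R E).domain_nontrivial
  rw [Module.rankAtStalk_eq_finrank_of_free, Module.rankAtStalk_eq_finrank_of_free,
    Pi.natCast_apply, Pi.natCast_apply, Module.finrank_baseChange, Module.finrank_linearMap, hA, hEA,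
    pow_two]

include hA hmod in
/-- The splitting. -/
theorem nonempty_equiv (b : Module.Basis (Fin r) E A) (hr : 0 < r) :
    Nonempty ((E ⊗[R] A) ≃ₐ[E] Matrix (Fin r) (Fin r) E) := by
  classical
  rcases subsingleton_or_nontrivial E with hE | hE
  · have h1 : Subsingleton (E ⊗[R] A) := Module.subsingleton E _
    have h2 : Subsingleton (Matrix (Fin r) (Fin r) E) := Module.subsingleton E _
    exact ⟨AlgEquiv.ofBijective
      { toFun := fun _ => 0
        map_one' := Subsingleton.elim _ _
        map_mul' := fun _ _ => Subsingleton.elim _ _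
        map_zero' := rfl
        map_add' := fun _ _ => Subsingleton.elim _ _
        commutes' := fun _ => Subsingleton.elim _ _ }
      ⟨fun _ _ _ => Subsingleton.elim _ _, fun _ => ⟨0, Subsingleton.elim _ _⟩⟩⟩
  · have h1 : Module.Free E A := Module.Free.of_basis b
    have h2 : Module.Finite E A := Module.Finite.of_basis b
    have h3 : Module.finrank E A = r := by rw [Module.finrank_eq_card_basis b, Fintype.card_fin]
    exact ⟨(AlgEquiv.ofBijective _ (Phi_bijective R A r hA E u hmod h3 hr)).trans (algEquivMatrix b)⟩

end K281.AzSplit
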