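import Groth.Agent.Dix.K281.AzSplit
import Groth.Agent.Dix.K281.AzDescent
import Groth.Agent.Dix.K280.RegSection
import Groth.Agent.Dix.K280.MaxEtale
import Groth.Agent.S0192
import Mathlib.RingTheory.Localization.Free
import Mathlib.RingTheory.Localization.Integral

/-!
# Spreading out bases and separability from a localization at a prime ideal
-/

set_option autoImplicit false
universe u v w

open TensorProduct Polynomial

namespace K281.AzSpread

section basis

variable {R : Type u} [CommRing R] (S : Submonoid R) {M : Type v} [AddCommGroup M] [Module R M]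
  {ι : Type w} (v : ι → M)

theorem map_eq (R' : Type u) [CommRing R'] [Algebra R R'] [IsLocalization S R'] :
    IsLocalizedModule.map S (Finsupp.mapRange.linearMap (α := ι) (Algebra.linearMap R R'))
      (TensorProduct.mk R R' M 1) (Finsupp.linearCombination R v) =
    (Finsupp.linearCombination R' (fun i => (1 : R') ⊗ₜ[R] v i)).restrictScalars R := by
  apply IsLocalizedModule.ext S (Finsupp.mapRange.linearMap (α := ι) (Algebra.linearMap R R'))
  · intro x
    exact IsLocalizedModule.map_units (TensorProduct.mk R R' M 1) x
  · rw [IsLocalizedModule.map_comp]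
    ext i
    simp

theorem bijective_iff (R' : Type u) [CommRing R'] [Algebra R R'] [IsLocalization S R'] :
    Function.Bijective (LocalizedModule.map S (Finsupp.linearCombination R v)) ↔
      Function.Bijective (Finsupp.linearCombination R' (fun i => (1 : R') ⊗ₜ[R] v i)) := by
  rw [← IsLocalizedModule.map_bijective_iff_localizedModuleMap_bijective
    (Finsupp.mapRange.linearMap (α := ι) (Algebra.linearMap R R')) (TensorProduct.mk R R' M 1),
    map_eq S v R']
  rfl

/-- A family which is a basis over a localization of `R` is a basis over a basic open subset. -/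
theorem exists_basis [Finite ι] [Module.FinitePresentation R M] (R' : Type u) [CommRing R']
    [Algebra R R'] [IsLocalization S R'] (b : Module.Basis ι R' (R' ⊗[R] M))
    (hb : ∀ i, b i = 1 ⊗ₜ v i) :
    ∃ f : R, f ∈ S ∧ ∀ t : R, f ∣ t → ∃ b' : Module.Basis ι (Localization.Away t)
      (Localization.Away t ⊗[R] M), ∀ i, b' i = 1 ⊗ₜ v i := by
  have hbij : Function.Bijective (IsLocalizedModule.map S
      (Finsupp.mapRange.linearMap (α := ι) (Algebra.linearMap R R'))
      (TensorProduct.mk R R' M 1) (Finsupp.linearCombination R v)) := by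
    rw [map_eq]
    have : Finsupp.linearCombination R' (fun i => (1 : R') ⊗ₜ[R] v i) = b.repr.symm.toLinearMap := by
      ext i
      simp [hb]
    change Function.Bijective (Finsupp.linearCombination R' (fun i => (1 : R') ⊗ₜ[R] v i))
    rw [this]
    exact b.repr.symm.bijective
  obtain ⟨f, hf, h⟩ := exists_bijective_map_powers S _ _ _ hbij
  refine ⟨f, hf, fun t ht => ?_⟩
  have h1 := (bijective_iff (Submonoid.powers t) v (Localization.Away t)).1 (h t ht)
  refine ⟨⟨(LinearEquiv.ofBijective _ h1).symm⟩, fun i => ?_⟩
  change (LinearEquiv.ofBijective _ h1) (Finsupp.single i 1) = _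
  simp

end basis

section separable

variable {R : Type u} [CommRing R] (S : Submonoid R)

theorem exists_separable (P : R[X]) (R' : Type u) [CommRing R'] [Algebra R R'] [IsLocalization S R']
    (h : (P.map (algebraMap R R')).Separable) :
    ∃ f : R, f ∈ S ∧ ∀ (t : R) (T : Type u) [CommRing T] [Algebra R T] [IsLocalization.Away t T],
      f ∣ t → (P.map (algebraMap R T)).Separable := by
  let _ : Algebra R[X] R'[X] := Polynomial.algebra R R'
  have : IsLocalization (S.map C) R'[X] := Polynomial.isLocalization S R'
  obtain ⟨a, b, hab⟩ := h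
  let I : Ideal R[X] := Ideal.span {P, derivative P}
  have h1 : (1 : R'[X]) ∈ I.map (algebraMap R[X] R'[X]) := by
    rw [← hab]
    refine Ideal.add_mem _ (Ideal.mul_mem_left _ _ ?_) (Ideal.mul_mem_left _ _ ?_)
    · exact Ideal.mem_map_of_mem (algebraMap R[X] R'[X]) (Ideal.subset_span (by simp))
    · rw [derivative_map]
      exact Ideal.mem_map_of_mem (algebraMap R[X] R'[X]) (Ideal.subset_span (by simp))
  rw [IsLocalization.mem_map_algebraMap_iff (S.map C)] at h1
  obtain ⟨⟨⟨x, hx⟩, ⟨_, ⟨s, hs, rfl⟩⟩⟩, h2⟩ := h1
  rw [one_mul] at h2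
  obtain ⟨⟨_, ⟨c, hc, rfl⟩⟩, h3⟩ := (IsLocalization.eq_iff_exists (S.map C) R'[X]).1 h2
  have h4 : C (c * s) ∈ I := by
    rw [map_mul]
    have h5 : C c * C s = C c * x := h3
    rw [h5]
    exact Ideal.mul_mem_left _ _ hx
  refine ⟨c * s, S.mul_mem hc hs, fun t T _ _ _ ht => ?_⟩
  obtain ⟨α, β, h6⟩ := Ideal.mem_span_pair.1 h4
  obtain ⟨g, rfl⟩ := ht
  have h7 : IsUnit (algebraMap R T (c * s * g)) := IsLocalization.Away.algebraMap_isUnit _
  rw [map_mul] at h7
  obtain ⟨w, hw⟩ := isUnit_of_mul_isUnit_left h7
  refine ⟨C (↑w⁻¹ : T) * α.map (algebraMap R T), C (↑w⁻¹ : T) * β.map (algebraMap R T), ?_⟩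
  rw [mul_assoc, mul_assoc, ← mul_add, derivative_map, ← Polynomial.map_mul, ← Polynomial.map_mul,
    ← Polynomial.map_add, h6, Polynomial.map_C, ← hw, ← C_mul, Units.inv_mul, C_1]

end separable

section tower

/-- A family is a basis over `S` if the products with a basis of `S` over `R` form a basis. -/
theorem exists_basis_tower {R : Type u} [CommRing R] {S : Type v} [CommRing S] [Algebra R S]
    {M : Type w} [AddCommGroup M] [Module R M] [Module S M] [IsScalarTower R S M]
    {ι κ : Type*} [Fintype ι] [Fintype κ] (b : Module.Basis ι R S) (c : κ → M)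
    (B : Module.Basis (ι × κ) R M) (h : ∀ i j, B (i, j) = b i • c j) :
    ∃ B' : Module.Basis κ S M, ∀ j, B' j = c j := by
  have hli : LinearIndependent S c := by
    rw [Fintype.linearIndependent_iff]
    intro x hx j
    have h1 : ∑ k : ι × κ, (b.repr (x k.2) k.1) • B k = 0 := by
      rw [Fintype.sum_prod_type_right]
      rw [← hx]
      refine Finset.sum_congr rfl fun j _ => ?_
      conv_rhs => rw [← b.sum_repr (x j), Finset.sum_smul]
      refine Finset.sum_congr rfl fun i _ => ?_
      rw [h, smul_assoc]
    have h2 := Fintype.linearIndependent_iff.1 B.linearIndependent _ h1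
    rw [← b.sum_repr (x j)]
    exact Finset.sum_eq_zero fun i _ => by rw [h2 (i, j), zero_smul]
  have hsp : ⊤ ≤ Submodule.span S (Set.range c) := by
    intro m _
    rw [← B.sum_repr m]
    refine Submodule.sum_mem _ fun k _ => ?_
    rw [h, ← smul_assoc]
    exact Submodule.smul_mem _ _ (Submodule.subset_span ⟨_, rfl⟩)
  exact ⟨Module.Basis.mk hli hsp, fun j => by simp⟩

end tower

/-- The right module structure on an algebra induced by a homomorphism from a commutative algebra. -/
abbrev rightModule {R : Type u} [CommRing R] {A : Type v} [Ring A] [Algebra R A] {E : Type w}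
    [CommRing E] [Algebra R E] (u : E →ₐ[R] A) : Module E A where
  smul e a := a * u e
  one_smul a := by
    change a * u 1 = a
    simp
  mul_smul x y a := by
    change a * u (x * y) = (a * u y) * u x
    rw [mul_comm x y, map_mul, mul_assoc]
  smul_zero x := by
    change (0 : A) * u x = 0
    simp
  smul_add x a b := by
    change (a + b) * u x = a * u x + b * u x
    rw [add_mul]
  add_smul x y a := by
    change a * u (x + y) = a * u x + a * u y
    rw [map_add, mul_add]
  zero_smul a := by
    change a * u 0 = 0
    simp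

end K281.AzSpread
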