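import Groth.Agent.EtpbcB.EdgeLemma

/-!
# The Leray edge map in degrees one and two

For an adjunction `L ⊣ R` with `L` exact, the edge map `Ext^n(A, R N) → Ext^n(L A, N)` is injective for
`n = 1`; if `R^1 N = 0` it is bijective for `n = 1` and injective for `n = 2`, and its image for `n = 2`
contains the classes which die on `L Q` for some epimorphism `Q → A`.
-/

set_option autoImplicit false

universe w w' v v' u u'

open CategoryTheory CategoryTheory.Limits CategoryTheory.Abelian

namespace K281.LerayTwo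

open Groth.Agent.EtpbcB.EdgeLemma

variable {C : Type u} [Category.{v} C] [Abelian C] [HasExt.{w} C]
variable {D : Type u'} [Category.{v'} D] [Abelian D] [HasExt.{w'} D]
variable {L : C ⥤ D} {R : D ⥤ C} [L.Additive] [PreservesFiniteLimits L] [PreservesFiniteColimits L]
variable [R.Additive] [PreservesFiniteLimits R] (adj : L ⊣ R)
variable {S : ShortComplex D} (hS : S.ShortExact)

include hS in
theorem edge_one_injective_aux [Injective S.X₂] (A : C) : Function.Injective (edge adj A S.X₁ 1) := by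
  have hRI := injective_R adj S.X₂
  rw [injective_iff_map_eq_zero]
  intro x hx
  obtain ⟨e, rfl⟩ := Ext.covariant_sequence_exact₁ A (shortExact_T (R := R) hS) x
    (Ext.eq_zero_of_injective _) (rfl : 0 + 1 = 1)
  obtain ⟨e, rfl⟩ := (Ext.mk₀_bijective _ _).2 e
  rw [edge_delta adj hS A 0, Ext.mk₀_comp_mk₀, edge_mk₀] at hx
  obtain ⟨u, hu⟩ := Ext.covariant_sequence_exact₃ (L.obj A) hS _ (rfl : 0 + 1 = 1) hx
  obtain ⟨u, rfl⟩ := (Ext.mk₀_bijective _ _).2 u
  rw [Ext.mk₀_comp_mk₀] at hu
  have hu2 := (Ext.mk₀_bijective _ _).1 hu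
  have hu3 : (adj.homEquiv A S.X₂ u) ≫ R.map S.g = e ≫ kap R S := by
    rw [← adj.homEquiv_naturality_right, hu2, Equiv.apply_symm_apply]
  have hm := mono_kap (R := R) hS
  have hu4 : (adj.homEquiv A S.X₂ u) ≫ cokernel.π (R.map S.f) = e := by
    rw [← cancel_mono (kap R S), Category.assoc, π_kap, hu3]
  rw [← hu4, ← Ext.mk₀_comp_mk₀, Ext.comp_assoc (h₁₂ := rfl) (h₂₃ := rfl) (h := rfl)]
  erw [(shortExact_T (R := R) hS).comp_extClass]
  exact Ext.comp_zero _ _ _ _ _

/-- The edge map is injective in degree one. -/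
theorem edge_one_injective [EnoughInjectives D] (A : C) (N : D) :
    Function.Injective (edge adj A N 1) := by
  let I : InjectivePresentation N := Classical.arbitrary _
  let S := ShortComplex.mk _ _ (cokernel.condition I.f)
  have hI : Injective S.X₂ := I.injective
  have hS : S.ShortExact := { exact := ShortComplex.exact_cokernel I.f }
  exact edge_one_injective_aux adj hS A

omit [HasExt.{w} C] [HasExt.{w'} D] in
include hS in
theorem isIso_kap (h : Epi (R.map S.g)) : IsIso (kap R S) := by
  have := mono_kap (R := R) hS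
  have h1 : Epi (cokernel.π (R.map S.f) ≫ kap R S) := by
    rw [π_kap]
    exact h
  have := epi_of_epi (cokernel.π (R.map S.f)) (kap R S)
  exact isIso_of_mono_of_epi _

include hS in
/-- If `R^1 S.X₁ = 0` (in the form: `R X₂ → R X₃` epi), the edge map is surjective in degree one. -/
theorem edge_one_surjective [Injective S.X₂] (h : Epi (R.map S.g)) (A : C) :
    Function.Surjective (edge adj A S.X₁ 1) := by
  intro y
  have := isIso_kap hS h
  obtain ⟨v, rfl⟩ := Ext.covariant_sequence_exact₁ (L.obj A) hS y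
    (Ext.eq_zero_of_injective _) (rfl : 0 + 1 = 1)
  obtain ⟨v, rfl⟩ := (Ext.mk₀_bijective _ _).2 v
  refine ⟨(Ext.mk₀ (adj.homEquiv A S.X₃ v ≫ inv (kap R S))).comp
    (shortExact_T (R := R) hS).extClass rfl, ?_⟩
  rw [edge_delta adj hS A 0, Ext.mk₀_comp_mk₀, edge_mk₀, Category.assoc, IsIso.inv_hom_id,
    Category.comp_id, Equiv.symm_apply_apply]

include hS in
/-- If `R^1 S.X₁ = 0`, the edge map is injective in degree two. -/
theorem edge_two_injective [EnoughInjectives D] [Injective S.X₂] (h : Epi (R.map S.g)) (A : C) :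
    Function.Injective (edge adj A S.X₁ 2) := by
  have hRI := injective_R adj S.X₂
  have := isIso_kap hS h
  rw [injective_iff_map_eq_zero]
  intro x hx
  obtain ⟨e, rfl⟩ := Ext.covariant_sequence_exact₁ A (shortExact_T (R := R) hS) x
    (Ext.eq_zero_of_injective _) (rfl : 1 + 1 = 2)
  rw [edge_delta adj hS A 1] at hx
  obtain ⟨u, hu⟩ := Ext.covariant_sequence_exact₃ (L.obj A) hS _ (rfl : 1 + 1 = 2) hx
  have hu0 : u = 0 := Ext.eq_zero_of_injective u
  rw [hu0, Ext.zero_comp] at hu
  have h2 : e.comp (Ext.mk₀ (kap R S)) (add_zero 1) = 0 :=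
    edge_one_injective adj A S.X₃ (by rw [← hu, map_zero])
  have h3 : e = 0 := by
    have h4 : (e.comp (Ext.mk₀ (kap R S)) (add_zero 1)).comp (Ext.mk₀ (inv (kap R S))) (add_zero 1) = e := by
      rw [Ext.comp_assoc_of_third_deg_zero, Ext.mk₀_comp_mk₀, IsIso.hom_inv_id, Ext.comp_mk₀_id]
    rw [← h4, h2, Ext.zero_comp]
  rw [h3, Ext.zero_comp]

include hS in
/-- If `R^1 S.X₁ = 0`, classes of degree two which die on `L Q`, `Q → A` epi, are in the image of the
edge map. -/
theorem exists_edge_two_eq [Injective S.X₂] (h : Epi (R.map S.g)) {A Q : C} (π : Q ⟶ A) [Epi π]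
    (u : Ext.{w'} (L.obj A) S.X₁ 2) (hu : (Ext.mk₀ (L.map π)).comp u (zero_add 2) = 0) :
    ∃ x : Ext.{w} A (R.obj S.X₁) 2, edge adj A S.X₁ 2 x = u := by
  let T := ShortComplex.mk (kernel.ι π) π (kernel.condition π)
  have hT : T.ShortExact := { exact := ShortComplex.exact_of_f_is_kernel _ (kernelIsKernel π) }
  have hT' : (T.map L).ShortExact := hT.map_of_exact L
  obtain ⟨v, rfl⟩ := Ext.contravariant_sequence_exact₃ hT' S.X₁ u hu (rfl : 1 + 1 = 2)
  obtain ⟨v', rfl⟩ := edge_one_surjective adj hS h (kernel π) v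
  refine ⟨hT.extClass.comp v' rfl, ?_⟩
  rw [edge_apply, edge_apply, Ext.mapExactFunctor_comp, Ext.comp_assoc_of_third_deg_zero,
    Ext.mapExactFunctor_extClass]
  rfl

end K281.LerayTwo
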