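import Groth.Agent.Dix.K281.DivSurj
import Groth.Agent.Dix.K281.LerayTwo
import Groth.Agent.Sga5.H861.UnitComm
import Groth.Agent.Sga5.GmR1
import Groth.Agent.EtpbcB.EdgeEt
import Groth.Prelude.Def_EtLim

/-!
# `H²(Z, G_m) → H²(W, G_m)` is injective for `W ⊆ Z` open containing the generic points
-/

set_option autoImplicit false
universe u

open CategoryTheory CategoryTheory.Limits CategoryTheory.Abelian AlgebraicGeometry Opposite TopologicalSpace

namespace K281.DivInj

open K281.DivEval K281.DivExact K281.DivSurj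
open Groth.Agent.CohtopA Groth.Agent.CohtopA.GmDivGen Groth.Agent.CohtopA.GmDivEval
open Groth.Agent.CohtopA.GmDivPt Groth.Agent.CohtopA.GmDivVal Groth.Agent.CohtopA.GmDivFun
open Groth.Agent.CohtopA.GmDivD Groth.Agent.CohtopA.GmDivSch Groth.Agent.CohtopA.GmDivLoc
open Groth.Agent.CohtopA.GmDivFinal
open Groth.Agent.Etbase.EtColim Groth.Agent.Etbase.EtColimBig

attribute [local instance 3000] hasSheafify_et wEqualsLocallyBijective_et hasSheafCompose_et
  isGrothendieckAbelian_et hasExt_et hasPullbacks_et

variable (Z : Scheme.{u}) (A : Type) [AddCommGroup A]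

open Classical in
/-- Restriction of functions to the points over `z`. -/
noncomputable def dRes (T : Set Z) (z : Z) : dSheaf Z A T ⟶ dSheaf Z A {z} :=
  ⟨{ app := fun U => AddCommGrpCat.ofHom
      (show dSub Z A T U.unop →+ dSub Z A {z} U.unop from
      { toFun := fun f => ⟨fun v => if U.unop.hom v = z then f.1 v else 0, fun v hv => by
          by_contra h
          exact hv (if_neg h)⟩
        map_zero' := by
          apply Subtype.ext
          funext v
          change (if U.unop.hom v = z then (0 : ULift.{u + 1} A) else 0) = 0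
          rw [ite_self]
        map_add' := fun f g => by
          apply Subtype.ext
          funext v
          change (if U.unop.hom v = z then f.1 v + g.1 v else 0) =
            (if U.unop.hom v = z then f.1 v else 0) + (if U.unop.hom v = z then g.1 v else 0)
          split_ifs
          · rfl
          · rw [add_zero] })
     naturality := by
      intro U V g
      ext f
      apply Subtype.ext
      funext v
      change (if V.unop.hom v = z then (f : dSub Z A T U.unop).1 (g.unop.left v) else 0) =
        (if U.unop.hom (g.unop.left v) = z then (f : dSub Z A T U.unop).1 (g.unop.left v) else 0)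
      rw [hom_left_apply] }⟩

lemma dRes_apply_of (T : Set Z) {U : Z.Etale} (f : EtCoh.sect (dSheaf Z A T) U) (v : U.left) :
    ((dRes Z A T (U.hom v)).hom.app (op U) f : dSub Z A {U.hom v} U).1 v = (f : dSub Z A T U).1 v := by
  exact if_pos rfl

open Classical in
/-- The morphism into `dSheaf T` with given components. -/
noncomputable def dPi {E : EtCoh.Ab Z} (T : Set Z) (r : ∀ z : Z, E ⟶ dSheaf Z A {z}) :
    E ⟶ dSheaf Z A T :=
  ⟨{ app := fun U => AddCommGrpCat.ofHom
      (show EtCoh.sect E U.unop →+ dSub Z A T U.unop from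
      { toFun := fun s => ⟨fun v => if U.unop.hom v ∈ T then
            ((r (U.unop.hom v)).hom.app U s : dSub Z A {U.unop.hom v} U.unop).1 v else 0,
          fun v hv => by
            by_contra h
            exact hv (if_neg h)⟩
        map_zero' := by
          apply Subtype.ext
          funext v
          change (if U.unop.hom v ∈ T then
            ((r (U.unop.hom v)).hom.app U (0 : EtCoh.sect E U.unop) : dSub Z A {U.unop.hom v} U.unop).1 v else 0) = 0
          rw [map_zero]
          exact ite_self _
        map_add' := fun s t => by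
          apply Subtype.ext
          funext v
          change (if U.unop.hom v ∈ T then
            ((r (U.unop.hom v)).hom.app U (s + t) : dSub Z A {U.unop.hom v} U.unop).1 v else 0) =
            (if U.unop.hom v ∈ T then
            ((r (U.unop.hom v)).hom.app U s : dSub Z A {U.unop.hom v} U.unop).1 v else 0) +
            (if U.unop.hom v ∈ T then
            ((r (U.unop.hom v)).hom.app U t : dSub Z A {U.unop.hom v} U.unop).1 v else 0)
          rw [map_add]
          split_ifs
          · rfl
          · rw [add_zero] })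
     naturality := by
      intro U V g
      ext s
      apply Subtype.ext
      funext v
      change (if V.unop.hom v ∈ T then ((r (V.unop.hom v)).hom.app V (E.obj.map g s) :
          dSub Z A {V.unop.hom v} V.unop).1 v else 0) =
        (if U.unop.hom (g.unop.left v) ∈ T then ((r (U.unop.hom (g.unop.left v))).hom.app U s :
          dSub Z A {U.unop.hom (g.unop.left v)} U.unop).1 (g.unop.left v) else 0)
      rw [hom_left_apply]
      split_ifs with h
      · have h1 := ConcreteCategory.congr_hom ((r (V.unop.hom v)).hom.naturality g) s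
        exact congrArg (fun f : dSub Z A {V.unop.hom v} V.unop => f.1 v) h1
      · rfl }⟩

lemma dPi_apply {E : EtCoh.Ab Z} (T : Set Z) (r : ∀ z : Z, E ⟶ dSheaf Z A {z}) {U : Z.Etale}
    (s : EtCoh.sect E U) (v : U.left) (hv : U.hom v ∈ T) :
    ((dPi Z A T r).hom.app (op U) s : dSub Z A T U).1 v =
      ((r (U.hom v)).hom.app (op U) s : dSub Z A {U.hom v} U).1 v :=
  if_pos hv

/-- A class of degree one with values in functions supported over `T` vanishes if its components do. -/
theorem ext_eq_zero {K : EtCoh.Ab Z} (T : Set Z) (e : Ext.{u + 1} K (dSheaf Z A T) 1)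
    (h : ∀ z : Z, e.comp (Ext.mk₀ (dRes Z A T z)) (add_zero 1) = 0) : e = 0 := by
  obtain ⟨E, i, p, w, hS, rfl⟩ := Groth.Agent.Sga5.H861.UnitComm.exists_extClass e
  have key : ∀ z : Z, ∃ r : E ⟶ dSheaf Z A {z}, i ≫ r = dRes Z A T z := by
    intro z
    obtain ⟨x, hx⟩ := Ext.contravariant_sequence_exact₁ hS (dSheaf Z A {z}) (Ext.mk₀ (dRes Z A T z)) rfl (h z)
    obtain ⟨r, rfl⟩ := (Ext.mk₀_bijective _ _).2 x
    rw [Ext.mk₀_comp_mk₀] at hx
    exact ⟨r, (Ext.mk₀_bijective _ _).1 hx⟩
  choose r hr using key
  have h1 : i ≫ dPi Z A T r = 𝟙 _ := by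
    ext U s
    apply Subtype.ext
    funext v
    change ((dPi Z A T r).hom.app (op U.unop) (i.hom.app U s) : dSub Z A T U.unop).1 v =
      (s : dSub Z A T U.unop).1 v
    by_cases hv : U.unop.hom v ∈ T
    · rw [dPi_apply Z A T r _ v hv]
      have h2 : (r (U.unop.hom v)).hom.app (op U.unop) (i.hom.app U s) =
          (dRes Z A T (U.unop.hom v)).hom.app (op U.unop) s :=
        congrArg (fun k => k.hom.app (op U.unop) s) (hr (U.unop.hom v))
      rw [h2]
      exact dRes_apply_of Z A T s v
    · have h2 : (s : dSub Z A T U.unop).1 v = 0 := by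
        by_contra h3
        exact hv ((s : dSub Z A T U.unop).2 v h3)
      rw [h2]
      exact if_neg hv
  have h2 := hS.extClass_comp
  have h3 : hS.extClass = (hS.extClass.comp (Ext.mk₀ i) (add_zero 1)).comp (Ext.mk₀ (dPi Z A T r)) (add_zero 1) := by
    rw [Ext.comp_assoc_of_third_deg_zero, Ext.mk₀_comp_mk₀, h1, Ext.comp_mk₀_id]
  rw [h3]
  refine (congrArg (fun x => Ext.comp x (Ext.mk₀ (dPi Z A T r)) (add_zero 1)) h2).trans ?_
  exact Ext.zero_comp _ _ _ _ _

/-- `H¹` of the functions supported over `T` vanishes. -/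
theorem subsingleton_H1_dSheaf (T : Set Z) : Subsingleton (EtCoh.H Z (dSheaf Z ℤ T) 1) := by
  suffices h : ∀ e : EtCoh.H Z (dSheaf Z ℤ T) 1, e = 0 from ⟨fun a b => (h a).trans (h b).symm⟩
  intro e
  refine ext_eq_zero Z ℤ T e fun z => ?_
  have h1 := GmDivH1.subsingleton_H1_dSheaf Z {z}
  rw [Finset.coe_singleton] at h1
  exact h1.elim _ _

section Leray

open Groth.Agent.EtpbcB

variable {X Y : Scheme.{u}} (h : X ⟶ Y) [PreservesFiniteLimits (EtCoh.pull h)]

/-- If `R¹ h_* N = 0` (in the form: `h_* J → h_* Q` epi), the edge map in degree two is injective. -/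
theorem edgeH_two_injective {S : ShortComplex (EtCoh.Ab X)} (hS : S.ShortExact) [Injective S.X₂]
    (he : Epi ((EtCoh.push h).map S.g)) : Function.Injective (EdgeEt.edgeH h S.X₁ 2) := by
  intro a b hab
  rw [EdgeEt.edgeH_eq, EdgeEt.edgeH_eq] at hab
  exact K281.LerayTwo.edge_two_injective (EtCoh.pullPushAdj h) hS he (EtCoh.const Y ℤ)
    ((EdgeEt.bij_aux h S.X₁ 2).1 hab)

theorem HofPush_eq_edgeH (N : EtCoh.Ab X) (m : ℕ) : ⇑(EtLim.HofPush h N m) = ⇑(EdgeEt.edgeH h N m) := rfl

end Leray

section Main

variable {Z : Scheme.{u}} {W : Scheme.{u}} (j : W ⟶ Z) [IsOpenImmersion j] [ELF Z] [HasGen j]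

omit [IsOpenImmersion j] [ELF Z] [HasGen j] in
theorem gmPush_eq : EtLim.GmPush j = gmPush j := rfl

/-- `H²(Z, G_m) → H²(Z, j_* G_m)` is injective. -/
theorem H2_gmPush_injective :
    Function.Injective (((EtCoh.HF Z 2).map (gmPush j)).hom) := by
  rw [injective_iff_map_eq_zero]
  intro x hx
  have hx' : Ext.comp x (Abelian.Ext.mk₀ (gmPush j)) (add_zero 2) = 0 := hx
  obtain ⟨y, hy⟩ := Abelian.Ext.covariant_sequence_exact₁ _ (shortExact_divSeq j) x hx'
    (n₀ := 1) rfl
  have h5 : y = 0 := (subsingleton_H1_dSheaf Z (TW j)).elim y 0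
  rw [← hy, h5, Abelian.Ext.zero_comp]
  rfl

omit [HasGen j] in
theorem HofPush_two_injective [PreservesFiniteLimits (EtCoh.pull j)] :
    Function.Injective (EtLim.HofPush j (EtCoh.Gm W) 2) := by
  have hS := Groth.Agent.Sga5.LowLeray.seq_shortExact (EtCoh.Gm W)
  have h1 : Epi ((EtCoh.push j).map (Groth.Agent.Sga5.LowLeray.seq (EtCoh.Gm W)).g) :=
    Groth.Agent.Sga5.GmR1.epi_push j (fun V x => inferInstance) hS (Iso.refl _)
  have hJ : Injective (Groth.Agent.Sga5.LowLeray.seq (EtCoh.Gm W)).X₂ :=
    inferInstanceAs (Injective (Injective.under (EtCoh.Gm W)))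
  have h3 : Function.Injective (Groth.Agent.EtpbcB.EdgeEt.edgeH j
      (Groth.Agent.Sga5.LowLeray.seq (EtCoh.Gm W)).X₁ 2) := edgeH_two_injective j hS h1
  rw [HofPush_eq_edgeH]
  exact h3

/-- **`H²(Z, G_m) → H²(W, G_m)` is injective.** -/
theorem HGmPull_two_injective [PreservesFiniteLimits (EtCoh.pull j)] :
    Function.Injective (EtLim.HGmPull j 2) :=
  (HofPush_two_injective j).comp (H2_gmPush_injective j)

end Main

end K281.DivInj
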