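import Groth.Agent.Etcore.Kappa228
import Groth.Agent.Dix.KummerLES
import Groth.Agent.Sga5.H848.PullMu
import Groth.Agent.Topos.H571.GmGlue
import Groth.Agent.Etcore.MuGlobal

/-!
# Naturality of the Kummer connecting map, and torsion in `H²(-, G_m)` from a fibre
-/

set_option autoImplicit false
universe u

open CategoryTheory CategoryTheory.Limits AlgebraicGeometry Opposite Abelian
open scoped Groth.Agent.Etcore.EtInst
open Groth.Agent.Etcore.EtInst Groth.Agent.Etcore.PullCoh Groth.Agent.Etcore.HpullCalc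
  Groth.Agent.Etcore.HC Groth.Agent.CurvesA.MuConst Groth.Agent.Etcore.Kappa228

namespace K281.KumNat

open Groth.Agent

variable {X Y : Scheme.{u}}

theorem HGmPull_eq_HG (f : X ⟶ Y) [PreservesFiniteLimits (EtCoh.pull f)] (q : ℕ)
    (x : HH Y (EtCoh.Gm Y) q) : @Eq (HH X (EtCoh.Gm X) q) (EtLim.HGmPull f q x) (HG f q x) :=
  Topos.H571.GmGlue.HGmPull_eq f q x

theorem HM_δ (f : X ⟶ Y) (n : ℕ) (hY : IsUnit (n : Γ(Y, ⊤))) (hX : IsUnit (n : Γ(X, ⊤))) (q : ℕ)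
    (x : HH Y (EtCoh.Gm Y) q) :
    HM n f (q + 1) (Dix.KummerLES.δ hY q x) = Dix.KummerLES.δ hX q (HG f q x) := by
  let S : ShortComplex (EtCoh.Ab Y) :=
    ShortComplex.mk (EtCoh.muι Y n) (EtCoh.powMap Y n) (kernel.condition (EtCoh.powMap Y n))
  let T : ShortComplex (EtCoh.Ab X) :=
    ShortComplex.mk (EtCoh.muι X n) (EtCoh.powMap X n) (kernel.condition (EtCoh.powMap X n))
  let φ : S.map (EtCoh.pull f) ⟶ T :=
    { τ₁ := pullMu n f
      τ₂ := pullGm f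
      τ₃ := pullGm f
      comm₁₂ := pullMu_ι n f
      comm₂₃ := by
        change pullGm f ≫ EtCoh.powMap X n = (EtCoh.pull f).map (EtCoh.powMap Y n) ≫ pullGm f
        rw [EtCoh.powMap, EtCoh.powMap, Functor.map_nsmul, Preadditive.comp_nsmul,
          Preadditive.nsmul_comp, CategoryTheory.Functor.map_id, Category.comp_id, Category.id_comp] }
  exact hpl_extClass f (Dix.KummerLES.shortExact hY) (Dix.KummerLES.shortExact hX) φ rfl x

theorem isUnit_pull (f : X ⟶ Y) (n : ℕ) (hY : IsUnit (n : Γ(Y, ⊤))) : IsUnit (n : Γ(X, ⊤)) := by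
  have := hY.map f.appTop.hom
  rwa [map_natCast] at this

/-- `H^q(Y, μ_n) → H^q(X, μ_n)` is injective if `H^q(Y, μ_n) → H^q(X, f⁻¹ μ_n)` is. -/
theorem HM_injective (f : X ⟶ Y) (n : ℕ) (hY : IsUnit (n : Γ(Y, ⊤))) (q : ℕ)
    (h : Function.Injective (EtCore.Hpull f (EtCoh.mu Y n) q)) : Function.Injective (HM n f q) := by
  have h1 := Sga5.H848.PullMu.isIso_pullMu f n hY
  exact (HHmap_bijective (pullMu n f) q).1.comp h

/-- **Torsion from the fibre.** -/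
theorem torsion_eq_zero (f : X ⟶ Y) (n : ℕ) (hY : IsUnit (n : Γ(Y, ⊤)))
    (hinj : Function.Injective (HM n f 2))
    (hgen : ∀ y : EtCoh.H X (EtCoh.mu X n) 2, ∃ c : EtCoh.H Y (EtCoh.Gm Y) 1,
      Dix.KummerLES.δ (isUnit_pull f n hY) 1 (HG f 1 c) = y)
    (η : EtCoh.H Y (EtCoh.Gm Y) 2) (hη : n • η = 0) : η = 0 := by
  obtain ⟨μ, hμ⟩ := Dix.KummerLES.exists_mu_of_nsmul_eq_zero hY 2 η hη
  obtain ⟨c, hc⟩ := hgen (HM n f 2 μ)
  have h1 : HM n f 2 (Dix.KummerLES.δ hY 1 c) = HM n f 2 μ := by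
    rw [← hc]
    exact HM_δ f n hY (isUnit_pull f n hY) 1 c
  have h2 := hinj h1
  rw [← hμ, ← h2]
  exact Dix.KummerLES.map_δ hY 1 c

end K281.KumNat
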