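import Groth.Agent.Etcore.Kappa228
import Groth.Agent.Sga4h.EtaleRes2

/-!
# `j⁻¹ G_m → G_m` is an isomorphism for `j` étale
-/

set_option autoImplicit false
universe u

open CategoryTheory CategoryTheory.Limits AlgebraicGeometry Opposite
open Groth.Agent.Etcore.PullCoh

namespace K281.PullGmEt

open Groth.Agent

attribute [local instance] Groth.Agent.S0101.result

variable {U X : Scheme.{u}} (j : U ⟶ X) [Etale j]

theorem pullGm_eq : Etcore.Kappa228.pullGm j = (Sga4h.EtaleRes2.pullGm j).hom := by
  have := Sga4h.EtaleRes.jCont j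
  refine pull_hom_ext j _ _ fun V s => ?_
  rw [Etcore.Kappa228.pullGm_eta]
  have h := Sga4h.EtaleRes.unit_app_comp j (EtCoh.Gm X) (op V)
  have h2 := congrArg (fun k => k.hom s) h
  exact (congrArg (fun t => (Sga4h.EtaleRes2.GmRestr j).hom.hom.app _ t) h2).symm

theorem isIso_pullGm : IsIso (Etcore.Kappa228.pullGm j) := by
  rw [pullGm_eq]
  infer_instance

end K281.PullGmEt
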