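import Groth.Agent.Dix.K281.Geo
import Groth.Agent.Dix.K281.DivInj
import Groth.Agent.Dix.K281.BrGlue
import Groth.Agent.Dix.K281.KumNat
import Groth.Agent.Dix.K281.PullGmEt
import Groth.Agent.Sga5.GmHartogs
import Groth.Agent.Sga5.SmoothField
import Groth.Agent.S0065
import Groth.Agent.S2821

/-!
# `H²(-, G_m)` of a blow-up: the formal part

Given the étale-local triviality (on the base) of a class on the blow-up, it comes from the base.
-/

set_option autoImplicit false
universe u

open CategoryTheory CategoryTheory.Limits AlgebraicGeometry Opposite TopologicalSpace BlowUp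
open Groth.Agent.Etcore.Kappa228
open scoped Groth.Agent.Etcore.EtInst

namespace K281.BlowAsm

open Groth.Agent Groth.Agent.Etcore.EtInst Groth.Agent.Etcore.PullCoh
open Groth.Agent.CohtopA.GmDivGen K281.Geo

attribute [local instance] Groth.Agent.S0101.result

/-- A regular scheme is étale-locally factorial. -/
theorem elf (X : Scheme.{u}) [IsLocallyNoetherian X]
    (hreg : ∀ x : ↥X, IsRegularLocalRing (X.presheaf.stalk x)) : ELF X where
  lf U := by
    have hU : Etale (X := U.left) (Y := X) U.hom := U.prop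
    have h : ∀ u : U.left, IsRegularLocalRing (U.left.presheaf.stalk u) := fun u =>
      (Groth.Agent.S0065.result (X := U.left) (Y := X) U.hom u).2 (hreg _)
    exact
      { noeth := LocallyOfFiniteType.isLocallyNoetherian (X := U.left) (Y := X) U.hom
        dom := fun u => have := h u; (Groth.Agent.S2821.result _).1
        ufd := fun u => have := h u; (Groth.Agent.S2821.result _).2 }

/-- `G_m → j_* G_m` is an isomorphism if the complement has depth at least two. -/
theorem isIso_GmPush {X : Scheme.{u}} [IsLocallyNoetherian X] (U : X.Opens)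
    (hdepth : ∀ x : X, x ∉ U → (2 : ℕ∞) ≤ LocCoh.depth (X.presheaf.stalk x) (X.presheaf.stalk x)) :
    IsIso (EtLim.GmPush U.ι) := by
  have key : ∀ V : X.Etaleᵒᵖ, IsIso ((EtLim.GmPush U.ι).hom.app V) := by
    intro V
    have hflat : Flat V.unop.hom := by
      have : Etale V.unop.hom := V.unop.prop
      infer_instance
    have h3 : IsIso ((pullback.fst V.unop.hom U.ι).appTop) := by
      refine Sga5.GmHartogs.isIso_appTop _ ?_
      have hb := Groth.Agent.Pi1A.DepthSpread.bijective_res_of_depth U hdepth V.unop.hom ⊤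
      have : ∀ (W : V.unop.left.Opens) (hW : W = ⊤ ⊓ V.unop.hom ⁻¹ᵁ U), Function.Bijective
        (V.unop.left.presheaf.map (homOfLE (le_top : W ≤ ⊤)).op) := by
        rintro _ rfl
        exact hb
      exact this _ (Sga5.GmHartogs.opensRange_fst U V.unop.hom)
    change IsIso (EtCoh.ΓUnits.map ((pullback.fst V.unop.hom U.ι)).op)
    have h4 : IsIso (Scheme.Γ.map (pullback.fst V.unop.hom U.ι).op) := h3
    exact Functor.map_isIso (forget₂ CommRingCat CommMonCat ⋙ CommMonCat.units ⋙
      commGroupAddCommGroupEquivalence.functor ⋙ AddCommGrpCat.uliftFunctor.{u + 1})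
      (Scheme.Γ.map (pullback.fst V.unop.hom U.ι).op)
  have : IsIso ((sheafToPresheaf _ _).map (EtLim.GmPush U.ι)) :=
    @NatIso.isIso_of_isIso_app _ _ _ _ _ _ ((sheafToPresheaf _ _).map (EtLim.GmPush U.ι)) key
  exact isIso_of_reflects_iso _ (sheafToPresheaf _ _)

/-- Extension of étale-locally trivial classes across codimension two. -/
theorem exists_HGmPull_eq {X : Scheme.{u}} [IsLocallyNoetherian X]
    (hreg : ∀ x : X, IsRegularLocalRing (X.presheaf.stalk x)) (U : X.Opens)
    (hdim : ∀ x : X, x ∉ U → 2 ≤ ringKrullDim (X.presheaf.stalk x))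
    (ζ : HH (U : Scheme.{u}) (EtCoh.Gm U) 2)
    (hloc : ∀ x : X, ∃ V : X.Etale, x ∈ Set.range V.hom ∧
      HG ((EtCoh.bc U.ι).obj V).hom 2 ζ = 0) :
    ∃ ξ : HH X (EtCoh.Gm X) 2, HG U.ι 2 ξ = ζ := by
  have hE := elf X hreg
  have hS := Groth.Agent.Sga5.LowLeray.seq_shortExact (EtCoh.Gm (U : Scheme.{u}))
  have h1 : Epi ((EtCoh.push U.ι).map (Groth.Agent.Sga5.LowLeray.seq (EtCoh.Gm (U : Scheme.{u}))).g) :=
    Groth.Agent.Sga5.GmR1.epi_push U.ι (fun V x => inferInstance) hS (Iso.refl _)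
  have hJ : Injective (Groth.Agent.Sga5.LowLeray.seq (EtCoh.Gm (U : Scheme.{u}))).X₂ :=
    inferInstanceAs (Injective (Injective.under (EtCoh.Gm (U : Scheme.{u}))))
  have hloc' : ∀ x : X, ∃ V : X.Etale, x ∈ Set.range V.hom ∧
      ∃ _ : PreservesFiniteLimits (EtCoh.pull ((EtCoh.bc U.ι).obj V).hom),
        EtCore.Hpull ((EtCoh.bc U.ι).obj V).hom
          (Groth.Agent.Sga5.LowLeray.seq (EtCoh.Gm (U : Scheme.{u}))).X₁ 2 ζ = 0 := by
    intro x
    obtain ⟨V, hx, h0⟩ := hloc x
    have het : Etale ((EtCoh.bc U.ι).obj V).hom := ((EtCoh.bc U.ι).obj V).prop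
    have hiso := K281.PullGmEt.isIso_pullGm ((EtCoh.bc U.ι).obj V).hom
    have h3 : Groth.Agent.Etcore.HpullCalc.hp ((EtCoh.bc U.ι).obj V).hom (EtCoh.Gm (U : Scheme.{u})) 2 ζ = 0 :=
      (HHmap_bijective (pullGm ((EtCoh.bc U.ι).obj V).hom) 2).1 (h0.trans (map_zero _).symm)
    exact ⟨V, hx, inferInstance, h3⟩
  obtain ⟨ξ₀, hξ₀⟩ := K281.BrGlue.exists_HofPush_eq U.ι hS h1 ζ hloc'
  have hiso := isIso_GmPush U (fun x hx => by
    have := hreg x
    have h2 := hdim x hx
    rw [Groth.Agent.Sga5.SmoothField.depth_eq] at h2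
    exact WithBot.coe_le_coe.1 h2)
  obtain ⟨ξ, hξ⟩ := (HHmap_bijective (EtLim.GmPush U.ι) 2).2 ξ₀
  refine ⟨ξ, ?_⟩
  refine (K281.KumNat.HGmPull_eq_HG U.ι 2 ξ).symm.trans ?_
  have h5 : EtLim.HGmPull U.ι 2 ξ = EtLim.HofPush U.ι (EtCoh.Gm (U : Scheme.{u})) 2
    (HHmap (EtLim.GmPush U.ι) 2 ξ) := rfl
  rw [h5, hξ]
  exact hξ₀

theorem HG_injective_of_hasGen {Z W : Scheme.{u}} (j : W ⟶ Z) [IsOpenImmersion j] [ELF Z]
    [K281.DivEval.HasGen j] : Function.Injective (HG j 2) := by
  intro a b hab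
  exact K281.DivInj.HGmPull_two_injective j
    ((K281.KumNat.HGmPull_eq_HG j 2 a).trans (hab.trans (K281.KumNat.HGmPull_eq_HG j 2 b).symm))

section Main

variable {X X' : Scheme.{u}} [IsLocallyNoetherian X]
  (hreg : ∀ x : X, IsRegularLocalRing (X.presheaf.stalk x)) (I : X.IdealSheafData)
  (hYreg : ∀ y : ↥I.subscheme, IsRegularLocalRing (I.subscheme.presheaf.stalk y))
  (hYcodim : ∀ x : X, x ∈ I.support → 1 ≤ ringKrullDim (X.presheaf.stalk x))
  (b : X' ⟶ X) (hb : IsBlowUp b I)

include hreg hYreg hYcodim hb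

/-- **Injectivity of `H²(X, G_m) → H²(X', G_m)`.** -/
theorem injective : Function.Injective (HG b 2) := by
  obtain ⟨s, hs⟩ := exists_section_effLocus hb
  have hE := elf X hreg
  have hg : K281.DivEval.HasGen (effLocus I).ι := hasGen_of_codim (effLocus I) fun x hx =>
    le_trans (by norm_num) (two_le_dim hreg I hYreg hYcodim x hx)
  have h1 : s ≫ b = (effLocus I).ι := hs.w.trans (Category.id_comp _)
  intro x y hxy
  apply HG_injective_of_hasGen (effLocus I).ι
  rw [← HG_HG s b _ h1, ← HG_HG s b _ h1, hxy]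

/-- **Surjectivity** on classes which are étale-locally trivial on the base. -/
theorem exists_eq (η : HH X' (EtCoh.Gm X') 2)
    (hloc : ∀ x : X, ∃ V : X.Etale, x ∈ Set.range V.hom ∧ HG ((EtCoh.bc b).obj V).hom 2 η = 0) :
    ∃ ξ : HH X (EtCoh.Gm X) 2, HG b 2 ξ = η := by
  obtain ⟨s, hs⟩ := exists_section_effLocus hb
  have h1 : s ≫ b = (effLocus I).ι := hs.w.trans (Category.id_comp _)
  obtain ⟨ξ, hξ⟩ := exists_HGmPull_eq hreg (effLocus I) (two_le_dim hreg I hYreg hYcodim)
    (HG s 2 η) (fun x => by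
      obtain ⟨V, hx, h0⟩ := hloc x
      refine ⟨V, hx, ?_⟩
      let k : ((EtCoh.bc (effLocus I).ι).obj V).left ⟶ ((EtCoh.bc b).obj V).left :=
        pullback.lift (pullback.fst V.hom (effLocus I).ι) (pullback.snd V.hom (effLocus I).ι ≫ s) (by
          rw [Category.assoc, h1]
          exact pullback.condition)
      have hk : k ≫ ((EtCoh.bc b).obj V).hom = ((EtCoh.bc (effLocus I).ι).obj V).hom ≫ s :=
        pullback.lift_snd _ _ _
      rw [HG_HG ((EtCoh.bc (effLocus I).ι).obj V).hom s _ rfl,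
        ← HG_HG k ((EtCoh.bc b).obj V).hom _ hk, h0, map_zero])
  have hker : I.subschemeι.ker = I := Scheme.IdealSheafData.ker_subschemeι I
  have hf : Mor2.IsRegularClosedImmersion I.subschemeι :=
    K555.BlowGeo.isRegularClosedImmersion I.subschemeι (fun y => hreg _) hYreg
  have hprop : IsProper b := K555.BlowGeo.isProper hb
  have hnoeth : IsLocallyNoetherian X' := LocallyOfFiniteType.isLocallyNoetherian b
  have hreg' : ∀ x' : X', IsRegularLocalRing (X'.presheaf.stalk x') :=
    K555.BlowGeo.regular_blowUp hreg I.subschemeι hf hYreg (by rw [hker]; exact hb)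
  have hE := elf X' hreg'
  have hso : IsOpenImmersion s :=
    MorphismProperty.of_isPullback (P := @IsOpenImmersion) hs.flip inferInstance
  have hg : K281.DivEval.HasGen s := hasGen_section hb hs
  refine ⟨ξ, ?_⟩
  apply HG_injective_of_hasGen s
  rw [HG_HG s b _ h1, hξ]

end Main

end K281.BlowAsm
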