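import Groth.Agent.Dix.K281.LocTriv
import Groth.Agent.Dix.K281.BlowAsm

/-!
# The `ℓ`-primary part of `H²(-, G_m)` of a blow-up of a regular scheme in a regular centre
-/

set_option autoImplicit false
universe u

open CategoryTheory CategoryTheory.Limits AlgebraicGeometry Opposite TopologicalSpace BlowUp
open Groth.Agent.Etcore.Kappa228
open scoped Groth.Agent.Etcore.EtInst

namespace K281.BlowMain

open Groth.Agent.Etcore.EtInst

theorem main (hP : K281.ProjFibre.PnGen.{u}) (X X' : Scheme.{u}) [IsLocallyNoetherian X]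
    (hreg : ∀ x : X, IsRegularLocalRing (X.presheaf.stalk x)) (I : X.IdealSheafData)
    (hYreg : ∀ y : ↥I.subscheme, IsRegularLocalRing (I.subscheme.presheaf.stalk y))
    (hYcodim : ∀ x : X, x ∈ I.support → 1 ≤ ringKrullDim (X.presheaf.stalk x))
    (b : X' ⟶ X) (hb : BlowUp.IsBlowUp b I) (ℓ : ℕ)
    (hℓY : ∀ x : X, x ∈ I.support → (ℓ : X.residueField x) ≠ 0)
    [Limits.PreservesFiniteLimits (EtCoh.pull b)] :
    (∀ ξ : EtCoh.H X (EtCoh.Gm X) 2, (∃ m : ℕ, ℓ ^ m • ξ = 0) → EtLim.HGmPull b 2 ξ = 0 → ξ = 0) ∧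
    (∀ η : EtCoh.H X' (EtCoh.Gm X') 2, (∃ m : ℕ, ℓ ^ m • η = 0) →
      ∃ ξ : EtCoh.H X (EtCoh.Gm X) 2, (∃ m : ℕ, ℓ ^ m • ξ = 0) ∧ EtLim.HGmPull b 2 ξ = η) := by
  have hinj : Function.Injective (EtLim.HGmPull b 2) := by
    intro x y hxy
    apply K281.BlowAsm.injective hreg I hYreg hYcodim b hb
    exact (K281.KumNat.HGmPull_eq_HG b 2 x).symm.trans
      (hxy.trans (K281.KumNat.HGmPull_eq_HG b 2 y))
  refine ⟨fun ξ _ h0 => hinj (h0.trans (map_zero _).symm), fun η ⟨m, hm⟩ => ?_⟩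
  obtain ⟨ξ, hξ⟩ := K281.BlowAsm.exists_eq hreg I hYreg hYcodim b hb η (fun x => by
    by_cases hx : x ∈ I.support
    · exact K281.LocTriv.exists_of_mem hreg I hYreg hYcodim b hb hP x hx (ℓ ^ m)
        (by rw [Nat.cast_pow]; exact pow_ne_zero m (hℓY x hx)) η hm
    · exact K281.LocTriv.exists_of_notMem I b hb x
        (K281.Geo.mem_effLocus_of_notMem_support I x hx) η)
  have hξ' : EtLim.HGmPull b 2 ξ = η := (K281.KumNat.HGmPull_eq_HG b 2 ξ).trans hξ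
  refine ⟨ξ, ⟨m, hinj ?_⟩, hξ'⟩
  rw [map_nsmul, hξ', map_zero]
  exact hm

end K281.BlowMain
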