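import Groth.Agent.CurvesA.H1GmPic
import Groth.Agent.EtpbcB.EdgeEt
import Groth.Agent.Etcore.PullCoh
import Groth.Agent.Fdesc.LocGenPullback
import Groth.Prelude.Def_EtLim

/-!
# Naturality of `H¹`-classes of torsor data, and of `Pic X → H¹(X, G_m)`

* `HofPush_clsOf`: the edge map `H¹(Y, u_* F) → H¹(X, F)` on classes of torsor data;
* `HGmPull_clsL`: `u^* (cls L) = cls (u^* L)`.
-/

set_option autoImplicit false
universe u

open CategoryTheory CategoryTheory.Limits CategoryTheory.Abelian AlgebraicGeometry Opposite TopologicalSpace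

namespace K281.ClsPull

open Groth.Agent.CurvesA Groth.Agent.CurvesA.TorsorCls Groth.Agent.CurvesA.Torsor
open Groth.Agent.CurvesA.TorsorOps
open Groth.Agent.Etcore.PullCoh Groth.Agent.EtpbcB

section Zero

variable {X Y : Scheme.{u}}

theorem equiv₀_mk₀ {F : EtCoh.Ab X} (φ : EtCoh.const X ℤ ⟶ F) :
    Sheaf.H.equiv₀ F (H1GmPic.hTop X) (Ext.mk₀ φ) =
      φ.hom.app (op (EtCoh.top X)) (cst X ℤ ⟨1⟩) := by
  have h : Ext.addEquiv₀ (Ext.mk₀ φ) = φ := Ext.addEquiv₀.apply_symm_apply φ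
  unfold Sheaf.H.equiv₀
  rw [AddEquiv.trans_apply, AddEquiv.trans_apply]
  erw [h]
  rfl

variable (u : X ⟶ Y)

theorem pullConst_inv_res (m : ULift.{u + 1} ℤ) :
    (EtCore.pullConst u ℤ).inv.hom.app _ ((EtCoh.const X ℤ).obj.map
      (toTop ((EtCoh.bc u).obj (EtCoh.top Y))).op (cst X ℤ m)) =
      eta u _ _ (cst Y ℤ m) := by
  have h := pullConst_unit u ℤ m
  have h2 := congrArg (fun t => (EtCore.pullConst u ℤ).inv.hom.app _ t) h
  refine h2.symm.trans ?_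
  change ((EtCore.pullConst u ℤ).hom ≫ (EtCore.pullConst u ℤ).inv).hom.app _ _ = _
  rw [Iso.hom_inv_id]
  rfl

theorem counit_eta (F : EtCoh.Ab X) (U : Y.Etale) (s : EtCoh.sect ((EtCoh.push u).obj F) U) :
    ((EtCoh.pullPushAdj u).counit.app F).hom.app _ (eta u ((EtCoh.push u).obj F) U s) = s := by
  have h := (EtCoh.pullPushAdj u).right_triangle_components F
  exact congrArg (fun k => k.hom.app (op U) s) h

/-- The morphism out of the constant sheaf corresponding to `g : ℤ_Y ⟶ u_* F`. -/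
noncomputable def adjC {F : EtCoh.Ab X} (g : EtCoh.const Y ℤ ⟶ (EtCoh.push u).obj F) :
    EtCoh.const X ℤ ⟶ F :=
  (EtCore.pullConst u ℤ).inv ≫ ((EtCoh.pullPushAdj u).homEquiv _ _).symm g

theorem adjC_app {F : EtCoh.Ab X} (g : EtCoh.const Y ℤ ⟶ (EtCoh.push u).obj F)
    (r : EtCoh.top X ⟶ (EtCoh.bc u).obj (EtCoh.top Y)) :
    (adjC u g).hom.app (op (EtCoh.top X)) (cst X ℤ ⟨1⟩) =
      F.obj.map r.op (g.hom.app (op (EtCoh.top Y)) (cst Y ℤ ⟨1⟩)) := by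
  have h1 : (adjC u g).hom.app (op ((EtCoh.bc u).obj (EtCoh.top Y)))
      ((EtCoh.const X ℤ).obj.map (toTop ((EtCoh.bc u).obj (EtCoh.top Y))).op (cst X ℤ ⟨1⟩)) =
      g.hom.app (op (EtCoh.top Y)) (cst Y ℤ ⟨1⟩) := by
    rw [adjC, Adjunction.homEquiv_counit, map_comp_app, pullConst_inv_res, map_comp_app, eta_map,
      counit_eta]
  rw [← h1, ← map_res, ← res_comp, toTop_ext (r ≫ toTop _) (𝟙 (EtCoh.top X)), res_id]

end Zero

section One

variable {X Y : Scheme.{u}} (u : X ⟶ Y) [PreservesFiniteLimits (EtCoh.pull u)]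

/-- **The edge map on classes of torsor data.** -/
theorem HofPush_clsOf {F : EtCoh.Ab X} {P : Y.Etaleᵒᵖ ⥤ Type (u + 1)}
    (D : DiffMap ((EtCoh.push u).obj F).obj P) {P' : X.Etaleᵒᵖ ⥤ Type (u + 1)}
    (D' : DiffMap F.obj P') (α : ∀ U : Y.Etale, P.obj (op U) → P'.obj (op ((EtCoh.bc u).obj U)))
    (hα : ∀ {U V : Y.Etale} (f : V ⟶ U) (p : P.obj (op U)),
      α V (P.map f.op p) = P'.map ((EtCoh.bc u).map f).op (α U p))
    (hD : ∀ (U : Y.Etale) (p q : P.obj (op U)),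
      D.d (op U) p q = D'.d (op ((EtCoh.bc u).obj U)) (α U p) (α U q))
    (hP : supp P (EtCoh.top Y) ∈ Y.smallEtaleTopology (EtCoh.top Y))
    (hP' : supp P' (EtCoh.top X) ∈ X.smallEtaleTopology (EtCoh.top X)) :
    EtLim.HofPush u F 1 (clsOf (H1GmPic.hTop Y) ((EtCoh.push u).obj F) D hP) =
      clsOf (H1GmPic.hTop X) F D' hP' := by
  let S := can F
  have hS : S.ShortExact := can_shortExact F
  let c' : Chart S D' := (exists_chart (S := can F) D').some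
  obtain ⟨q', hq'⟩ := exists_isSec (H1GmPic.hTop X) c' hP'
  let T := EdgeLemma.T (EtCoh.push u) S
  have hT : T.ShortExact := EdgeLemma.shortExact_T hS
  let c : Chart T D :=
    { φ := fun U p => c'.φ (op ((EtCoh.bc u).obj U.unop)) (α U.unop p)
      nat := fun {U V} f p => by
        have h1 := hα f.unop p
        exact (congrArg _ h1).trans (c'.nat _ _)
      diff := fun U p q => by
        refine (c'.diff _ _ _).trans ?_
        exact congrArg _ (hD U.unop p q).symm }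
  obtain ⟨q, hq⟩ := exists_isSec (H1GmPic.hTop Y) c hP
  rw [← dl_eq_clsOf (H1GmPic.hTop Y) hT c hq hP, ← dl_eq_clsOf (H1GmPic.hTop X) hS c' hq' hP']
  -- the sections
  let κ := EdgeLemma.kap (EtCoh.push u) S
  have hκ : κ.hom.app (op (EtCoh.top Y)) q =
      S.X₃.obj.map (toTop ((EtCoh.bc u).obj (EtCoh.top Y))).op q' := by
    apply eq_of_locally_eq ((EtCoh.push u).obj S.X₃) (supp P (EtCoh.top Y)) hP
    intro V f hf
    obtain ⟨p⟩ := hf
    have h1 : ((EtCoh.push u).obj S.X₃).obj.map f.op (κ.hom.app (op (EtCoh.top Y)) q) =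
        κ.hom.app (op V) (T.X₃.obj.map f.op q) := (map_res κ f q).symm
    have h2 : T.X₃.obj.map f.op q = T.g.hom.app (op V) (c.φ (op V) p) := by
      rw [hq V p]
      rw [(H1GmPic.hTop Y).hom_ext f ((H1GmPic.hTop Y).from V)]
    have h3 : κ.hom.app (op V) (T.g.hom.app (op V) (c.φ (op V) p)) =
        ((EtCoh.push u).map S.g).hom.app (op V) (c.φ (op V) p) :=
      congrArg (fun k : (EtCoh.push u).obj S.X₂ ⟶ (EtCoh.push u).obj S.X₃ => k.hom.app (op V) (c.φ (op V) p))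
        (EdgeLemma.π_kap (R := EtCoh.push u) (S := S))
    have h4 : ((EtCoh.push u).map S.g).hom.app (op V) (c.φ (op V) p) =
        S.X₃.obj.map ((H1GmPic.hTop X).from ((EtCoh.bc u).obj V)).op q' := hq' _ _
    rw [h1, h2, h3, h4]
    change _ = S.X₃.obj.map ((EtCoh.bc u).map f).op _
    rw [← res_comp]
    rw [(H1GmPic.hTop X).hom_ext ((H1GmPic.hTop X).from ((EtCoh.bc u).obj V)) _]
  rw [dl_apply, dl_apply]
  obtain ⟨g, hg⟩ := (Ext.mk₀_bijective _ _).2 ((Sheaf.H.equiv₀ T.X₃ (H1GmPic.hTop Y)).symm q)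
  have hgq : g.hom.app (op (EtCoh.top Y)) (cst Y ℤ ⟨1⟩) = q := by
    rw [← equiv₀_mk₀, hg, AddEquiv.apply_symm_apply]
  rw [← hg]
  have h1 : (Sheaf.H.equiv₀ S.X₃ (H1GmPic.hTop X)).symm q' = Ext.mk₀ (adjC u (g ≫ κ)) := by
    rw [AddEquiv.symm_apply_eq, equiv₀_mk₀, adjC_app u _ (EtCore.bcTopIso u).inv, map_comp_app, hgq,
      hκ, ← res_comp, toTop_ext ((EtCore.bcTopIso u).inv ≫ toTop _) (𝟙 _), res_id]
  rw [h1]
  have h2 : EtLim.HofPush u S.X₁ 1 ((Ext.mk₀ g).comp hT.extClass (zero_add 1)) =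
      EdgeEt.edgeH u S.X₁ 1 ((Ext.mk₀ g).comp hT.extClass (zero_add 1)) := rfl
  refine h2.trans ?_
  rw [EdgeEt.edgeH_eq]
  have h3 := EdgeLemma.edge_delta (EtCoh.pullPushAdj u) hS (EtCoh.const Y ℤ) 0 (Ext.mk₀ g)
  refine (congrArg (fun e => (Ext.mk₀ (EtCore.pullConst u ℤ).inv).comp e (zero_add 1)) h3).trans ?_
  rw [Ext.mk₀_comp_mk₀, EdgeLemma.edge_mk₀, Ext.mk₀_comp_mk₀_assoc]
  rfl

end One

section Gm

open Groth.Agent.Fdesc.LocGen Groth.Agent.CurvesA.GmSect Groth.Agent.CurvesA.PicOfH1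
open Groth.Agent.CurvesA.H1GmPic

variable {X Y : Scheme.{u}} (u : X ⟶ Y)

/-- Pull back of local generators. -/
noncomputable def pullGen {L : Y.Modules} (p : Gen L) : Gen ((Scheme.Modules.pullback u).obj L) :=
  ⟨u ⁻¹ᵁ p.U, pullSec u p.e, p.gen.pullSec u⟩

lemma Ratio_pull {L : Y.Modules} {T T' : Scheme.{u}} {h : T ⟶ Y} {h' : T' ⟶ X} {t : T' ⟶ T}
    (w : t ≫ h = h' ≫ u) {p q : Gen L} {a : (Γ(T, ⊤))ˣ} (hr : Ratio h p q a) :
    Ratio h' (pullGen u p) (pullGen u q) (Units.map (t.appTop.hom : _ →* _) a) := by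
  obtain ⟨W, hp, hq, hW, b, hb, hba⟩ := hr
  have hW' : ⊤ ≤ (t ≫ h) ⁻¹ᵁ W := by
    rw [Scheme.Hom.comp_preimage]
    exact t.preimage_mono hW
  have hW'' : ⊤ ≤ (h' ≫ u) ⁻¹ᵁ W := by
    rw [← w]
    exact hW'
  have hW3 : ⊤ ≤ h' ⁻¹ᵁ (u ⁻¹ᵁ W) := by
    rw [← Scheme.Hom.comp_preimage]
    exact hW''
  refine ⟨u ⁻¹ᵁ W, u.preimage_mono hp, u.preimage_mono hq, hW3, (u.app W).hom b, ?_, ?_⟩
  · have h1 := congrArg (pullSec u) hb
    rw [pullSec_smul, ← res_pullSec, ← res_pullSec] at h1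
    exact h1
  · change pb h' hW3 ((u.app W).hom b) = t.appTop.hom (a : Γ(T, ⊤))
    rw [← hba, pb_comp h t hW hW', pb_congr w hW' hW'']
    unfold pb
    rw [← CommRingCat.comp_apply]
    congr 2

omit u in
theorem le_aux {T T' : Scheme.{u}} {h : T ⟶ Y} {h' : T' ⟶ X} {t : T' ⟶ T} (u : X ⟶ Y)
    (w : t ≫ h = h' ≫ u) {W : Y.Opens} (hW : ⊤ ≤ h ⁻¹ᵁ W) : ⊤ ≤ h' ⁻¹ᵁ (u ⁻¹ᵁ W) := by
  have hW' : ⊤ ≤ (t ≫ h) ⁻¹ᵁ W := by
    rw [Scheme.Hom.comp_preimage]
    exact t.preimage_mono hW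
  rw [w] at hW'
  exact hW'

variable [PreservesFiniteLimits (EtCoh.pull u)]

/-- **Naturality of `Pic X → H¹(X, G_m)`.** -/
theorem HGmPull_clsL (L : Y.Modules) (hL : PicF.IsInvertible L)
    (hL' : PicF.IsInvertible ((Scheme.Modules.pullback u).obj L)) :
    EtLim.HGmPull u 1 (clsL L hL) = clsL ((Scheme.Modules.pullback u).obj L) hL' := by
  have h1 := map_clsOf (hTop Y) (EtLim.GmPush u) (D L) (supp_mem hL (EtCoh.top Y))
  have h2 : EtLim.HGmPull u 1 (clsL L hL) =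
      EtLim.HofPush u (EtCoh.Gm X) 1 (Sheaf.H.map (EtLim.GmPush u) 1 (clsL L hL)) := rfl
  rw [h2, clsL, h1, clsL]
  refine HofPush_clsOf u (pushD (EtLim.GmPush u).hom (D L)) (D ((Scheme.Modules.pullback u).obj L))
    (fun U p => ⟨⟨pullGen u p.down.1, ?_⟩⟩) (fun f p => rfl) ?_ _ _
  · exact le_aux u (pullback.condition (f := U.hom) (g := u)) p.down.2
  · intro U p q
    apply toU.injective
    have h4 := Ratio_pull u (h := U.hom) (h' := ((EtCoh.bc u).obj U).hom) (t := pullback.fst U.hom u)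
      pullback.condition (D_spec (op U) p q)
    exact h4.unique (D_spec (L := (Scheme.Modules.pullback u).obj L) (op ((EtCoh.bc u).obj U))
      ⟨⟨pullGen u p.down.1, _⟩⟩ ⟨⟨pullGen u q.down.1, _⟩⟩)

end Gm

end K281.ClsPull
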