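import Mathlib.RingTheory.LittleWedderburn
import Groth.Agent.CurvesA.AcycEtale
import Groth.Agent.Sga4h.EtaleRes2
import Groth.Agent.S5715
import Groth.Agent.S0228
import Groth.Agent.S0101
import Groth.Agent.S0527

/-!
# Cohomology of `𝔾_m` on finite schemes over finite fields
-/

set_option autoImplicit false
set_option linter.unusedSectionVars false
universe u

open CategoryTheory CategoryTheory.Limits CategoryTheory.Abelian AlgebraicGeometry Opposite TopologicalSpace
open Groth.Agent.CurvesA Groth.Agent.CurvesA.PushAcyclic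

noncomputable section

namespace K281.CondFin

theorem finrank_eq_one (K : Type u) [Field K] [Finite K] (D : Type u) [DivisionRing D] [Algebra K D]
    [Algebra.IsCentral K D] [FiniteDimensional K D] : Module.finrank K D = 1 := by
  have hD : Finite D := Module.finite_of_finite K
  have hc : ∀ x y : D, x * y = y * x := (littleWedderburn D).mul_comm
  rw [← Subalgebra.bot_eq_top_iff_finrank_eq_one]
  refine top_le_iff.1 (le_trans (fun x _ => ?_) (Algebra.IsCentral.out (K := K) (D := D)))
  rw [Subalgebra.mem_center_iff]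
  exact fun b => hc b x

/-- finite fields -/
theorem subsingleton_field (k : Type u) [Field k] [Finite k] (q : ℕ) (hq : 1 ≤ q) :
    Subsingleton (EtCoh.H (Spec (CommRingCat.of k)) (EtCoh.Gm (Spec (CommRingCat.of k))) q) := by
  refine Groth.Agent.S0228.result k (fun K' _ _ _ D _ _ _ _ => ?_) q hq
  have : Finite K' := Module.finite_of_finite k
  exact finrank_eq_one K' D

/-- A local ring with nilpotent maximal ideal is henselian. -/
theorem henselianLocalRing_of_isNilpotent (A : Type u) [CommRing A] [IsLocalRing A]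
    (h : IsNilpotent (IsLocalRing.maximalIdeal A)) : HenselianLocalRing A where
  is_henselian := by
    have hA : HenselianRing A (IsLocalRing.maximalIdeal A) := Groth.Agent.S0527.result A _ (by
      obtain ⟨n, hn⟩ := h
      intro x hx
      refine ⟨n, ?_⟩
      have h1 := Ideal.pow_mem_pow hx n
      rwa [hn] at h1)
    intro f hf a₀ h₁ h₂
    exact HenselianRing.is_henselian (I := IsLocalRing.maximalIdeal A) f hf a₀ h₁
      (h₂.map (Ideal.Quotient.mk (IsLocalRing.maximalIdeal A)))

/-- local artinian rings with finite residue field -/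
theorem subsingleton_local (R : Type u) [CommRing R] [IsArtinianRing R] [IsLocalRing R]
    [Finite (IsLocalRing.ResidueField R)] (q : ℕ) (hq : 1 ≤ q) :
    Subsingleton (EtCoh.H (Spec (CommRingCat.of R)) (EtCoh.Gm (Spec (CommRingCat.of R))) q) := by
  have hR : HenselianLocalRing R := henselianLocalRing_of_isNilpotent R
    (by rw [← IsLocalRing.jacobson_eq_maximalIdeal ⊥ bot_ne_top]; exact IsArtinianRing.isNilpotent_jacobson_bot)
  have hpf := Groth.Agent.S0101.result
    (Spec.map (CommRingCat.ofHom (Ideal.Quotient.mk (IsLocalRing.maximalIdeal R))))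
  have h1 := Groth.Agent.S5715.result R (IsLocalRing.maximalIdeal R)
    (IsLocalRing.maximalIdeal.isMaximal R).ne_top q hq
  let F : Field (R ⧸ IsLocalRing.maximalIdeal R) := Ideal.Quotient.field _
  have hf : Finite (R ⧸ IsLocalRing.maximalIdeal R) := ‹Finite (IsLocalRing.ResidueField R)›
  have h2 := subsingleton_field (R ⧸ IsLocalRing.maximalIdeal R) q hq
  exact h1.1.subsingleton

theorem subsingleton_ext {X : Scheme.{u}} (V : X.Etale) (q : ℕ)
    (h : Subsingleton (EtCoh.H V.left (EtCoh.Gm V.left) q)) :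
    Subsingleton (Ext ((Z X).obj V) (EtCoh.Gm X) q) := by
  have hj := Groth.Agent.Sga4h.EtaleRes.jCont V.hom
  let e1 : Ext ((Z X).obj V) (EtCoh.Gm X) q ≃+
      EtCoh.H V.left ((EtShriek.restrAlong V.hom).obj (EtCoh.Gm X)) q :=
    AcycEtale.extEquivH V (EtCoh.Gm X) q
  let ι := Groth.Agent.Sga4h.EtaleRes2.GmRestr V.hom
  let m : EtCoh.H V.left ((EtShriek.restrAlong V.hom).obj (EtCoh.Gm X)) q →+
      EtCoh.H V.left (EtCoh.Gm V.left) q := (Ext.mk₀ ι.hom).postcomp _ (add_zero q)
  have hm : Function.Injective m := by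
    intro a b hab
    have h1 := congrArg (fun y => Ext.comp y (Ext.mk₀ ι.inv) (add_zero q)) hab
    change (a.comp (Ext.mk₀ ι.hom) (add_zero q)).comp (Ext.mk₀ ι.inv) (add_zero q) =
      (b.comp (Ext.mk₀ ι.hom) (add_zero q)).comp (Ext.mk₀ ι.inv) (add_zero q) at h1
    rw [Ext.comp_assoc_of_third_deg_zero, Ext.comp_assoc_of_third_deg_zero, Ext.mk₀_comp_mk₀,
      Iso.hom_inv_id, Ext.comp_mk₀_id, Ext.comp_mk₀_id] at h1
    exact h1
  exact (hm.comp e1.injective).subsingleton

/-- Schemes with discrete topology: reduction to points. -/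
theorem subsingleton_of_points {Y : Scheme.{u}} (q : ℕ)
    (h : ∀ y : Y, ∃ (R : CommRingCat.{u}) (j : Spec R ⟶ Y), IsOpenImmersion j ∧ Set.range j = {y} ∧
      Subsingleton (EtCoh.H (Spec R) (EtCoh.Gm (Spec R)) q)) :
    Subsingleton (EtCoh.H Y (EtCoh.Gm Y) q) := by
  choose R j hj hr hs using h
  let W : Y → Y.Etale := fun y => Scheme.Etale.mk (j y)
  let f : ∀ y, W y ⟶ EtCoh.top Y := fun y => MorphismProperty.Over.homMk (j y) (Category.comp_id _) trivial
  have key : ∀ x : Ext ((Z Y).obj (EtCoh.top Y)) (EtCoh.Gm Y) q, x = 0 := by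
    intro x
    refine AcycLocal.ext_eq_zero_of_disjoint W f (fun y => ?_) (fun v w a b hab => ?_) (fun v => ?_)
      (EtCoh.Gm Y) q x (fun v y => ?_)
    · exact inferInstanceAs (Mono (j y))
    · change (j v) a = (j w) b at hab
      have h1 : (j v) a ∈ Set.range (j v) := ⟨a, rfl⟩
      have h2 : (j w) b ∈ Set.range (j w) := ⟨b, rfl⟩
      rw [hr] at h1 h2
      rw [← Set.mem_singleton_iff.1 h1, ← Set.mem_singleton_iff.1 h2, hab]
    · have h1 : v ∈ Set.range (j v) := by rw [hr]; exact rfl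
      obtain ⟨y, hy⟩ := h1
      exact ⟨v, y, hy⟩
    · exact (subsingleton_ext (W v) q (hs v)).elim _ _
  have e := SiteZU.HEquiv.{u + 1, u + 1} (J := Y.smallEtaleTopology) (EtCore.topIsTerminal Y) (EtCoh.Gm Y) q
  have h1 : Subsingleton (Ext ((Z Y).obj (EtCoh.top Y)) (EtCoh.Gm Y) q) :=
    ⟨fun a b => (key a).trans (key b).symm⟩
  exact e.toEquiv.subsingleton

/-- Affine schemes with finitely many functions. -/
theorem subsingleton_of_finite {Y : Scheme.{u}} [IsAffine Y] [Finite Γ(Y, ⊤)] (q : ℕ) (hq : 1 ≤ q) :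
    Subsingleton (EtCoh.H Y (EtCoh.Gm Y) q) := by
  have hAr : IsArtinianRing Γ(Y, ⊤) := inferInstance
  have h1 : IsLocallyArtinian (Spec Γ(Y, ⊤)) := Scheme.isLocallyArtinianScheme_Spec.2 hAr
  have h2 : IsLocallyArtinian Y := IsLocallyArtinian.of_isImmersion Y.isoSpec.hom
  have h3 : DiscreteTopology Y := inferInstance
  refine subsingleton_of_points q fun y => ?_
  let U : Y.Opens := ⟨{y}, isOpen_discrete _⟩
  have hr : Set.range U.ι = {y} := Scheme.Opens.range_ι U
  have hcl : IsClosedImmersion U.ι := .of_isPreimmersion _ (isClosed_discrete _)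
  obtain ⟨ha, hs⟩ := IsClosedImmersion.isAffine_surjective_of_isAffine U.ι
  have hf : Finite Γ(U.toScheme, ⊤) := Finite.of_surjective _ hs
  have hArU : IsArtinianRing Γ(U.toScheme, ⊤) := inferInstance
  have hsub : Subsingleton U.toScheme := by
    refine ⟨fun a b => U.ι.isOpenEmbedding.injective ?_⟩
    have ha : U.ι a ∈ Set.range U.ι := ⟨a, rfl⟩
    have hb : U.ι b ∈ Set.range U.ι := ⟨b, rfl⟩
    rw [hr] at ha hb
    exact (Set.mem_singleton_iff.1 ha).trans (Set.mem_singleton_iff.1 hb).symm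
  have hsub2 : Subsingleton (PrimeSpectrum Γ(U.toScheme, ⊤)) :=
    (Scheme.homeoOfIso U.toScheme.isoSpec).symm.toEquiv.subsingleton
  have hne2 : Nonempty (PrimeSpectrum Γ(U.toScheme, ⊤)) :=
    ⟨U.toScheme.isoSpec.hom (⟨y, rfl⟩ : U.toScheme)⟩
  have hloc : IsLocalRing Γ(U.toScheme, ⊤) := by
    have : Nontrivial Γ(U.toScheme, ⊤) := PrimeSpectrum.nonempty_iff_nontrivial.1 hne2
    have : Subsingleton (MaximalSpectrum Γ(U.toScheme, ⊤)) :=
      MaximalSpectrum.toPrimeSpectrum_injective.subsingleton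
    exact IsLocalRing.of_singleton_maximalSpectrum
  have hres : Finite (IsLocalRing.ResidueField Γ(U.toScheme, ⊤)) :=
    Finite.of_surjective _ (IsLocalRing.residue_surjective)
  refine ⟨Γ(U.toScheme, ⊤), U.toScheme.isoSpec.inv ≫ U.ι, inferInstance, ?_, ?_⟩
  · rw [← hr]
    ext z
    constructor
    · rintro ⟨a, rfl⟩
      exact ⟨U.toScheme.isoSpec.inv a, by rw [Scheme.Hom.comp_apply]⟩
    · rintro ⟨a, rfl⟩
      refine ⟨U.toScheme.isoSpec.hom a, ?_⟩
      rw [← Scheme.Hom.comp_apply, Iso.hom_inv_id_assoc]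
  · exact subsingleton_local Γ(U.toScheme, ⊤) q hq

/-- **Finite schemes over finite fields.** -/
theorem subsingleton {k : Type u} [Field k] [Finite k] {Y : Scheme.{u}} (g : Y ⟶ Spec (CommRingCat.of k))
    [IsFinite g] (q : ℕ) (hq : 1 ≤ q) : Subsingleton (EtCoh.H Y (EtCoh.Gm Y) q) := by
  have hA : IsAffine Y := isAffine_of_isAffineHom g
  have h1 : Finite Γ(Spec (CommRingCat.of k), ⊤) :=
    Finite.of_equiv k (Scheme.ΓSpecIso (CommRingCat.of k)).symm.commRingCatIsoToRingEquiv.toEquiv
  have h2 := g.finite_appTop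
  have h3 : Finite Γ(Y, ⊤) := by
    algebraize [g.appTop.hom]
    exact Module.finite_of_finite Γ(Spec (CommRingCat.of k), ⊤)
  exact subsingleton_of_finite q hq

end K281.CondFin
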