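import Groth.Agent.Dix.K281.ClosedGm
import Groth.Agent.Dix.GmPush
import Groth.Agent.CurvesA.SheafKer
import Groth.Agent.Pic13.H945.PatchBC
import Groth.Agent.Pic13.H126.PatchMain

/-!
# The exact sequence of units of a patching square

For a patching square `Y' ⟶ X'`, `Y ⟶ X` (`b : X' ⟶ X` finite, `i : Y ⟶ X` a closed immersion):
`0 ⟶ 𝔾_{m,X} ⟶ b_* 𝔾_{m,X'} ⊞ i_* 𝔾_{m,Y} ⟶ b_* i'_* 𝔾_{m,Y'} ⟶ 0` is exact on the étale site of `X`.
-/

set_option autoImplicit false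
set_option linter.unusedSectionVars false
universe u

open CategoryTheory CategoryTheory.Limits AlgebraicGeometry Opposite
open Groth.Agent.Pic13.H126.Patch Groth.Agent.Pic13.H17.Patch Groth.Agent.CurvesA Groth.Agent.Dix.GmPush

noncomputable section

namespace K281.CondGm

section ring

variable {X X' Y Y' : Scheme.{u}} {b : X' ⟶ X} {i : Y ⟶ X} {i' : Y' ⟶ X'} {π' : Y' ⟶ Y}

theorem ext_top (P : PatchSq b i i' π') {a a' : Γ(X, ⊤)} (h : b.appTop.hom a = b.appTop.hom a')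
    (h' : i.appTop.hom a = i.appTop.hom a') : a = a' := P.ext h h'

theorem exists_top (P : PatchSq b i i' π') (β : Γ(X', ⊤)) (γ : Γ(Y, ⊤))
    (h : i'.appTop.hom β = π'.appTop.hom γ) : ∃ a : Γ(X, ⊤), b.appTop.hom a = β ∧ i.appTop.hom a = γ := by
  refine P.surj ⊤ β γ le_rfl ?_
  refine h.trans ?_
  rw [Groth.Agent.Picfga.LineFam.fn_apply]
  exact (Groth.Agent.Fdesc.LocGen.ores_refl _).symm

theorem exists_unit (P : PatchSq b i i' π') (β : Γ(X', ⊤)ˣ) (γ : Γ(Y, ⊤)ˣ)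
    (h : i'.appTop.hom (β : Γ(X', ⊤)) = π'.appTop.hom (γ : Γ(Y, ⊤))) :
    ∃ a : Γ(X, ⊤)ˣ, b.appTop.hom (a : Γ(X, ⊤)) = β ∧ i.appTop.hom (a : Γ(X, ⊤)) = γ := by
  obtain ⟨a, ha1, ha2⟩ := exists_top P β γ h
  obtain ⟨c, hc1, hc2⟩ := exists_top P (β⁻¹ : Γ(X', ⊤)ˣ) (γ⁻¹ : Γ(Y, ⊤)ˣ) (by
    have h1 : Units.map (i'.appTop.hom : Γ(X', ⊤) →* Γ(Y', ⊤)) β =
        Units.map (π'.appTop.hom : Γ(Y, ⊤) →* Γ(Y', ⊤)) γ := Units.ext h
    have h2 := congrArg (fun z => z⁻¹) h1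
    beta_reduce at h2
    rw [← map_inv, ← map_inv] at h2
    exact congrArg Units.val h2)
  have h1 : a * c = 1 := ext_top P (by rw [map_mul, ha1, hc1, map_one, Units.mul_inv])
    (by rw [map_mul, ha2, hc2, map_one, Units.mul_inv])
  exact ⟨⟨a, c, h1, by rw [mul_comm]; exact h1⟩, ha1, ha2⟩

end ring

section sheaf

variable {X X' Y Y' : Scheme.{u}} {b : X' ⟶ X} {i : Y ⟶ X} {i' : Y' ⟶ X'} {π' : Y' ⟶ Y}

/-- `(V ×_X X') ×_{X'} Y' ⟶ V ×_X Y` -/
def m (w : i' ≫ b = π' ≫ i) (V : X.Etale) :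
    ((EtCoh.bc i').obj ((EtCoh.bc b).obj V)).left ⟶ ((EtCoh.bc i).obj V).left :=
  pullback.lift (proj i' ((EtCoh.bc b).obj V) ≫ proj b V) (projY i' ((EtCoh.bc b).obj V) ≫ π') (by
    have h1 := (isPullback i' ((EtCoh.bc b).obj V)).w
    have h2 := (isPullback b V).w
    rw [Category.assoc, Category.assoc, h2, ← w]
    exact (reassoc_of% h1) _)

theorem m_proj (w : i' ≫ b = π' ≫ i) (V : X.Etale) :
    m w V ≫ proj i V = proj i' ((EtCoh.bc b).obj V) ≫ proj b V := pullback.lift_fst _ _ _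

theorem m_projY (w : i' ≫ b = π' ≫ i) (V : X.Etale) :
    m w V ≫ projY i V = projY i' ((EtCoh.bc b).obj V) ≫ π' := pullback.lift_snd _ _ _

theorem bc_map_projY (f : Y ⟶ X) {U V : X.Etale} (g : V ⟶ U) :
    ((EtCoh.bc f).map g).left ≫ projY f U = projY f V := Over.w ((EtCoh.bc f).map g).toCommaMorphism

theorem m_naturality (w : i' ≫ b = π' ≫ i) {U V : X.Etale} (g : V ⟶ U) :
    ((EtCoh.bc i').map ((EtCoh.bc b).map g)).left ≫ m w U = m w V ≫ ((EtCoh.bc i).map g).left := by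
  have e1 := bc_map_proj i g
  have e2 := bc_map_proj b g
  have e3 := bc_map_proj i' ((EtCoh.bc b).map g)
  have e4 := bc_map_projY i g
  have e5 := bc_map_projY i' ((EtCoh.bc b).map g)
  refine pullback.hom_ext (f := U.hom) (g := i) ?_ ?_
  · change (_ ≫ m w U) ≫ proj i U = (m w V ≫ _) ≫ proj i U
    rw [Category.assoc, m_proj, Category.assoc, e1, reassoc_of% (m_proj w V), ← e2]
    exact (reassoc_of% e3) _
  · change (_ ≫ m w U) ≫ projY i U = (m w V ≫ _) ≫ projY i U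
    rw [Category.assoc, m_projY, Category.assoc, e4, m_projY]
    exact (reassoc_of% e5) _

/-- the natural transformation `m` -/
def mNat (w : i' ≫ b = π' ≫ i) :
    EtCoh.bc b ⋙ EtCoh.bc i' ⋙ (Scheme.Etale.forget Y' ⋙ Over.forget Y') ⟶
      EtCoh.bc i ⋙ (Scheme.Etale.forget Y ⋙ Over.forget Y) where
  app V := m w V
  naturality _ _ g := m_naturality w g

/-- the map `i_* 𝔾_m ⟶ b_* i'_* 𝔾_m` -/
def g₂ (w : i' ≫ b = π' ≫ i) : (EtCoh.push i).obj (EtCoh.Gm Y) ⟶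
    (EtCoh.push b).obj ((EtCoh.push i').obj (EtCoh.Gm Y')) :=
  ObjectProperty.homMk (Functor.whiskerRight (NatTrans.op (mNat w)) EtCoh.ΓUnits)

/-- the map `b_* 𝔾_m ⟶ b_* i'_* 𝔾_m` -/
def g₁ (b : X' ⟶ X) (i' : Y' ⟶ X') : (EtCoh.push b).obj (EtCoh.Gm X') ⟶
    (EtCoh.push b).obj ((EtCoh.push i').obj (EtCoh.Gm Y')) :=
  (EtCoh.push b).map (EtLim.GmPush i')

theorem comm (w : i' ≫ b = π' ≫ i) : EtLim.GmPush b ≫ g₁ b i' = EtLim.GmPush i ≫ g₂ w := by
  apply ObjectProperty.hom_ext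
  ext V : 2
  have h1 : EtCoh.ΓUnits.map (proj b V.unop).op ≫ EtCoh.ΓUnits.map (proj i' ((EtCoh.bc b).obj V.unop)).op =
      EtCoh.ΓUnits.map (proj i V.unop).op ≫ EtCoh.ΓUnits.map (m w V.unop).op := by
    rw [← EtCoh.ΓUnits.map_comp, ← EtCoh.ΓUnits.map_comp, ← op_comp, ← op_comp, m_proj]
  exact h1

theorem isPullback_V (H : IsPullback i' π' b i) (V : X.Etale) :
    IsPullback (proj i' ((EtCoh.bc b).obj V)) (m H.w V) (proj b V) (proj i V) := by
  have h1 : IsPullback (m H.w V ≫ projY i V) (proj i' ((EtCoh.bc b).obj V)) i (proj b V ≫ V.hom) := by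
    rw [m_projY, (isPullback b V).w]
    exact (isPullback i' ((EtCoh.bc b).obj V)).flip.paste_horiz H.flip
  exact (IsPullback.of_right h1 (m_proj H.w V) (isPullback i V).flip).flip

theorem patchSq_V (H : IsPullback i' π' b i) [IsFinite b] [IsClosedImmersion i] (P : IsPatch b i.ker) (V : X.Etale) :
    PatchSq (proj b V) (proj i V) (proj i' ((EtCoh.bc b).obj V)) (m H.w V) := by
  have hcl : IsClosedImmersion (proj i V) := MorphismProperty.of_isPullback (isPullback i V).flip inferInstance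
  refine Groth.Agent.Pic13.H126.PatchMain.patchSq_of_isPullback (isPullback_V H V) ?_
  have e1 : (proj i V).ker = i.ker.comap V.hom :=
    Groth.Agent.Pic13.H126.PatchMain.ker_eq_of_isPullback (isPullback i V)
  rw [e1]
  exact Groth.Agent.Pic13.H945.PatchBC.isPatch_of_flat (isPullback b V).flip P

end sheaf

end K281.CondGm
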