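import Groth.Agent.Dix.K281.CycSmooth
import Groth.Agent.Dix.K281.PullGmEt
import Groth.Agent.Dix.K281.KumNat
import Groth.Agent.Dix.K280.GmPullComp
import Groth.Agent.Dix.K280.DimOneAC
import Groth.Agent.Pi1B.LimField
import Groth.Agent.S3885

/-!
# Smooth proper curves over finite fields have no cohomological Brauer group
-/

set_option autoImplicit false
set_option linter.unusedSectionVars false
universe u

open CategoryTheory CategoryTheory.Limits CategoryTheory.Abelian AlgebraicGeometry Opposite TopologicalSpace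
open scoped Groth.Agent.Etcore.EtInst
open Groth.Agent.Etcore.EtInst Groth.Agent.Etcore.PullCoh Groth.Agent.Etcore.HpullCalc
  Groth.Agent.Etcore.HC Groth.Agent.Etcore.Kappa228
open Groth.Agent.CurvesA Groth.Agent.Etcore.EtZ
open Groth.Agent.Pi1B.LimField

noncomputable section

namespace K281.CycLim

open CycBase CycSmooth

/-- A class dying over an algebraic extension dies over a finite subextension. -/
theorem exists_finite_dies {k : Type u} [Field k] (K : Type u) [Field K] [Algebra k K]
    [Algebra.IsAlgebraic k K] {X : Scheme.{u}} (f : X ⟶ Spec (CommRingCat.of k)) [QuasiCompact f]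
    [QuasiSeparated f] (n : ℕ) (α : EtCoh.H X (EtCoh.Gm X) n)
    (h : EtLim.HGmPull (pullback.fst f (toBase k K)) n α = 0) :
    ∃ E : IntermediateField k K, FiniteDimensional k E ∧
      EtLim.HGmPull (pullback.fst f (toBase k E)) n α = 0 := by
  have haff : ∀ ⦃a b : (FinSub k K)ᵒᵖ⦄ (h : a ⟶ b), IsAffineHom ((diag k K f).map h) := by
    intro a b h
    exact MorphismProperty.of_isPullback
      (Groth.Agent.Pi1B.LimPull.isPullback_map (specFunctor k K) (specBase k K) f h).flip inferInstance
  have hqc : ∀ a, CompactSpace ↥((diag k K f).obj a) := by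
    intro a
    have : QuasiCompact (pullback.snd f (Groth.Agent.Pi1B.LimPull.str (specFunctor k K) (specBase k K) a)) :=
      inferInstance
    exact QuasiCompact.compactSpace_of_compactSpace
      (pullback.snd f (Groth.Agent.Pi1B.LimPull.str (specFunctor k K) (specBase k K) a))
  have hqs : ∀ a, QuasiSeparatedSpace ↥((diag k K f).obj a) := by
    intro a
    exact quasiSeparatedSpace_of_quasiSeparated
      (pullback.snd f (Groth.Agent.Pi1B.LimPull.str (specFunctor k K) (specBase k K) a))
  let j : FinSub k K := ⟨⊥, inferInstance⟩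
  let ξ : EtCoh.H ((diag k K f).obj (op j)) (EtCoh.Gm _) n :=
    EtLim.HGmPull (Groth.Agent.Pi1B.LimPull.fst (specFunctor k K) (specBase k K) f (op j)) n α
  have h1 := (Groth.Agent.S3885.result (diag k K f) haff hqc hqs (cone k K f) (isLimitCone k K f) n).2 j ξ (by
    refine (K280.GmPullComp.HGmPull_comp ((cone k K f).π.app (op j))
      (Groth.Agent.Pi1B.LimPull.fst (specFunctor k K) (specBase k K) f (op j))
      (pullback.fst f (toBase k K)) ?_ n α).trans h
    exact (Groth.Agent.Pi1B.LimPull.isPullback (specFunctor k K) (specBase k K) f (op j)).lift_fst _ _ _)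
  obtain ⟨E, hE, h2⟩ := h1
  refine ⟨E.1, E.2, ?_⟩
  refine Eq.trans ?_ h2
  symm
  exact K280.GmPullComp.HGmPull_comp ((diag k K f).map (homOfLE hE).op)
    (Groth.Agent.Pi1B.LimPull.fst (specFunctor k K) (specBase k K) f (op j))
    (pullback.fst f (toBase k E.1))
    (Groth.Agent.Pi1B.LimPull.map_fst (specFunctor k K) (specBase k K) f (homOfLE hE).op) n α

/-- `HGmPull` along an étale morphism. -/
theorem res_eq_zero {X : Scheme.{u}} (V : X.Etale) (n : ℕ) (α : EtCoh.H X (EtCoh.Gm X) n)
    (h : EtLim.HGmPull V.hom n α = 0) :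
    (Ext.mk₀ (CycEt.aug V)).comp
      (SiteZU.HEquiv.{u + 1, u + 1} (J := X.smallEtaleTopology) (EtCore.topIsTerminal X) (EtCoh.Gm X) n α)
      (zero_add n) = 0 := by
  have hj := Groth.Agent.Sga4h.EtaleRes.jCont V.hom
  have hiso := K281.PullGmEt.isIso_pullGm V.hom
  have h3 : hp V.hom (EtCoh.Gm X) n α = 0 :=
    (HHmap_bijective (pullGm V.hom) n).1
      (((K281.KumNat.HGmPull_eq_HG V.hom n α).symm.trans h).trans (map_zero _).symm)
  exact (K445.EtRes.Hpull_eq_zero_iff V (EtCore.topIsTerminal X) (EtCoh.Gm X) n α).1 h3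

/-- **`H²(X, 𝔾_m) = 0` for smooth proper geometrically irreducible curves over finite fields.** -/
theorem subsingleton_smooth {k : Type u} [Field k] [Finite k] {X : Scheme.{u}}
    (f : X ⟶ Spec (CommRingCat.of k)) [GeometricallyIrreducible f]
    (hX : Curve.IsSmoothProperCurve k X f) : Subsingleton (EtCoh.H X (EtCoh.Gm X) 2) := by
  have := Fintype.ofFinite k
  have h1 := hX.1
  have h2 := hX.2.1
  have hI : IsIntegral X := hX.2.2.1
  suffices H : ∀ α : EtCoh.H X (EtCoh.Gm X) 2, α = 0 from ⟨fun a b => (H a).trans (H b).symm⟩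
  intro α
  let K := AlgebraicClosure k
  have hK : Curve.IsSmoothProperCurve K (pullback f (toBase k K)) (pullback.snd f (toBase k K)) :=
    (Groth.Agent.Models.H57.GeoInt.isSmoothProperCurve_pullback f hX (CycMain.isIso_appTop f)
      (algebraMap k K)).1
  have hsub : Subsingleton (EtCoh.H (pullback f (toBase k K)) (EtCoh.Gm (pullback f (toBase k K))) 2) :=
    K280.DimOneAC.subsingleton_H2 K (pullback f (toBase k K)) (pullback.snd f (toBase k K)) hK.2.2.2.le
  obtain ⟨E, hE, h3⟩ := exists_finite_dies K f 2 α (Subsingleton.elim _ _)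
  have hEfin : Finite E := Module.finite_of_finite k
  have h4 := res_eq_zero (YE k E f) 2 α h3
  have h5 := CycSmooth.eq_zero E f hX _ h4
  exact (SiteZU.HEquiv.{u + 1, u + 1} (J := X.smallEtaleTopology) (EtCore.topIsTerminal X)
    (EtCoh.Gm X) 2).injective (h5.trans (map_zero _).symm)

end K281.CycLim
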