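import Groth.Agent.Dix.K281.CondSeq
import Groth.Agent.Dix.K281.CondFin
import Groth.Agent.Dix.K281.CycLim
import Groth.Agent.Neron.K488.NormEx
import Groth.Agent.Sga3C.GeomRedPerf
import Groth.Agent.Ega2.SmoothBdry

/-!
# `H²(X, 𝔾_m) = 0` for reduced proper geometrically irreducible curves over finite fields
-/

set_option autoImplicit false
set_option linter.unusedSectionVars false
universe u

open CategoryTheory CategoryTheory.Limits AlgebraicGeometry TopologicalSpace Opposite

noncomputable section

namespace K281.CondMain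

theorem irreducibleSpace_of_denseRange {A B : Type*} [TopologicalSpace A] [TopologicalSpace B]
    [IrreducibleSpace A] (i : A → B) (hi : Continuous i) (hd : DenseRange i) : IrreducibleSpace B := by
  rw [irreducibleSpace_def]
  have h1 : IsIrreducible (Set.range i) := by
    rw [← Set.image_univ]
    exact (IrreducibleSpace.isIrreducible_univ A).image i hi.continuousOn
  have h2 := h1.closure
  rwa [hd.closure_range] at h2

theorem geometricallyIrreducible_of_dense {k : Type u} [Field k] {X : Scheme.{u}}
    (g : X ⟶ Spec (CommRingCat.of k)) (W : X.Opens) (hW : Dense (W : Set X))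
    [GeometricallyIrreducible (W.ι ≫ g)] : GeometricallyIrreducible g := by
  refine ⟨geometrically_iff_of_isClosedUnderIsomorphisms.mpr fun K _ s ↦ ?_⟩
  have h1 : IrreducibleSpace ↥(pullback (W.ι ≫ g) s) :=
    GeometricallyIrreducible.geometrically_irreducibleSpace _ _ _ (.of_hasPullback _ _)
  let i : pullback (W.ι ≫ g) s ⟶ pullback g s :=
    pullback.lift (pullback.fst (W.ι ≫ g) s ≫ W.ι) (pullback.snd (W.ι ≫ g) s)
      ((Category.assoc _ _ _).trans pullback.condition)
  refine irreducibleSpace_of_denseRange i i.continuous ?_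
  have h2 : IsPullback i (pullback.fst (W.ι ≫ g) s) (pullback.fst g s) W.ι := by
    refine IsPullback.of_right (h₁₂ := pullback.snd g s) (v₁₃ := s) (h₂₂ := g) ?_ ?_
      (IsPullback.of_hasPullback g s).flip
    · have : i ≫ pullback.snd g s = pullback.snd (W.ι ≫ g) s := pullback.lift_snd _ _ _
      rw [this]
      exact (IsPullback.of_hasPullback (W.ι ≫ g) s).flip
    · exact pullback.lift_fst _ _ _
  have h3 : Dense ((pullback.fst g s) ⁻¹' (W : Set X)) :=
    hW.preimage (pullback.fst g s).isOpenMap
  refine h3.mono ?_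
  intro z hz
  obtain ⟨t, ht, -⟩ := Scheme.exists_preimage_of_isPullback h2 z (⟨pullback.fst g s z, hz⟩ : W.toScheme) rfl
  exact ⟨t, ht⟩

theorem geometricallyIrreducible {k : Type u} [Field k] {X Xn : Scheme.{u}}
    (f : X ⟶ Spec (CommRingCat.of k)) [GeometricallyIrreducible f] (ν : Xn ⟶ X) (U : X.Opens)
    (hU : Dense (U : Set X)) (hU' : Dense ((ν ⁻¹ᵁ U : Xn.Opens) : Set Xn)) [IsIso (ν ∣_ U)] :
    GeometricallyIrreducible (ν ≫ f) := by
  have hirr : IrreducibleSpace X := GeometricallyIrreducible.irreducibleSpace_of_subsingleton (f := f)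
  have hne : Nonempty U.toScheme := by
    obtain ⟨x, hx⟩ := hU.nonempty
    exact ⟨⟨x, hx⟩⟩
  have hs : Surjective (U.ι ≫ f) := ⟨fun y => ⟨Classical.choice hne, Subsingleton.elim _ _⟩⟩
  have h1 : GeometricallyIrreducible (U.ι ≫ f) := inferInstance
  have h2 : GeometricallyIrreducible ((ν ⁻¹ᵁ U).ι ≫ ν ≫ f) := by
    rw [← Category.assoc, ← morphismRestrict_ι, Category.assoc]
    exact (MorphismProperty.cancel_left_of_respectsIso @GeometricallyIrreducible (ν ∣_ U) _).2 h1
  exact geometricallyIrreducible_of_dense (ν ≫ f) (ν ⁻¹ᵁ U) hU'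

theorem dim_component {X : Type u} [TopologicalSpace X] [IrreducibleSpace X] (h : topologicalKrullDim X = 1) :
    ∀ W ∈ irreducibleComponents X, topologicalKrullDim W = 1 := by
  intro W hW
  rw [irreducibleComponents_eq_singleton, Set.mem_singleton_iff] at hW
  subst hW
  rw [← h]
  exact IsHomeomorph.topologicalKrullDim_eq _ (Homeomorph.Set.univ X).isHomeomorph

theorem dim_of_component {X : Type u} [TopologicalSpace X] [IrreducibleSpace X]
    (h : ∀ W ∈ irreducibleComponents X, topologicalKrullDim W = 1) : topologicalKrullDim X = 1 := by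
  have h1 := h Set.univ (by rw [irreducibleComponents_eq_singleton]; rfl)
  rw [← h1]
  exact (IsHomeomorph.topologicalKrullDim_eq _ (Homeomorph.Set.univ X).isHomeomorph).symm

/-- **Reduced proper geometrically irreducible curves over finite fields have no cohomological Brauer
group.** -/
theorem subsingleton {k : Type u} [Field k] [Finite k] {X : Scheme.{u}}
    (f : X ⟶ Spec (CommRingCat.of k)) [IsProper f] [IsReduced X] [GeometricallyIrreducible f]
    (hdim : topologicalKrullDim X = 1) : Subsingleton (EtCoh.H X (EtCoh.Gm X) 2) := by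
  have hp : PerfectField k := inferInstance
  have hgr : GeometricallyReduced f := Groth.Agent.Sga3C.GeomRedPerf.geometricallyReduced_of_isReduced f
  have hirr : IrreducibleSpace X := GeometricallyIrreducible.irreducibleSpace_of_subsingleton (f := f)
  obtain ⟨Cn, ν, hfin, hnorm, ⟨U, hU, hU', hiso⟩, hprop, -, hreg, hdimn⟩ :=
    K488.NormEx.exists_norm f (dim_component hdim)
  have hgi := geometricallyIrreducible f ν U hU hU'
  have hirrn : IrreducibleSpace Cn := GeometricallyIrreducible.irreducibleSpace_of_subsingleton (f := ν ≫ f)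
  have hrn : IsReduced Cn := by
    have : ∀ x : Cn, _root_.IsReduced (Cn.presheaf.stalk x) := fun x => by
      obtain ⟨h1, -⟩ := hnorm x
      infer_instance
    exact isReduced_of_isReduced_stalk Cn
  have hint : IsIntegral Cn := isIntegral_of_irreducibleSpace_of_isReduced Cn
  have hsm : Smooth (ν ≫ f) := Groth.Agent.Ega2.SmoothBdry.smooth_of_regular _ hreg
  have hcurve : Curve.IsSmoothProperCurve k Cn (ν ≫ f) := ⟨hprop, hsm, hint, dim_of_component hdimn⟩
  have h1 : Subsingleton (EtCoh.H Cn (EtCoh.Gm Cn) 2) := K281.CycLim.subsingleton_smooth (ν ≫ f) hcurve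
  obtain ⟨Y, Y', i, i', π', D⟩ := K488.NormSq.exists_data f ν hdim.le U hU hiso
  have hcl := D.cl
  have hf2 := D.fin₂
  have hf3 := D.fin₃
  exact K281.CondSeq.subsingleton D.H D.patch h1 (K281.CondFin.subsingleton (i ≫ f) 2 (by norm_num))
    (K281.CondFin.subsingleton (π' ≫ i ≫ f) 1 le_rfl)

end K281.CondMain
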