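import Groth.Agent.Dix.K281.CondGm
import Groth.Agent.Dix.K280.EdgeEt
import Groth.Agent.Sga4A.IntegralSection
import Groth.Agent.S0101

/-!
# `H²(-, 𝔾_m)` along a patching square
-/

set_option autoImplicit false
set_option linter.unusedSectionVars false
universe u

open CategoryTheory CategoryTheory.Limits CategoryTheory.Abelian AlgebraicGeometry Opposite
open Groth.Agent.Pic13.H126.Patch Groth.Agent.Pic13.H17.Patch Groth.Agent.CurvesA Groth.Agent.Dix.GmPush

noncomputable section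

namespace K281.CondSeq

open CondGm

variable {X X' Y Y' : Scheme.{u}} {b : X' ⟶ X} {i : Y ⟶ X} {i' : Y' ⟶ X'} {π' : Y' ⟶ Y}

/-- the first map -/
def F (b : X' ⟶ X) (i : Y ⟶ X) : EtCoh.Gm X ⟶
    (EtCoh.push b).obj (EtCoh.Gm X') ⊞ (EtCoh.push i).obj (EtCoh.Gm Y) :=
  biprod.lift (EtLim.GmPush b) (EtLim.GmPush i)

/-- the second map -/
def G (w : i' ≫ b = π' ≫ i) : (EtCoh.push b).obj (EtCoh.Gm X') ⊞ (EtCoh.push i).obj (EtCoh.Gm Y) ⟶
    (EtCoh.push b).obj ((EtCoh.push i').obj (EtCoh.Gm Y')) :=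
  biprod.desc (g₁ b i') (-(g₂ w))

theorem F_G (w : i' ≫ b = π' ≫ i) : F b i ≫ G w = 0 := by
  rw [F, G, biprod.lift_desc, Preadditive.comp_neg, ← sub_eq_add_neg, comm w, sub_self]

theorem app_add {A B : EtCoh.Ab X} (f g : A ⟶ B) (U : X.Etale) (s : EtCoh.sect A U) :
    ((f + g).hom.app (op U)).hom s = (f.hom.app (op U)).hom s + (g.hom.app (op U)).hom s := rfl

theorem app_comp {A B C : EtCoh.Ab X} (f : A ⟶ B) (g : B ⟶ C) (U : X.Etale) (s : EtCoh.sect A U) :
    ((f ≫ g).hom.app (op U)).hom s = (g.hom.app (op U)).hom ((f.hom.app (op U)).hom s) := rfl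

theorem app_neg {A B : EtCoh.Ab X} (f : A ⟶ B) (U : X.Etale) (s : EtCoh.sect A U) :
    ((-f).hom.app (op U)).hom s = - (f.hom.app (op U)).hom s := rfl

theorem biprod_ext {A B : EtCoh.Ab X} (U : X.Etale) (s t : EtCoh.sect (A ⊞ B) U)
    (h1 : ((biprod.fst : A ⊞ B ⟶ A).hom.app (op U)).hom s = ((biprod.fst : A ⊞ B ⟶ A).hom.app (op U)).hom t)
    (h2 : ((biprod.snd : A ⊞ B ⟶ B).hom.app (op U)).hom s = ((biprod.snd : A ⊞ B ⟶ B).hom.app (op U)).hom t) :
    s = t := by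
  have key : ∀ s : EtCoh.sect (A ⊞ B) U, s =
      ((biprod.inl : A ⟶ A ⊞ B).hom.app (op U)).hom (((biprod.fst : A ⊞ B ⟶ A).hom.app (op U)).hom s) +
      ((biprod.inr : B ⟶ A ⊞ B).hom.app (op U)).hom (((biprod.snd : A ⊞ B ⟶ B).hom.app (op U)).hom s) := by
    intro s
    have h3 : (biprod.fst ≫ biprod.inl + biprod.snd ≫ biprod.inr : A ⊞ B ⟶ A ⊞ B) = 𝟙 (A ⊞ B) :=
      biprod.total
    have h4 := congrArg (fun f : A ⊞ B ⟶ A ⊞ B => (f.hom.app (op U)).hom s) h3
    exact h4.symm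
  rw [key s, key t, h1, h2]

theorem exact (H : IsPullback i' π' b i) [IsFinite b] [IsClosedImmersion i] (P : IsPatch b i.ker) :
    (ShortComplex.mk (F b i) (G H.w) (F_G H.w)).Exact ∧ Mono (F b i) := by
  have hfst : ∀ (U : X.Etale) (s : EtCoh.sect (EtCoh.Gm X) U),
      ((biprod.fst : (EtCoh.push b).obj (EtCoh.Gm X') ⊞ (EtCoh.push i).obj (EtCoh.Gm Y) ⟶ _).hom.app (op U)).hom
        (((F b i).hom.app (op U)).hom s) = ((EtLim.GmPush b).hom.app (op U)).hom s := by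
    intro U s
    have h1 : F b i ≫ biprod.fst = EtLim.GmPush b := biprod.lift_fst _ _
    exact congrArg (fun f : EtCoh.Gm X ⟶ (EtCoh.push b).obj (EtCoh.Gm X') => (f.hom.app (op U)).hom s) h1
  have hsnd : ∀ (U : X.Etale) (s : EtCoh.sect (EtCoh.Gm X) U),
      ((biprod.snd : (EtCoh.push b).obj (EtCoh.Gm X') ⊞ (EtCoh.push i).obj (EtCoh.Gm Y) ⟶ _).hom.app (op U)).hom
        (((F b i).hom.app (op U)).hom s) = ((EtLim.GmPush i).hom.app (op U)).hom s := by
    intro U s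
    have h1 : F b i ≫ biprod.snd = EtLim.GmPush i := biprod.lift_snd _ _
    exact congrArg (fun f : EtCoh.Gm X ⟶ (EtCoh.push i).obj (EtCoh.Gm Y) => (f.hom.app (op U)).hom s) h1
  have hinj : ∀ U : X.Etale, Function.Injective ((F b i).hom.app (op U)).hom := by
    intro U s t hst
    have h1 := (hfst U s).symm.trans ((congrArg _ hst).trans (hfst U t))
    have h2 := (hsnd U s).symm.trans ((congrArg _ hst).trans (hsnd U t))
    have hP := patchSq_V H P U
    apply ULift.ext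
    apply Additive.toMul.injective
    apply Units.ext
    refine ext_top hP ?_ ?_
    · exact congrArg (fun z : ULift.{u + 1} (Additive (Γ(((EtCoh.bc b).obj U).left, ⊤))ˣ) =>
        ((Additive.toMul (ULift.down z) : (Γ(((EtCoh.bc b).obj U).left, ⊤))ˣ) :
          Γ(((EtCoh.bc b).obj U).left, ⊤))) h1
    · exact congrArg (fun z : ULift.{u + 1} (Additive (Γ(((EtCoh.bc i).obj U).left, ⊤))ˣ) =>
        ((Additive.toMul (ULift.down z) : (Γ(((EtCoh.bc i).obj U).left, ⊤))ˣ) :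
          Γ(((EtCoh.bc i).obj U).left, ⊤))) h2
  refine ⟨SheafKer.exact_of_sections (F b i) (G H.w) hinj ?_ (F_G H.w), SheafKer.mono_of_injective _ hinj⟩
  intro U s hs
  let β : EtCoh.sect ((EtCoh.push b).obj (EtCoh.Gm X')) U :=
    ((biprod.fst : (EtCoh.push b).obj (EtCoh.Gm X') ⊞ (EtCoh.push i).obj (EtCoh.Gm Y) ⟶ _).hom.app (op U)).hom s
  let γ : EtCoh.sect ((EtCoh.push i).obj (EtCoh.Gm Y)) U :=
    ((biprod.snd : (EtCoh.push b).obj (EtCoh.Gm X') ⊞ (EtCoh.push i).obj (EtCoh.Gm Y) ⟶ _).hom.app (op U)).hom s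
  have h1 : ((g₁ b i').hom.app (op U)).hom β = ((g₂ H.w).hom.app (op U)).hom γ := by
    have h2 : G H.w = biprod.fst ≫ g₁ b i' + biprod.snd ≫ (-(g₂ H.w)) := by
      rw [G, biprod.desc_eq]
    rw [h2] at hs
    have h3 : ((g₁ b i').hom.app (op U)).hom β + -((g₂ H.w).hom.app (op U)).hom γ = 0 := hs
    rw [← sub_eq_add_neg, sub_eq_zero] at h3
    exact h3
  obtain ⟨a, ha1, ha2⟩ := exists_unit (patchSq_V H P U)
    (Additive.toMul (ULift.down β) : (Γ(((EtCoh.bc b).obj U).left, ⊤))ˣ)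
    (Additive.toMul (ULift.down γ) : (Γ(((EtCoh.bc i).obj U).left, ⊤))ˣ)
    (congrArg (fun z : ULift.{u + 1} (Additive (Γ(((EtCoh.bc i').obj ((EtCoh.bc b).obj U)).left, ⊤))ˣ) =>
        ((Additive.toMul (ULift.down z) : (Γ(((EtCoh.bc i').obj ((EtCoh.bc b).obj U)).left, ⊤))ˣ) :
          Γ(((EtCoh.bc i').obj ((EtCoh.bc b).obj U)).left, ⊤))) h1)
  refine ⟨ULift.up (Additive.ofMul a), ?_⟩
  apply biprod_ext
  · refine (hfst U _).trans ?_
    apply ULift.ext
    apply Additive.toMul.injective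
    apply Units.ext
    exact ha1
  · refine (hsnd U _).trans ?_
    apply ULift.ext
    apply Additive.toMul.injective
    apply Units.ext
    exact ha2

theorem epi_G (H : IsPullback i' π' b i) [IsFinite b] [IsClosedImmersion i] : Epi (G H.w) := by
  have h1 : IsClosedImmersion i' := MorphismProperty.of_isPullback H.flip inferInstance
  have h2 : PreservesFiniteColimits (EtCoh.push b) := Groth.Agent.Sga4A.EtSplit.preservesFiniteColimits_push b
  have h3 : Epi (EtLim.GmPush i') := K281.ClosedGm.epi_gmPush i'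
  have h4 : Epi (g₁ b i') := inferInstanceAs (Epi ((EtCoh.push b).map (EtLim.GmPush i')))
  have h5 : biprod.inl ≫ G H.w = g₁ b i' := biprod.inl_desc _ _
  have h6 : Epi (biprod.inl ≫ G H.w) := by rw [h5]; exact h4
  exact epi_of_epi biprod.inl (G H.w)

theorem shortExact (H : IsPullback i' π' b i) [IsFinite b] [IsClosedImmersion i] (P : IsPatch b i.ker) :
    (ShortComplex.mk (F b i) (G H.w) (F_G H.w)).ShortExact :=
  have : Mono (ShortComplex.mk (F b i) (G H.w) (F_G H.w)).f := (exact H P).2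
  have : Epi (ShortComplex.mk (F b i) (G H.w) (F_G H.w)).g := epi_G H
  { exact := (exact H P).1 }

theorem ext_biprod {A B Q : EtCoh.Ab X} {n : ℕ} (e : Ext Q (A ⊞ B) n)
    (h1 : e.comp (Ext.mk₀ (biprod.fst : A ⊞ B ⟶ A)) (add_zero n) = 0)
    (h2 : e.comp (Ext.mk₀ (biprod.snd : A ⊞ B ⟶ B)) (add_zero n) = 0) : e = 0 := by
  rw [← Ext.comp_mk₀_id e, ← (biprod.total : biprod.fst ≫ biprod.inl + biprod.snd ≫ biprod.inr = 𝟙 (A ⊞ B)),
    Ext.mk₀_add, Ext.comp_add, ← Ext.mk₀_comp_mk₀, ← Ext.mk₀_comp_mk₀]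
  rw [← Ext.comp_assoc_of_third_deg_zero, ← Ext.comp_assoc_of_third_deg_zero, h1, h2, Ext.zero_comp,
    Ext.zero_comp, add_zero]

/-- **`H²(-, 𝔾_m)` and patching squares.** -/
theorem subsingleton (H : IsPullback i' π' b i) [IsFinite b] [IsClosedImmersion i] (P : IsPatch b i.ker)
    (h1 : Subsingleton (EtCoh.H X' (EtCoh.Gm X') 2)) (h2 : Subsingleton (EtCoh.H Y (EtCoh.Gm Y) 2))
    (h3 : Subsingleton (EtCoh.H Y' (EtCoh.Gm Y') 1)) : Subsingleton (EtCoh.H X (EtCoh.Gm X) 2) := by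
  have e1 := Groth.Agent.S0101.result b
  have e2 := Groth.Agent.S0101.result i
  have e3 := Groth.Agent.S0101.result i'
  have s1 : Subsingleton (EtCoh.H X ((EtCoh.push b).obj (EtCoh.Gm X')) 2) :=
    (K280.EdgeEt.HofPush_two_injective b (EtCoh.Gm X')
      (Groth.Agent.Sga4A.EtSplit.isZero_Rpush b (EtCoh.Gm X') 1 (by norm_num))).subsingleton
  have s2 : Subsingleton (EtCoh.H X ((EtCoh.push i).obj (EtCoh.Gm Y)) 2) :=
    (K280.EdgeEt.HofPush_two_injective i (EtCoh.Gm Y)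
      (Groth.Agent.Sga4A.EtSplit.isZero_Rpush i (EtCoh.Gm Y) 1 (by norm_num))).subsingleton
  have s3 : Subsingleton (EtCoh.H X' ((EtCoh.push i').obj (EtCoh.Gm Y')) 1) :=
    (K280.EdgeEt.HofPush_one_injective i' (EtCoh.Gm Y')).subsingleton
  have s4 : Subsingleton (EtCoh.H X ((EtCoh.push b).obj ((EtCoh.push i').obj (EtCoh.Gm Y'))) 1) :=
    (K280.EdgeEt.HofPush_one_injective b ((EtCoh.push i').obj (EtCoh.Gm Y'))).subsingleton
  suffices key : ∀ α : EtCoh.H X (EtCoh.Gm X) 2, α = 0 from ⟨fun a c => (key a).trans (key c).symm⟩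
  intro α
  have h5 : Ext.comp α (Ext.mk₀ (F b i)) (add_zero 2) = 0 := by
    apply ext_biprod
    · exact s1.elim _ _
    · exact s2.elim _ _
  obtain ⟨y, hy⟩ := Ext.covariant_sequence_exact₁ _ (shortExact H P) α h5 (rfl : 1 + 1 = 2)
  have h6 : y = 0 := s4.elim _ _
  rw [← hy, h6, Ext.zero_comp]

end K281.CondSeq
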