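import Mathlib.FieldTheory.Finite.Basic
import Mathlib.RingTheory.LocalRing.Basic
import Mathlib.RingTheory.LocalRing.MaximalIdeal.Basic

/-!
# Homomorphisms from a finite field to a local ring
-/

set_option autoImplicit false

open Polynomial FiniteField

namespace K281.CycAlg

variable (k : Type*) {k' : Type*} [Field k] [Field k'] [Fintype k] [Finite k'] [Algebra k k']

theorem exists_eq {R : Type*} [CommRing R] [IsLocalRing R] (a b : k' →+* R) (x : k') :
    ∃ c, b x = a c := by
  classical
  have := Fintype.ofFinite k'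
  have h1 : (X ^ Fintype.card k' - X : k'[X]) = ∏ c : k', (X - C c) := by
    have hroots := roots_X_pow_card_sub_X k'
    have hmon : (X ^ Fintype.card k' - X : k'[X]).Monic :=
      monic_X_pow_sub (by rw [degree_X]; exact_mod_cast Fintype.one_lt_card)
    have hcard : Multiset.card (X ^ Fintype.card k' - X : k'[X]).roots =
        (X ^ Fintype.card k' - X : k'[X]).natDegree := by
      rw [hroots, X_pow_card_sub_X_natDegree_eq k' Fintype.one_lt_card]
      rfl
    rw [← prod_multiset_X_sub_C_of_monic_of_roots_card_eq hmon hcard, hroots]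
    rfl
  have h2 : ∏ c : k', (b x - a c) = 0 := by
    have h3 := congrArg (eval₂ a (b x)) h1
    rw [eval₂_sub, eval₂_X_pow, eval₂_X, ← map_pow, FiniteField.pow_card, sub_self, eval₂_finsetProd] at h3
    rw [h3]
    exact Finset.prod_congr rfl fun c _ => by rw [eval₂_sub, eval₂_X, eval₂_C]
  have h3 : ∃ c, ¬ IsUnit (b x - a c) := by
    by_contra hcon
    push Not at hcon
    have h4 : IsUnit (∏ c : k', (b x - a c)) := by
      rw [IsUnit.prod_univ_iff]
      exact hcon
    rw [h2] at h4
    exact not_isUnit_zero h4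
  obtain ⟨c, hc⟩ := h3
  refine ⟨c, ?_⟩
  have h4 : ∀ c' ∈ Finset.univ.erase c, IsUnit (b x - a c') := by
    intro c' hc'
    have hne : c' ≠ c := Finset.ne_of_mem_erase hc'
    by_contra h5
    have h6 : ¬ IsUnit ((b x - a c) - (b x - a c')) := by
      intro h7
      have h8 : b x - a c ∈ IsLocalRing.maximalIdeal R := hc
      have h9 : b x - a c' ∈ IsLocalRing.maximalIdeal R := h5
      exact (Ideal.sub_mem _ h8 h9) h7
    apply h6
    have : (b x - a c) - (b x - a c') = a (c' - c) := by rw [map_sub]; ring
    rw [this]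
    exact (IsUnit.mk0 _ (sub_ne_zero.2 hne)).map a
  rw [← Finset.mul_prod_erase Finset.univ _ (Finset.mem_univ c)] at h2
  have h5 : IsUnit (∏ c' ∈ Finset.univ.erase c, (b x - a c')) := by
    rw [IsUnit.prod_iff]
    exact h4
  exact sub_eq_zero.1 ((h5.mul_left_eq_zero).1 h2)

/-- Two homomorphisms from a finite field to a local ring which agree on `k` differ by a power of the
Frobenius. -/
theorem core {R : Type*} [CommRing R] [IsLocalRing R] (a b : k' →+* R)
    (hab : b.comp (algebraMap k k') = a.comp (algebraMap k k')) :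
    ∃ i < Module.finrank k k', b = a.comp ((frobeniusAlgHom k k' ^ i : k' →ₐ[k] k') : k' →+* k') := by
  have ha : Function.Injective a := a.injective
  choose t ht using fun x => exists_eq a b x
  let τ : k' →ₐ[k] k' :=
    { toFun := t
      map_one' := ha (by rw [← ht, map_one, map_one])
      map_mul' := fun x y => ha (by rw [← ht, map_mul, map_mul, ← ht, ← ht])
      map_zero' := ha (by rw [← ht, map_zero, map_zero])
      map_add' := fun x y => ha (by rw [← ht, map_add, map_add, ← ht, ← ht])
      commutes' := fun r => ha (by rw [← ht]; exact RingHom.congr_fun hab r) }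
  obtain ⟨i, hi⟩ := (bijective_frobeniusAlgHom_pow k k').2 τ
  refine ⟨i.1, i.2, ?_⟩
  ext x
  change b x = a ((frobeniusAlgHom k k' ^ i.1) x)
  have h1 : (frobeniusAlgHom k k' ^ i.1 : k' →ₐ[k] k') = τ := hi
  rw [h1]
  exact ht x

theorem pow_finrank : (frobeniusAlgHom k k' ^ Module.finrank k k' : k' →ₐ[k] k') = 1 := by
  rw [← orderOf_frobeniusAlgHom k k']
  exact pow_orderOf_eq_one _

theorem pow_inj {i j : ℕ} (hi : i < Module.finrank k k') (hj : j < Module.finrank k k')
    (h : (frobeniusAlgHom k k' ^ i : k' →ₐ[k] k') = frobeniusAlgHom k k' ^ j) : i = j := by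
  have := (bijective_frobeniusAlgHom_pow k k').1 (a₁ := ⟨i, hi⟩) (a₂ := ⟨j, hj⟩) h
  exact congrArg Fin.val this

end K281.CycAlg
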