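import Groth.Agent.MiscA.ZetaAbs
import Mathlib.Algebra.Module.CharacterModule
import Mathlib.Analysis.SpecialFunctions.Complex.Log

/-!
# `L`-series of characters of divisor class groups over finite fields

Abstract setting of `MiscA.ZetaAbs`: a set of places with degrees, a group `Pr` of divisors of degree
zero satisfying Riemann-Roch numerically.

* `A`, `N`: twisted counting functions, with `n A_χ(n) = ∑ N_χ(i) A_χ(n-i)` (`mul_A`);
* `A_eq_zero`: `A_χ(n) = 0` for large `n` if `χ` is nontrivial on divisors of degree zero;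
* `mem_of_deg_eq_zero`: if `H ⊇ Pr` is a group of divisors containing `(m / deg P) P` for all places `P`
  and all `m` divisible by `n` and by `deg P`, then `H` contains all divisors of degree zero.
-/

set_option autoImplicit false

namespace K281.ZetaChar

open Groth.Agent.MiscA Groth.Agent.MiscA.ZetaAbs Groth.Agent.MiscA.ZetaAbsCount
  Groth.Agent.MiscA.ZetaAbsCx

/-! ### characters of abelian groups -/

/-- `x ↦ exp (2 π i x)` on rational numbers. -/
noncomputable def eHom : ℚ →+ Additive ℂˣ where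
  toFun x := Additive.ofMul (Units.mk0 (Complex.exp (2 * Real.pi * Complex.I * (x : ℂ)))
    (Complex.exp_ne_zero _))
  map_zero' := by
    apply Additive.toMul.injective
    apply Units.ext
    simp
  map_add' x y := by
    apply Additive.toMul.injective
    apply Units.ext
    simp only [toMul_ofMul, toMul_add, Units.val_mk0, Units.val_mul]
    rw [← Complex.exp_add]
    push_cast
    ring_nf

theorem eHom_eq_zero_iff (x : ℚ) : eHom x = 0 ↔ ∃ n : ℤ, (n : ℚ) = x := by
  have h1 : eHom x = 0 ↔ Complex.exp (2 * Real.pi * Complex.I * (x : ℂ)) = 1 := by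
    constructor
    · intro h
      exact congrArg (fun z : Additive ℂˣ => ((z.toMul : ℂˣ) : ℂ)) h
    · intro h
      apply Additive.toMul.injective
      apply Units.ext
      exact h
  rw [h1, Complex.exp_eq_one_iff]
  have h2 : (2 * Real.pi * Complex.I : ℂ) ≠ 0 := Complex.two_pi_I_ne_zero
  constructor
  · rintro ⟨n, hn⟩
    refine ⟨n, ?_⟩
    have h3 : (2 * Real.pi * Complex.I : ℂ) * (x : ℂ) = (2 * Real.pi * Complex.I) * n := by
      rw [hn]; ring
    have h4 := mul_left_cancel₀ h2 h3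
    exact_mod_cast h4.symm
  · rintro ⟨n, rfl⟩
    exact ⟨n, by push_cast; ring⟩

/-- Complex characters separate points. -/
theorem exists_char {A : Type*} [AddCommGroup A] {a : A} (ha : a ≠ 0) :
    ∃ χ : A →+ Additive ℂˣ, χ a ≠ 0 := by
  obtain ⟨c₀, hc⟩ := CharacterModule.exists_character_apply_ne_zero_of_ne_zero ha
  let c : A →+ AddCircle (1 : ℚ) := c₀
  replace hc : c a ≠ 0 := hc
  let e : AddCircle (1 : ℚ) →+ Additive ℂˣ :=
    QuotientAddGroup.lift (AddSubgroup.zmultiples (1 : ℚ)) eHom (fun x hx => by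
      obtain ⟨n, rfl⟩ := AddSubgroup.mem_zmultiples_iff.1 hx
      exact (eHom_eq_zero_iff _).2 ⟨n, by simp⟩)
  refine ⟨e.comp c, fun h => hc ?_⟩
  obtain ⟨x, hx⟩ := QuotientAddGroup.mk_surjective (c a)
  rw [AddMonoidHom.comp_apply] at h
  rw [← hx] at h ⊢
  obtain ⟨n, hn⟩ := (eHom_eq_zero_iff x).1 h
  rw [QuotientAddGroup.eq_zero_iff, AddSubgroup.mem_zmultiples_iff]
  exact ⟨n, by simpa using hn⟩

/-! ### twisted counting -/

variable {X : Type*} (deg : X → ℕ) (χ : (X →₀ ℤ) →+ Additive ℂˣ)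

/-- the value at a place -/
noncomputable def c (P : X) : ℂ := ((χ (Finsupp.single P 1)).toMul : ℂˣ)

/-- the value at an effective divisor -/
noncomputable def w (E : X →₀ ℕ) : ℂ := ((χ (toZ E)).toMul : ℂˣ)

theorem toZ_apply (E : X →₀ ℕ) (P : X) : toZ E P = (E P : ℤ) := rfl

theorem toZ_add (E F : X →₀ ℕ) : toZ (E + F) = toZ E + toZ F := by
  ext P
  rw [Finsupp.add_apply, toZ_apply, toZ_apply, toZ_apply, Finsupp.add_apply, Nat.cast_add]

theorem toZ_zero : toZ (0 : X →₀ ℕ) = 0 := by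
  ext P
  rw [toZ_apply, Finsupp.zero_apply, Finsupp.zero_apply, Nat.cast_zero]

theorem toZ_single (P : X) (m : ℕ) : toZ (Finsupp.single P m) = m • Finsupp.single P (1 : ℤ) := by
  classical
  ext Q
  rw [toZ_apply, Finsupp.smul_apply, Finsupp.single_apply, Finsupp.single_apply]
  split_ifs <;> simp

theorem w_zero : w χ 0 = 1 := by
  rw [w, toZ_zero, map_zero]
  rfl

theorem w_add_single (E : X →₀ ℕ) (P : X) (m : ℕ) :
    w χ (E + Finsupp.single P m) = w χ E * c χ P ^ m := by
  rw [w, toZ_add, map_add, toZ_single, map_nsmul]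
  rfl

/-- the twisted number of effective divisors -/
noncomputable def A (n : ℕ) [Fintype (Eff deg n)] : ℂ := ∑ E : Eff deg n, w χ E.1

section

variable (hdeg : ∀ P, 0 < deg P) (hfin : ∀ d, Finite {P : X // deg P = d})

/-- the twisted number of effective divisors -/
noncomputable def A' (n : ℕ) : ℂ :=
  letI := @Fintype.ofFinite _ (finite_eff deg hdeg hfin n)
  ∑ E : Eff deg n, w χ E.1

theorem A'_eq (n : ℕ) [Fintype (Eff deg n)] : A' deg χ hdeg hfin n = ∑ E : Eff deg n, w χ E.1 := by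
  unfold A'
  congr!

/-- the twisted number of points -/
noncomputable def N' (n : ℕ) : ℂ :=
  ∑ P ∈ (finite_deg_le deg hfin n).toFinset, if deg P ∣ n then (deg P : ℂ) * c χ P ^ (n / deg P) else 0

theorem N'_eq (n i : ℕ) (hin : i ≤ n) (hi : 1 ≤ i) : N' deg χ hfin i =
    ∑ P ∈ (finite_deg_le deg hfin n).toFinset, if deg P ∣ i then (deg P : ℂ) * c χ P ^ (i / deg P) else 0 := by
  unfold N'
  refine Finset.sum_subset (fun P hP => ?_) (fun P _ hP => ?_)
  · rw [Set.Finite.mem_toFinset, Set.mem_ofPred_eq] at hP ⊢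
    omega
  · rw [Set.Finite.mem_toFinset, Set.mem_ofPred_eq] at hP
    rw [if_neg]
    intro h
    exact hP (Nat.le_of_dvd hi h)

theorem sum_mul_apply (P : X) (n : ℕ) [Fintype (Eff deg n)] :
    ∑ E : Eff deg n, (E.1 P : ℂ) * w χ E.1 =
      ∑ m ∈ Finset.Icc 1 n, if m * deg P ≤ n then c χ P ^ m * A' deg χ hdeg hfin (n - m * deg P) else 0 := by
  classical
  have h1 : ∀ E : Eff deg n, (E.1 P : ℂ) * w χ E.1 =
      ∑ m ∈ Finset.Icc 1 n, if m ≤ E.1 P then w χ E.1 else 0 := by
    intro E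
    have hle : E.1 P ≤ n := by
      have := apply_le deg hdeg E.1 P
      rwa [E.2] at this
    rw [← Finset.sum_filter, Finset.sum_const, nsmul_eq_mul]
    have : (Finset.Icc 1 n).filter (fun m => m ≤ E.1 P) = Finset.Icc 1 (E.1 P) := by
      ext m
      simp only [Finset.mem_filter, Finset.mem_Icc]
      omega
    rw [this, Nat.card_Icc]
    simp
  rw [Finset.sum_congr rfl fun E _ => h1 E, Finset.sum_comm]
  refine Finset.sum_congr rfl fun m _ => ?_
  rw [← Finset.sum_filter]
  split_ifs with h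
  · have := @Fintype.ofFinite _ (finite_eff deg hdeg hfin (n - m * deg P))
    rw [A'_eq, Finset.mul_sum]
    symm
    refine Finset.sum_bij (fun F _ => ((subEquiv deg P m n h).symm F).1) ?_ ?_ ?_ ?_
    · intro F _
      exact Finset.mem_filter.2 ⟨Finset.mem_univ _, ((subEquiv deg P m n h).symm F).2⟩
    · intro F _ F' _ hFF
      exact (subEquiv deg P m n h).symm.injective (Subtype.ext hFF)
    · intro E hE
      refine ⟨subEquiv deg P m n h ⟨E, (Finset.mem_filter.1 hE).2⟩, Finset.mem_univ _, ?_⟩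
      rw [Equiv.symm_apply_apply]
    · intro F _
      have h2 : ((subEquiv deg P m n h).symm F).1.1 = F.1 + Finsupp.single P m := rfl
      rw [h2, w_add_single, mul_comm]
  · refine Finset.sum_eq_zero fun E hE => ?_
    exfalso
    apply h
    refine (Nat.mul_le_mul_right _ (Finset.mem_filter.1 hE).2).trans ?_
    have := mul_deg_le_degN deg E.1 P
    rwa [E.2] at this

theorem sum_reindex (a : ℕ → ℂ) (x : ℂ) (n d : ℕ) (hd : 0 < d) :
    (∑ m ∈ Finset.Icc 1 n, if m * d ≤ n then x ^ m * a (n - m * d) else 0) =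
      ∑ i ∈ Finset.Icc 1 n, if d ∣ i then x ^ (i / d) * a (n - i) else 0 := by
  rw [← Finset.sum_filter, ← Finset.sum_filter]
  refine Finset.sum_bij (fun m _ => m * d) ?_ ?_ ?_ ?_
  · intro m hm
    simp only [Finset.mem_filter, Finset.mem_Icc] at hm ⊢
    refine ⟨⟨?_, hm.2⟩, Dvd.intro_left m rfl⟩
    exact Nat.mul_pos hm.1.1 hd
  · intro m hm m' hm' h
    exact Nat.eq_of_mul_eq_mul_right hd h
  · intro i hi
    simp only [Finset.mem_filter, Finset.mem_Icc] at hi
    obtain ⟨m, rfl⟩ := hi.2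
    refine ⟨m, ?_, mul_comm _ _⟩
    simp only [Finset.mem_filter, Finset.mem_Icc]
    refine ⟨⟨?_, ?_⟩, ?_⟩
    · exact Nat.pos_of_ne_zero fun h => by rw [h, mul_zero] at hi; omega
    · exact (Nat.le_mul_of_pos_left _ hd).trans hi.1.2
    · rw [mul_comm]; exact hi.1.2
  · intro m hm
    rw [Nat.mul_div_cancel _ hd]

/-- The key identity. -/
theorem mul_A (n : ℕ) : (n : ℂ) * A' deg χ hdeg hfin n =
    ∑ i ∈ Finset.Icc 1 n, N' deg χ hfin i * A' deg χ hdeg hfin (n - i) := by
  classical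
  have hF := @Fintype.ofFinite _ (finite_eff deg hdeg hfin n)
  set T := (finite_deg_le deg hfin n).toFinset with hT
  have h1 : (n : ℂ) * A' deg χ hdeg hfin n =
      ∑ E : Eff deg n, ∑ P ∈ T, (deg P : ℂ) * ((E.1 P : ℂ) * w χ E.1) := by
    have h2 : ∀ E : Eff deg n, ∑ P ∈ T, (deg P : ℂ) * ((E.1 P : ℂ) * w χ E.1) = n * w χ E.1 := by
      intro E
      have h3 : ∑ P ∈ T, E.1 P * deg P = n := by
        refine Eq.trans ?_ E.2
        unfold degN
        rw [Finsupp.sum_of_support_subset _ _ _ (fun _ _ => by rw [zero_mul])]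
        intro P hP
        rw [hT, Set.Finite.mem_toFinset, Set.mem_ofPred_eq]
        by_contra hcon
        push Not at hcon
        exact (Finsupp.mem_support_iff.mp hP) (apply_eq_zero deg E P hcon)
      calc ∑ P ∈ T, (deg P : ℂ) * ((E.1 P : ℂ) * w χ E.1)
          = (∑ P ∈ T, ((E.1 P * deg P : ℕ) : ℂ)) * w χ E.1 := by
            rw [Finset.sum_mul]
            refine Finset.sum_congr rfl fun P _ => ?_
            push_cast
            ring
        _ = n * w χ E.1 := by
            rw [← Nat.cast_sum, h3]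
    rw [A'_eq, Finset.mul_sum]
    exact (Finset.sum_congr rfl fun E _ => h2 E).symm
  rw [h1, Finset.sum_comm]
  have h3 : ∀ P ∈ T, ∑ E : Eff deg n, (deg P : ℂ) * ((E.1 P : ℂ) * w χ E.1) =
      ∑ i ∈ Finset.Icc 1 n, (if deg P ∣ i then (deg P : ℂ) * c χ P ^ (i / deg P) else 0) *
        A' deg χ hdeg hfin (n - i) := by
    intro P _
    have h5 := sum_mul_apply deg χ hdeg hfin P n
    rw [← Finset.mul_sum, h5, sum_reindex (fun i => A' deg χ hdeg hfin i) (c χ P) n _ (hdeg P),
      Finset.mul_sum]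
    refine Finset.sum_congr rfl fun i _ => ?_
    split_ifs
    · ring
    · rw [mul_zero, zero_mul]
  rw [Finset.sum_congr rfl h3, Finset.sum_comm]
  refine Finset.sum_congr rfl fun i hi => ?_
  rw [Finset.mem_Icc] at hi
  rw [← Finset.sum_mul, N'_eq deg χ hfin n i hi.2 hi.1]

theorem A'_zero : A' deg χ hdeg hfin 0 = 1 := by
  have hF := @Fintype.ofFinite _ (finite_eff deg hdeg hfin 0)
  have h1 : Nat.card (Eff deg 0) = 1 := A_zero deg hdeg
  rw [Nat.card_eq_one_iff_unique] at h1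
  have h2 := h1.1
  rw [A'_eq]
  have h3 : ∀ E : Eff deg 0, w χ E.1 = 1 := by
    intro E
    have : E = ⟨0, degN_zero deg⟩ := Subsingleton.elim _ _
    rw [this, w_zero]
  rw [Finset.sum_congr rfl fun E _ => h3 E, Finset.sum_const, Finset.card_univ,
    ← Nat.card_eq_fintype_card, show Nat.card (Eff deg 0) = 1 from A_zero deg hdeg]
  simp

open PowerSeries in
/-- the logarithmic derivative of the `L`-series -/
theorem logD_A : LogD (mk fun n => A' deg χ hdeg hfin n)
    (mk fun n => if n = 0 then 0 else N' deg χ hfin n) := by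
  unfold LogD
  ext n
  rcases n with _ | n
  · simp
  · rw [coeff_succ_X_mul, coeff_derivative, coeff_mk, coeff_mul]
    rw [Finset.Nat.sum_antidiagonal_eq_sum_range_succ_mk]
    simp only [coeff_mk]
    have h2 := mul_A deg χ hdeg hfin (n + 1)
    rw [mul_comm] at h2
    push_cast at h2
    rw [h2]
    refine Finset.sum_bij_ne_zero (fun i _ _ => n + 1 - i) ?_ ?_ ?_ ?_
    · intro i hi _
      rw [Finset.mem_Icc] at hi
      rw [Finset.mem_range]
      omega
    · intro i hi _ j hj _ h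
      rw [Finset.mem_Icc] at hi hj
      omega
    · intro j hj hne
      rw [Finset.mem_range] at hj
      have hj0 : n + 1 - j ≠ 0 := by
        intro h
        rw [if_pos h, mul_zero] at hne
        exact hne rfl
      refine ⟨n + 1 - j, ?_, ?_, ?_⟩
      · rw [Finset.mem_Icc]; omega
      · rw [if_neg hj0] at hne
        have : n + 1 - (n + 1 - j) = j := by omega
        rw [this, mul_comm]
        exact hne
      · omega
    · intro i hi _
      rw [Finset.mem_Icc] at hi
      have : n + 1 - (n + 1 - i) = i := by omega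
      rw [this, if_neg (by omega), mul_comm]

/-- If `n' ∣ m` forces `χ(P)^(m / deg P) = 1` then the twisted number of points is the number of points. -/
theorem N'_eq_N (m : ℕ) (hm : 1 ≤ m) (h : ∀ P, deg P ∣ m → c χ P ^ (m / deg P) = 1) :
    N' deg χ hfin m = (N deg m : ℂ) := by
  rw [N_eq deg hfin m m hm le_rfl, N', Nat.cast_sum]
  refine Finset.sum_congr rfl fun P _ => ?_
  split_ifs with h1
  · rw [h P h1, mul_one]
  · simp

end

/-- effective divisors in a class, as elements of `Eff` -/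
noncomputable def effEquiv (Pr : AddSubgroup (X →₀ ℤ)) (n : ℕ) (D : X →₀ ℤ) (hD : degZ deg D = n)
    (hPr : ∀ D ∈ Pr, degZ deg D = 0) :
    {E : Eff deg n // toZ E.1 - D ∈ Pr} ≃ {E : X →₀ ℤ // 0 ≤ E ∧ E - D ∈ Pr} where
  toFun E := ⟨toZ E.1.1, fun P => Int.natCast_nonneg (E.1.1 P), E.2⟩
  invFun E := ⟨⟨E.1.mapRange Int.toNat rfl, by
      have h0 : toZ (E.1.mapRange Int.toNat rfl) = E.1 := by
        ext P
        exact Int.toNat_of_nonneg (E.2.1 P)
      have h2 : degHom deg E.1 = n := by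
        have h1 : degHom deg (E.1 - D) = 0 := hPr _ E.2.2
        rw [map_sub, degHom_apply deg D, hD] at h1
        omega
      rw [← h0, degHom_toZ] at h2
      exact_mod_cast h2⟩, by
      have h0 : toZ (E.1.mapRange Int.toNat rfl) = E.1 := by
        ext P
        exact Int.toNat_of_nonneg (E.2.1 P)
      change toZ (E.1.mapRange Int.toNat rfl) - D ∈ Pr
      rw [h0]
      exact E.2.2⟩
  left_inv E := by
    apply Subtype.ext
    apply Subtype.ext
    ext P
    rfl
  right_inv E := by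
    apply Subtype.ext
    ext P
    exact Int.toNat_of_nonneg (E.2.1 P)

section Vanish

variable (hdeg : ∀ P, 0 < deg P) (hfin : ∀ d, Finite {P : X // deg P = d})
  (q g : ℕ) (hq : 2 ≤ q)
  (Pr : AddSubgroup (X →₀ ℤ)) (hPr : ∀ D ∈ Pr, degZ deg D = 0)
  (l : (X →₀ ℤ) → ℕ)
  (hcount : ∀ D, Nat.card {E : X →₀ ℤ // 0 ≤ E ∧ E - D ∈ Pr} * (q - 1) + 1 = q ^ l D)
  (hRR' : ∀ D, 2 * (g : ℤ) - 2 < degZ deg D → (l D : ℤ) = degZ deg D + 1 - g)

include hq hPr hcount hRR' in
/-- `A_χ(n) = 0` for `n > 2 g - 2` if `χ` is nontrivial on a divisor of degree zero. -/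
theorem A'_eq_zero (hχ : ∀ D ∈ Pr, χ D = 0) (D₀ : X →₀ ℤ) (hD₀ : degZ deg D₀ = 0) (hχ0 : χ D₀ ≠ 0)
    (n : ℕ) (hn : 2 * (g : ℤ) - 2 < n) : A' deg χ hdeg hfin n = 0 := by
  classical
  have hF := @Fintype.ofFinite _ (finite_eff deg hdeg hfin n)
  -- the common cardinality
  let M : ℕ := q ^ (n + 1 - g) - 1
  have hM : 0 < M := by
    have h1 : 1 ≤ n + 1 - g := by omega
    have h2 : 2 ^ 1 ≤ q ^ (n + 1 - g) := (Nat.pow_le_pow_left hq 1).trans
      (Nat.pow_le_pow_right (by omega) h1)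
    simp only [M]
    omega
  have hcard : ∀ D : X →₀ ℤ, degZ deg D = n →
      (Finset.univ.filter fun E : Eff deg n => toZ E.1 - D ∈ Pr).card * (q - 1) = M := by
    intro D hD
    have h1 := hcount D
    have h2 := hRR' D (by rw [hD]; exact hn)
    rw [hD] at h2
    have h3 : l D = n + 1 - g := by omega
    rw [h3] at h1
    have h4 : (Finset.univ.filter fun E : Eff deg n => toZ E.1 - D ∈ Pr).card =
        Nat.card {E : X →₀ ℤ // 0 ≤ E ∧ E - D ∈ Pr} := by
      rw [← Nat.card_congr (effEquiv deg Pr n D hD hPr), Nat.card_eq_fintype_card,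
        Fintype.card_subtype]
    rw [h4]
    simp only [M]
    omega
  let cst : ℂ := ((q - 1 : ℕ) : ℂ)
  have hdE : ∀ E : Eff deg n, degZ deg (toZ E.1) = n := by
    intro E
    rw [← degHom_apply, degHom_toZ, E.2]
  -- value of `w` on equivalent divisors
  have hw : ∀ E F : Eff deg n, toZ F.1 - (toZ E.1 + D₀) ∈ Pr →
      w χ F.1 = w χ E.1 * ((χ D₀).toMul : ℂˣ) := by
    intro E F h
    have h1 := hχ _ h
    rw [map_sub, map_add, sub_eq_zero] at h1
    unfold w
    rw [h1]
    rfl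
  have key1 : ∑ E : Eff deg n, ∑ F ∈ Finset.univ.filter (fun F : Eff deg n =>
      toZ F.1 - (toZ E.1 + D₀) ∈ Pr), w χ F.1 * cst =
        (((χ D₀).toMul : ℂˣ) : ℂ) * ((M : ℂ) * ∑ E : Eff deg n, w χ E.1) := by
    rw [Finset.mul_sum, Finset.mul_sum]
    refine Finset.sum_congr rfl fun E _ => ?_
    rw [Finset.sum_congr rfl (g := fun _ => w χ E.1 * ((χ D₀).toMul : ℂˣ) * cst)
      (fun F hF' => by rw [hw E F (Finset.mem_filter.1 hF').2]), Finset.sum_const, nsmul_eq_mul]
    have h2 := hcard (toZ E.1 + D₀) (by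
      rw [← degHom_apply, map_add, degHom_apply, degHom_apply, hdE, hD₀, add_zero])
    have h3 : (((Finset.univ.filter fun F : Eff deg n => toZ F.1 - (toZ E.1 + D₀) ∈ Pr).card : ℕ) : ℂ) *
        cst = M := by
      rw [← h2]
      push_cast
      rfl
    rw [← h3]
    ring
  have key2 : ∑ E : Eff deg n, ∑ F ∈ Finset.univ.filter (fun F : Eff deg n =>
      toZ F.1 - (toZ E.1 + D₀) ∈ Pr), w χ F.1 * cst = (M : ℂ) * ∑ F : Eff deg n, w χ F.1 := by
    rw [Finset.sum_comm' (t' := Finset.univ) (s' := fun F : Eff deg n => Finset.univ.filter (fun E : Eff deg n =>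
      toZ E.1 - (toZ F.1 - D₀) ∈ Pr)) ?_, Finset.mul_sum]
    · refine Finset.sum_congr rfl fun F _ => ?_
      rw [Finset.sum_const, nsmul_eq_mul]
      have h2 := hcard (toZ F.1 - D₀) (by
        rw [← degHom_apply, map_sub, degHom_apply, degHom_apply, hdE, hD₀, sub_zero])
      have h3 : (((Finset.univ.filter fun E : Eff deg n => toZ E.1 - (toZ F.1 - D₀) ∈ Pr).card : ℕ) : ℂ) *
          cst = M := by
        rw [← h2]
        push_cast
        rfl
      rw [← h3]
      ring
    · intro E F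
      simp only [Finset.mem_univ, Finset.mem_filter, true_and, and_true]
      have h1 : toZ E.1 - (toZ F.1 - D₀) = -(toZ F.1 - (toZ E.1 + D₀)) := by abel
      rw [h1, neg_mem_iff]
  rw [A'_eq]
  set S := ∑ E : Eff deg n, w χ E.1 with hS
  have h5 : (((χ D₀).toMul : ℂˣ) : ℂ) * ((M : ℂ) * S) = (M : ℂ) * S := key1.symm.trans key2
  by_contra hne
  have hMS : (M : ℂ) * S ≠ 0 := mul_ne_zero (by exact_mod_cast hM.ne') hne
  have h6 : (((χ D₀).toMul : ℂˣ) : ℂ) = 1 := by
    have : (((χ D₀).toMul : ℂˣ) : ℂ) * ((M : ℂ) * S) = 1 * ((M : ℂ) * S) := by rw [h5, one_mul]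
    exact mul_right_cancel₀ hMS this
  apply hχ0
  apply Additive.toMul.injective
  exact Units.ext h6

open PowerSeries in
/-- A polynomial with logarithmic derivative `∑ a_k X^k`, `a_k ≥ 0`, and constant term `1` has `a_k = 0` for
large `k`. -/
theorem contra (Q : Polynomial ℂ) (h0 : Q.coeff 0 = 1) (a : ℕ → ℕ)
    (hQ : LogD (Q : ℂ⟦X⟧) (mk fun k => if k = 0 then 0 else (a k : ℂ))) :
    ∃ k₀, ∀ k, k₀ ≤ k → a k = 0 := by
  open ComplexOrder in
  have hco : ∀ k : ℕ, Q.coeff k * k = ∑ p ∈ Finset.antidiagonal k,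
      Q.coeff p.1 * (if p.2 = 0 then 0 else (a p.2 : ℂ)) := by
    intro k
    have h1 := congrArg (coeff k) hQ
    rcases k with _ | k
    · simp
    · rw [coeff_succ_X_mul, coeff_derivative, coeff_mul] at h1
      simp only [Polynomial.coeff_coe, coeff_mk] at h1
      rw [← h1]
      push_cast
      rfl
  have hnn : ∀ b : ℕ, (0 : ℂ) ≤ (if b = 0 then 0 else (a b : ℂ)) := by
    intro b
    split_ifs
    · exact le_rfl
    · exact Nat.cast_nonneg _
  have hpos : ∀ k : ℕ, 0 ≤ Q.coeff k := by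
    intro k
    induction k using Nat.strong_induction_on with
    | _ k ih =>
      rcases Nat.eq_zero_or_pos k with rfl | hk
      · rw [h0]; exact zero_le_one
      · have h1 : 0 ≤ Q.coeff k * k := by
          rw [hco]
          refine Finset.sum_nonneg fun p hp => ?_
          rw [Finset.mem_antidiagonal] at hp
          by_cases hp2 : p.2 = 0
          · rw [if_pos hp2, mul_zero]
          · exact mul_nonneg (ih _ (by omega)) (hnn _)
        have h2 : (k : ℂ) ≠ 0 := by exact_mod_cast hk.ne'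
        have h3 : (0 : ℂ) ≤ (((k : ℝ)⁻¹ : ℝ) : ℂ) := Complex.zero_le_real.2 (by positivity)
        have h4 : Q.coeff k = Q.coeff k * k * (((k : ℝ)⁻¹ : ℝ) : ℂ) := by
          push_cast
          rw [mul_assoc, mul_inv_cancel₀ h2, mul_one]
        rw [h4]
        exact mul_nonneg h1 h3
  refine ⟨Q.natDegree + 1, fun k hk => ?_⟩
  have h1 : Q.coeff k = 0 := Polynomial.coeff_eq_zero_of_natDegree_lt (by omega)
  have h2 := hco k
  rw [h1, zero_mul] at h2
  have h3 := (Finset.sum_eq_zero_iff_of_nonneg (fun p _ => mul_nonneg (hpos p.1) (hnn p.2))).1 h2.symm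
    (0, k) (by simp)
  simp only [h0, one_mul] at h3
  rw [if_neg (by omega)] at h3
  exact_mod_cast h3

open PowerSeries in
include hq hPr hcount hRR' hdeg hfin in
/-- **Divisors of degree zero are norms.** -/
theorem mem_of_deg_eq_zero [Nonempty X] (n : ℕ) (hn : 0 < n) (H : AddSubgroup (X →₀ ℤ)) (hH : Pr ≤ H)
    (hHP : ∀ (P : X) (m : ℕ), 0 < m → n ∣ m → deg P ∣ m → (m / deg P) • Finsupp.single P (1 : ℤ) ∈ H)
    (D₀ : X →₀ ℤ) (hD₀ : degZ deg D₀ = 0) : D₀ ∈ H := by
  classical
  by_contra hD₀H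
  have h1 : (D₀ : (X →₀ ℤ) ⧸ H) ≠ 0 := fun h => hD₀H ((QuotientAddGroup.eq_zero_iff _).1 h)
  obtain ⟨ψ, hψ⟩ := exists_char h1
  let χ : (X →₀ ℤ) →+ Additive ℂˣ := ψ.comp (QuotientAddGroup.mk' H)
  have hχH : ∀ D ∈ H, χ D = 0 := fun D hD => by
    change ψ ((D : (X →₀ ℤ) ⧸ H)) = 0
    rw [(QuotientAddGroup.eq_zero_iff _).2 hD, map_zero]
  have hχ0 : χ D₀ ≠ 0 := hψ
  have hvan := A'_eq_zero deg χ hdeg hfin q g hq Pr hPr l hcount hRR'
    (fun D hD => hχH D (hH hD)) D₀ hD₀ hχ0
  -- the polynomial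
  let P : Polynomial ℂ := ∑ i ∈ Finset.range (2 * g + 1), Polynomial.monomial i (A' deg χ hdeg hfin i)
  have hPco : ∀ i, P.coeff i = A' deg χ hdeg hfin i := by
    intro i
    simp only [P]
    rw [Polynomial.finsetSum_coeff]
    simp only [Polynomial.coeff_monomial]
    rw [Finset.sum_ite_eq' (Finset.range (2 * g + 1)) i (fun i => A' deg χ hdeg hfin i)]
    split_ifs with h
    · rfl
    · rw [Finset.mem_range, not_lt] at h
      exact (hvan i (by omega)).symm
  have hPdeg : P.natDegree ≤ 2 * g := by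
    rw [Polynomial.natDegree_le_iff_coeff_eq_zero]
    intro i hi
    rw [hPco]
    exact hvan i (by omega)
  have hP0 : P.coeff 0 = 1 := by rw [hPco, A'_zero]
  have hPps : (P : ℂ⟦X⟧) = mk fun n => A' deg χ hdeg hfin n := by
    ext i
    rw [Polynomial.coeff_coe, hPco, coeff_mk]
  -- roots
  let R : Polynomial ℂ := P.reflect (2 * g)
  have hRdeg : R.natDegree ≤ 2 * g := by
    refine (Polynomial.natDegree_reflect_le).trans ?_
    exact max_le le_rfl hPdeg
  have hRtop : R.coeff (2 * g) = 1 := by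
    rw [Polynomial.coeff_reflect, Polynomial.revAt_le le_rfl, Nat.sub_self, hP0]
  have hRmonic : R.Monic := Polynomial.monic_of_natDegree_le_of_coeff_eq_one _ hRdeg hRtop
  have hRdeg' : R.natDegree = 2 * g :=
    le_antisymm hRdeg (Polynomial.le_natDegree_of_ne_zero (by rw [hRtop]; exact one_ne_zero))
  obtain ⟨γ, hγ, -⟩ := exists_roots R (2 * g) hRmonic hRdeg'
  have hPprod : P = ∏ i, (1 - Polynomial.C (γ i) * Polynomial.X) := by
    rw [← reflect_prod, ← hγ]
    exact Polynomial.reflect_reflect.symm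
  have hps : ∀ δ : Fin (2 * g) → ℂ,
      ((∏ i, (1 - Polynomial.C (δ i) * Polynomial.X) : Polynomial ℂ) : ℂ⟦X⟧) =
        ∏ i, (1 - C (δ i) * PowerSeries.X : ℂ⟦X⟧) := by
    intro δ
    rw [← Polynomial.coeToPowerSeries.ringHom_apply, map_prod]
    refine Finset.prod_congr rfl fun i _ => ?_
    rw [map_sub, map_one, map_mul]
    simp
  have L1 : LogD (P : ℂ⟦X⟧) (∑ i, mk fun n => if n = 0 then 0 else - γ i ^ n) := by
    rw [hPprod, hps]
    exact LogD.prod _ _ _ fun i _ => logD_one_sub (γ i)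
  have L2 : LogD (P : ℂ⟦X⟧) (mk fun n => if n = 0 then 0 else N' deg χ hfin n) := by
    rw [hPps]
    exact logD_A deg χ hdeg hfin
  have hPne : (P : ℂ⟦X⟧) ≠ 0 := by
    intro h
    have := congrArg (coeff 0) h
    rw [Polynomial.coeff_coe, hP0] at this
    simp at this
  have hsum : ∀ k : ℕ, 1 ≤ k → N' deg χ hfin k = - ∑ i, γ i ^ k := by
    intro k hk
    have h2 := congrArg (coeff k) (LogD.unique hPne L1 L2)
    rw [map_sum] at h2
    simp only [coeff_mk, if_neg (show k ≠ 0 by omega)] at h2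
    rw [Finset.sum_neg_distrib] at h2
    exact h2.symm
  have hN : ∀ k : ℕ, 1 ≤ k → N' deg χ hfin (n * k) = (N deg (n * k) : ℂ) := by
    intro k hk
    have hnk : 0 < n * k := Nat.mul_pos hn hk
    refine N'_eq_N deg χ hfin (n * k) hnk fun P hP => ?_
    have h3 := hχH _ (hHP P (n * k) hnk (Dvd.intro _ rfl) hP)
    rw [map_nsmul] at h3
    exact congrArg (fun z : Additive ℂˣ => ((z.toMul : ℂˣ) : ℂ)) h3
  -- the polynomial with roots `γ i ^ n`
  let Q : Polynomial ℂ := ∏ i, (1 - Polynomial.C (γ i ^ n) * Polynomial.X)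
  have hQ0 : Q.coeff 0 = 1 := by
    rw [Polynomial.coeff_zero_eq_eval_zero, Polynomial.eval_prod]
    simp
  have LQ : LogD (Q : ℂ⟦X⟧) (mk fun k => if k = 0 then 0 else ((N deg (n * k) : ℕ) : ℂ)) := by
    have h3 : (∑ i, mk fun k => if k = 0 then 0 else - (γ i ^ n) ^ k : ℂ⟦X⟧) =
        mk fun k => if k = 0 then 0 else ((N deg (n * k) : ℕ) : ℂ) := by
      ext k
      rw [map_sum]
      simp only [coeff_mk]
      rcases Nat.eq_zero_or_pos k with rfl | hk
      · simp
      · simp only [if_neg (show k ≠ 0 by omega)]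
        rw [Finset.sum_neg_distrib, ← hN k hk, hsum (n * k) (Nat.mul_pos hn hk)]
        congr 1
        refine Finset.sum_congr rfl fun i _ => ?_
        rw [pow_mul]
    rw [← h3]
    rw [show (Q : ℂ⟦X⟧) = ∏ i, (1 - C (γ i ^ n) * PowerSeries.X : ℂ⟦X⟧) from hps _]
    exact LogD.prod _ _ _ fun i _ => logD_one_sub (γ i ^ n)
  obtain ⟨k₀, hk₀⟩ := contra Q hQ0 (fun k => N deg (n * k)) LQ
  obtain ⟨P₀⟩ := ‹Nonempty X›
  have h4 := hk₀ ((k₀ + 1) * deg P₀) (by
    have := hdeg P₀
    nlinarith)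
  have h5 : 0 < N deg (n * ((k₀ + 1) * deg P₀)) := by
    have hpos : 0 < n * ((k₀ + 1) * deg P₀) := Nat.mul_pos hn (Nat.mul_pos (by omega) (hdeg P₀))
    unfold N
    refine Finset.sum_pos' (fun _ _ => Nat.zero_le _) ⟨deg P₀, ?_, ?_⟩
    · rw [Nat.mem_divisors]
      exact ⟨⟨n * (k₀ + 1), by ring⟩, hpos.ne'⟩
    · have := hfin (deg P₀)
      have : Nonempty {P : X // deg P = deg P₀} := ⟨⟨P₀, rfl⟩⟩
      exact Nat.mul_pos (hdeg P₀) Nat.card_pos
  omega

end Vanish

end K281.ZetaChar
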