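import Groth.Agent.Dix.K281.CycNorm
import Groth.Agent.Dix.K281.ZetaChar
import Groth.Agent.MiscA.CurveDict
import Groth.Agent.MiscA.ZetaCrv
import Groth.Agent.MiscA.CurveConst
import Groth.Agent.MiscA.WCSep

/-!
# Smooth proper curves over finite fields: degrees and norms of torsion classes
-/

set_option autoImplicit false
set_option linter.unusedSectionVars false
universe u

open CategoryTheory CategoryTheory.Limits CategoryTheory.Abelian AlgebraicGeometry Opposite TopologicalSpace
open FiniteField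
open Groth.Agent.CurvesA Groth.Agent.CurvesA.DivPoint Groth.Agent.CurvesA.PtFun Groth.Agent.CurvesA.GmFunct
  Groth.Agent.CurvesA.OrdMap Groth.Agent.CurvesA.DivSheaf Groth.Agent.CurvesA.DivTop
open Groth.Agent.Etbase Groth.Agent.Etcore.EtZ
open Groth.Agent.MiscA Groth.Agent.MiscA.WCPlace Groth.Agent.MiscA.WCPlaceCrv Groth.Agent.MiscA.WCPlaceRes
  Groth.Agent.MiscA.CurveDict Groth.Agent.MiscA.ZetaAbs Groth.Agent.MiscA.ZetaAbsCount Groth.Agent.Models.FFRR
open Groth.Agent.MiscA.CurveH1D

noncomputable section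

namespace K281.CycArith

section abs

variable {X : Type*} [Nonempty X] (deg : X → ℕ) (hdeg : ∀ P, 0 < deg P)
  (hfin : ∀ d, Finite {P : X // deg P = d})
  (q g : ℕ) (hq : 2 ≤ q)
  (Pr : AddSubgroup (X →₀ ℤ)) (hPr : ∀ D ∈ Pr, degZ deg D = 0)
  (l : (X →₀ ℤ) → ℕ)
  (hcount : ∀ D, Nat.card {E : X →₀ ℤ // 0 ≤ E ∧ E - D ∈ Pr} * (q - 1) + 1 = q ^ l D)
  (hRR : ∀ D, degZ deg D + 1 - g ≤ l D)

include hdeg hfin hq hcount hRR in
/-- Finiteness of the class number, without a divisor of degree one. -/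
theorem finite_ClN_zero : Finite (ClN deg Pr hPr 0) := by
  obtain ⟨P₀⟩ := ‹Nonempty X›
  let m : ℕ := g * deg P₀
  have hm : g ≤ m := Nat.le_mul_of_pos_right g (hdeg P₀)
  have := finite_eff deg hdeg hfin m
  have h1 : Finite (ClN deg Pr hPr (m : ℤ)) := by
    refine Finite.of_surjective (effToCl deg Pr hPr m) ?_
    intro c
    obtain ⟨D, hD⟩ := QuotientAddGroup.mk_surjective c.1
    have h2 : degZ deg D = m := by
      rw [← degHom_apply, ← degCl_mk deg Pr hPr, hD, c.2]
    have h3 := hRR D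
    have h4 := hcount D
    rw [h2] at h3
    have h5 : 1 ≤ l D := by omega
    have h6 : q ≤ q ^ l D := Nat.le_self_pow (by omega) q
    have h7 : Nat.card {E : X →₀ ℤ // 0 ≤ E ∧ E - D ∈ Pr} ≠ 0 := by
      intro h0
      rw [h0, zero_mul] at h4
      omega
    have h8 : Nonempty {E : Eff deg m // effToCl deg Pr hPr m E = c} := by
      rw [(fibreEquiv deg Pr hPr m D c hD.symm).nonempty_congr]
      by_contra h9
      rw [not_nonempty_iff] at h9
      exact h7 Nat.card_of_isEmpty
    exact ⟨h8.some.1, h8.some.2⟩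
  let D₁ : X →₀ ℤ := Finsupp.single P₀ (g : ℤ)
  have hD₁ : degHom deg D₁ = m := by
    rw [degHom_single]
    rfl
  refine Finite.of_injective (β := ClN deg Pr hPr (m : ℤ))
    (fun c => ⟨c.1 + (D₁ : (X →₀ ℤ) ⧸ Pr), by rw [map_add, c.2, degCl_mk, hD₁, zero_add]⟩) ?_
  intro a b hab
  exact Subtype.ext (add_right_cancel (congrArg Subtype.val hab))

end abs

variable {k : Type u} [Field k] [Finite k] {X : Scheme.{u}} [IsIntegral X]
  (f : X ⟶ Spec (CommRingCat.of k)) [GeometricallyIrreducible f] [Algebra k X.functionField]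
  (hk : CurvePlaces.genericPt X ≫ f = Spec.map (CommRingCat.ofHom (algebraMap k X.functionField)))
  (hX : Curve.IsSmoothProperCurve k X f) (h : ∃ t : X.functionField, IsSep k X.functionField t)
  (hconst : ∀ x : X.functionField, IsAlgebraic k x → x ∈ (algebraMap k X.functionField).range)

include hconst in
/-- Finiteness of the group of divisor classes of degree zero. -/
theorem finite_Cl (hPr : ∀ D ∈ ZetaCrv.prin (crv h), degZ (crv h).dg0 D = 0) :
    Finite (ClN (crv h).dg0 (ZetaCrv.prin (crv h)) hPr 0) := by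
  have := nonempty_place h
  have hC := crv_fin h
  have h1 := l_zero_eq_one h hconst
  refine finite_ClN_zero (crv h).dg0 hC.dg0_pos (ZetaCrv.finite_places hC h1) (Nat.card k) ((crv h).i 0)
    Finite.one_lt_card (ZetaCrv.prin (crv h)) hPr (crv h).l (ZetaCrv.card_linearSystem hC h1) ?_
  intro D
  rw [ZetaCrv.degZ_eq]
  exact hC.le_l h1 D

theorem deg_prin (D : Place k X.functionField →₀ ℤ) (hD : D ∈ ZetaCrv.prin (crv h)) :
    degZ (crv h).dg0 D = 0 := by
  obtain ⟨f, hf, rfl⟩ := hD
  rw [ZetaCrv.degZ_eq]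
  exact (crv_fin h).deg_div hf

theorem princ_eq : ZF.Princ (crv h) = ZetaCrv.prin (crv h) := by
  ext D
  rw [ZF.mem_Princ]
  rfl

include hk hX h hconst in
theorem exists_degree_aux : ∃ d : EtCoh.H X (EtCoh.Gm X) 1 →+ ℤ, Finite d.ker := by
  have hN := CurveH1E.isNoetherian_of_isSmoothProperCurve f hX
  have hLN : IsLocallyNoetherian X := inferInstance
  have hCS : CompactSpace X := inferInstance
  have hD : DivPoint.IsDed X := fun x hx => CurveH1E.isDiscreteValuationRing_stalk f hX x hx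
  have hs := CycCls.divCls_surjective hD
  let e : EtCoh.H X (EtCoh.Gm X) 1 ≃+ (Place k X.functionField →₀ ℤ) ⧸ ZetaCrv.prin (crv h) :=
    (QuotientAddGroup.quotientKerEquivOfSurjective (DivCls.divCls hD) hs).symm.trans
      (QuotientAddGroup.congr _ _ (dvEquiv f hk hX) ((ker_divCls f hk hX h hD).trans (princ_eq h)))
  have hfin := finite_Cl h hconst (deg_prin h)
  refine ⟨(degCl (crv h).dg0 (ZetaCrv.prin (crv h)) (deg_prin h)).comp e.toAddMonoidHom, ?_⟩
  refine Finite.of_injective (β := ClN (crv h).dg0 (ZetaCrv.prin (crv h)) (deg_prin h) 0)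
    (fun c => ⟨e c.1, c.2⟩) ?_
  intro a b hab
  exact Subtype.ext (e.injective (congrArg Subtype.val hab))

end K281.CycArith
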