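import Groth.Agent.Dix.K281.CycEt
import Groth.Agent.Dix.K281.CycAlg
import Groth.Agent.Etbase.EtGlue
import Mathlib.AlgebraicGeometry.Morphisms.Etale

/-!
# Constant field extensions are cyclic coverings

For `k' / k` finite fields and `f : X ⟶ Spec k`, the étale covering `Y = X_{k'}` of `X` is a torsor
under the cyclic group generated by the Frobenius of `k' / k` (`cyc`).
-/

set_option autoImplicit false
set_option linter.unusedSectionVars false
universe u

open CategoryTheory CategoryTheory.Limits AlgebraicGeometry Opposite FiniteField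
open Groth.Agent.Etbase Groth.Agent.CurvesA

noncomputable section

namespace K281.CycBase

section gl

variable {T T' : Scheme.{u}} {A B : Type u} [CommRing A] [CommRing B]

/-- a morphism to an affine scheme as a ring homomorphism -/
def gl (g : T ⟶ Spec (CommRingCat.of A)) : A →+* Γ(T, ⊤) :=
  g.appTop.hom.comp (Scheme.ΓSpecIso (CommRingCat.of A)).inv.hom

theorem gl_injective : Function.Injective (gl (T := T) (A := A)) := by
  intro g h e
  apply ext_of_isAffine
  rw [← cancel_epi (Scheme.ΓSpecIso (CommRingCat.of A)).inv]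
  exact CommRingCat.hom_ext e

theorem gl_comp (h : T' ⟶ T) (g : T ⟶ Spec (CommRingCat.of A)) :
    gl (h ≫ g) = h.appTop.hom.comp (gl g) := by
  ext x
  rfl

theorem gl_map (g : T ⟶ Spec (CommRingCat.of A)) (φ : B →+* A) :
    gl (g ≫ Spec.map (CommRingCat.ofHom φ)) = (gl g).comp φ := by
  ext x
  have h := Scheme.ΓSpecIso_inv_naturality (CommRingCat.ofHom φ)
  have h2 := congrArg (fun r => r.hom x) h
  exact congrArg (fun y => g.appTop.hom y) h2.symm

end gl

variable {X : Scheme.{u}} (k k' : Type u) [Field k] [Field k'] [Fintype k] [Finite k'] [Algebra k k']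
  (f : X ⟶ Spec (CommRingCat.of k))

/-- the structure morphism -/
abbrev sp : Spec (CommRingCat.of k') ⟶ Spec (CommRingCat.of k) :=
  Spec.map (CommRingCat.ofHom (algebraMap k k'))

instance etale_sp : Etale (sp k k') := by
  have : Algebra.IsAlgebraic k k' := inferInstance
  have : Algebra.IsSeparable k k' := inferInstance
  have : Algebra.FormallyEtale k k' := Algebra.FormallyEtale.of_isSeparable k k'
  have : Algebra.FinitePresentation k k' := Algebra.FinitePresentation.of_finiteType.1 inferInstance
  have : Algebra.Etale k k' := ⟨inferInstance, inferInstance⟩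
  rw [HasRingHomProperty.Spec_iff (P := @Etale)]
  exact RingHom.etale_algebraMap.2 inferInstance

instance surj_sp : Surjective (sp k k') := by
  constructor
  intro x
  exact ⟨default, Subsingleton.elim _ _⟩

/-- the constant field extension -/
abbrev XE : Scheme.{u} := pullback f (sp k k')

/-- the constant field extension as an étale covering -/
def YE : X.Etale := Scheme.Etale.mk (pullback.fst f (sp k k'))

theorem YE_hom : (YE k k' f).hom = pullback.fst f (sp k k') := rfl

variable (X) in
/-- powers of Frobenius -/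
def fr (i : ℕ) : Spec (CommRingCat.of k') ⟶ Spec (CommRingCat.of k') :=
  Spec.map (CommRingCat.ofHom ((frobeniusAlgHom k k' ^ i : k' →ₐ[k] k') : k' →+* k'))

theorem fr_sp (i : ℕ) : fr k k' i ≫ sp k k' = sp k k' := by
  rw [fr, sp, ← Spec.map_comp, ← CommRingCat.ofHom_comp]
  congr 2
  exact RingHom.ext fun x => AlgHom.commutes _ x

theorem fr_zero : fr k k' 0 = 𝟙 _ := Spec.map_id _

theorem fr_add (i j : ℕ) : fr k k' i ≫ fr k k' j = fr k k' (i + j) := by
  rw [fr, fr, ← Spec.map_comp, ← CommRingCat.ofHom_comp, fr]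
  congr 2
  ext x
  change (frobeniusAlgHom k k' ^ i) ((frobeniusAlgHom k k' ^ j) x) = (frobeniusAlgHom k k' ^ (i + j)) x
  rw [pow_add]
  rfl

/-- powers of the Frobenius automorphism -/
def sgl (i : ℕ) : pullback f (sp k k') ⟶ pullback f (sp k k') :=
  pullback.lift (pullback.fst _ _) (pullback.snd _ _ ≫ fr k k' i) (by
    rw [Category.assoc, fr_sp]
    exact pullback.condition)

@[reassoc (attr := simp)]
theorem sgl_fst (i : ℕ) : sgl k k' f i ≫ pullback.fst _ _ = pullback.fst _ _ := pullback.lift_fst _ _ _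

@[reassoc (attr := simp)]
theorem sgl_snd (i : ℕ) : sgl k k' f i ≫ pullback.snd _ _ = pullback.snd _ _ ≫ fr k k' i :=
  pullback.lift_snd _ _ _

theorem sgl_zero : sgl k k' f 0 = 𝟙 _ := by
  apply pullback.hom_ext
  · rw [sgl_fst, Category.id_comp]
  · rw [sgl_snd, fr_zero, Category.id_comp, Category.comp_id]

theorem sgl_add (i j : ℕ) : sgl k k' f i ≫ sgl k k' f j = sgl k k' f (i + j) := by
  apply pullback.hom_ext
  · rw [Category.assoc, sgl_fst, sgl_fst, sgl_fst]
  · rw [Category.assoc, sgl_snd, sgl_snd_assoc, fr_add, sgl_snd, add_comm]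

/-- the Frobenius automorphism -/
def sg : YE k k' f ⟶ YE k k' f :=
  MorphismProperty.Over.homMk (A := YE k k' f) (B := YE k k' f) (sgl k k' f 1) (sgl_fst k k' f 1) trivial

theorem pw_sg_left (i : ℕ) : (CycEt.pw (sg k k' f) i).left = sgl k k' f i := by
  induction i with
  | zero => exact (sgl_zero k k' f).symm
  | succ i ih =>
    have h1 : (CycEt.pw (sg k k' f) (i + 1)).left = sgl k k' f 1 ≫ (CycEt.pw (sg k k' f) i).left := rfl
    refine (h1.trans (congrArg (fun z => sgl k k' f 1 ≫ z) ih)).trans ?_
    rw [add_comm i 1]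
    exact sgl_add k k' f 1 i

section local_

variable {T : Scheme.{u}}

/-- The coordinate. -/
def cd (p : T ⟶ pullback f (sp k k')) : k' →+* Γ(T, ⊤) := gl (p ≫ pullback.snd _ _)

theorem cd_comp {T' : Scheme.{u}} (h : T' ⟶ T) (p : T ⟶ pullback f (sp k k')) :
    cd k k' f (h ≫ p) = h.appTop.hom.comp (cd k k' f p) := by
  rw [cd, Category.assoc, gl_comp]
  rfl

theorem cd_sgl (p : T ⟶ pullback f (sp k k')) (i : ℕ) :
    cd k k' f (p ≫ sgl k k' f i) =
      (cd k k' f p).comp ((frobeniusAlgHom k k' ^ i : k' →ₐ[k] k') : k' →+* k') := by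
  rw [cd, Category.assoc, sgl_snd, ← Category.assoc, fr, gl_map]
  rfl

theorem cd_algebraMap (p : T ⟶ pullback f (sp k k')) :
    (cd k k' f p).comp (algebraMap k k') = gl ((p ≫ pullback.fst _ _) ≫ f) := by
  rw [cd, ← gl_map, Category.assoc, Category.assoc, pullback.condition]

theorem cd_ext (p q : T ⟶ pullback f (sp k k')) (h1 : p ≫ pullback.fst _ _ = q ≫ pullback.fst _ _)
    (h2 : cd k k' f p = cd k k' f q) : p = q :=
  pullback.hom_ext h1 (gl_injective h2)

theorem exists_open (p q : T ⟶ pullback f (sp k k'))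
    (h : p ≫ pullback.fst _ _ = q ≫ pullback.fst _ _) (t : T) :
    ∃ (i : ℕ) (W : T.Opens), i < Module.finrank k k' ∧ t ∈ W ∧ W.ι ≫ q = W.ι ≫ p ≫ sgl k k' f i := by
  let a : k' →+* T.presheaf.stalk t := (T.presheaf.germ ⊤ t trivial).hom.comp (cd k k' f p)
  let b : k' →+* T.presheaf.stalk t := (T.presheaf.germ ⊤ t trivial).hom.comp (cd k k' f q)
  have hab : b.comp (algebraMap k k') = a.comp (algebraMap k k') := by
    rw [RingHom.comp_assoc, RingHom.comp_assoc, cd_algebraMap, cd_algebraMap, h]
  obtain ⟨i, hi, hia⟩ := CycAlg.core k a b hab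
  obtain ⟨θ, hθ⟩ := IsCyclic.exists_generator (α := k'ˣ)
  have h1 : (T.presheaf.germ ⊤ t trivial).hom (cd k k' f q θ) =
      (T.presheaf.germ ⊤ t trivial).hom (cd k k' f (p ≫ sgl k k' f i) θ) := by
    rw [cd_sgl]
    exact RingHom.congr_fun hia θ
  obtain ⟨W', htW, iW, iW', hW⟩ := T.presheaf.germ_eq t (U := ⊤) (V := ⊤) trivial trivial _ _ h1
  let W : T.Opens := W'
  refine ⟨i, W, hi, htW, ?_⟩
  apply cd_ext
  · rw [Category.assoc, Category.assoc, Category.assoc, sgl_fst, h]
  · have key : ∀ x : Γ(T, ⊤), W.ι.appTop.hom x = W.topIso.inv.hom ((T.presheaf.map iW.op).hom x) := by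
      intro x
      have h2 : W.ι.appTop = T.presheaf.map iW.op ≫ W.topIso.inv := by
        rw [Scheme.Opens.ι_appTop, Scheme.Opens.topIso_inv]
        exact T.presheaf.map_comp _ _
      rw [h2]
      rfl
    have h2 : W.ι.appTop.hom (cd k k' f q θ) = W.ι.appTop.hom (cd k k' f (p ≫ sgl k k' f i) θ) := by
      rw [key, key]
      have e : iW' = iW := Subsingleton.elim _ _
      rw [e] at hW
      exact congrArg W.topIso.inv.hom hW
    rw [cd_comp, cd_comp]
    ext x
    by_cases hx : x = 0
    · rw [hx, map_zero, map_zero]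
    · obtain ⟨m, hm⟩ := (Submonoid.mem_powers_iff _ _).1 (mem_powers_iff_mem_zpowers.2 (hθ (Units.mk0 x hx)))
      have hx' : x = (θ : k') ^ m := by
        have := congrArg Units.val hm
        rw [Units.val_pow_eq_pow_val] at this
        exact this.symm
      rw [hx', map_pow, map_pow]
      exact congrArg (· ^ m) h2

theorem sgl_inj (t : T) (p : T ⟶ pullback f (sp k k')) {i j : ℕ} (hi : i < Module.finrank k k')
    (hj : j < Module.finrank k k') (h : p ≫ sgl k k' f i = p ≫ sgl k k' f j) : i = j := by
  have hnt : Nontrivial Γ(T, ⊤) := RingHom.domain_nontrivial (T.presheaf.germ ⊤ t trivial).hom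
  have hinj : Function.Injective (cd k k' f p) := (cd k k' f p).injective
  apply CycAlg.pow_inj k (k' := k') hi hj
  ext x
  apply hinj
  have h1 := congrArg (cd k k' f) h
  rw [cd_sgl, cd_sgl] at h1
  exact RingHom.congr_fun h1 x

end local_

/-- **Constant field extensions are cyclic coverings.** -/
theorem cyc : CycEt.Cyc (sg k k' f) (Module.finrank k k') where
  pos := Module.finrank_pos
  surj W w := by
    have hs : Surjective (pullback.fst f (sp k k')) := inferInstance
    obtain ⟨y, hy⟩ := hs.surj (((EtCore.topIsTerminal X).from W).left w)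
    obtain ⟨P, a, b, t, -, ha, -⟩ := EtSite.exists_pullback ((EtCore.topIsTerminal X).from W)
      ((EtCore.topIsTerminal X).from (YE k k' f)) w y (by
        have h1 : ((EtCore.topIsTerminal X).from (YE k k' f)).left = pullback.fst f (sp k k') := by
          have h2 := Over.w ((EtCore.topIsTerminal X).from (YE k k' f)).toCommaMorphism
          exact (Category.comp_id _).symm.trans h2
        exact hy.symm.trans (congrArg (fun z => z y) h1.symm))
    exact ⟨P, a, t, ha, ⟨b⟩⟩
  pw_n := by
    apply MorphismProperty.Over.Hom.ext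
    refine (pw_sg_left k k' f _).trans ?_
    have h1 : fr k k' (Module.finrank k k') = 𝟙 _ := by
      unfold fr
      rw [CycAlg.pow_finrank]
      exact Spec.map_id _
    have h2 : sgl k k' f (Module.finrank k k') = 𝟙 _ := by
      apply pullback.hom_ext
      · rw [sgl_fst, Category.id_comp]
      · rw [sgl_snd, h1, Category.id_comp, Category.comp_id]
    exact h2
  loc W p q w := by
    have hp : p.left ≫ pullback.fst f (sp k k') = W.hom := Over.w p.toCommaMorphism
    have hq : q.left ≫ pullback.fst f (sp k k') = W.hom := Over.w q.toCommaMorphism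
    obtain ⟨i, O, hi, hw, h⟩ := exists_open k k' f p.left q.left (hp.trans hq.symm) w
    refine ⟨EtGlue.opn W O, EtGlue.opnι W O, (⟨w, hw⟩ : O), i, hi, rfl, ?_⟩
    apply MorphismProperty.Over.Hom.ext
    have h1 : (EtGlue.opnι W O ≫ p ≫ CycEt.pw (sg k k' f) i).left =
        O.ι ≫ p.left ≫ (CycEt.pw (sg k k' f) i).left := rfl
    refine Eq.trans ?_ h1.symm
    refine Eq.trans ?_ (congrArg (fun z => O.ι ≫ p.left ≫ z) (pw_sg_left k k' f i)).symm
    exact h
  inj W w p i j hi hj h := by
    refine sgl_inj k k' f w p.left hi hj ?_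
    have h1 := congrArg (fun z => z.left) h
    refine ((congrArg (fun z => p.left ≫ z) (pw_sg_left k k' f i)).symm.trans h1).trans ?_
    exact congrArg (fun z => p.left ≫ z) (pw_sg_left k k' f j)

end K281.CycBase
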