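import Groth.Agent.Dix.K281.CycDiv
import Groth.Agent.CurvesA.DivCls
import Groth.Agent.Dix.K280.PointHilb
import Groth.Agent.Dix.K280.EdgeEt
import Groth.Agent.S0101

/-!
# Classes of divisors and norms from constant field extensions
-/

set_option autoImplicit false
set_option linter.unusedSectionVars false
universe u

open CategoryTheory CategoryTheory.Limits CategoryTheory.Abelian AlgebraicGeometry Opposite TopologicalSpace
open FiniteField
open Groth.Agent.CurvesA Groth.Agent.CurvesA.DivPoint Groth.Agent.CurvesA.PtFun Groth.Agent.CurvesA.GmFunct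
  Groth.Agent.CurvesA.OrdMap Groth.Agent.CurvesA.DivSheaf Groth.Agent.CurvesA.DivTop
open Groth.Agent.Etbase Groth.Agent.Etcore.EtZ

noncomputable section

namespace K281.CycCls

open CycBase CycFib CycDiv

section bd

variable {X : Scheme.{u}} {S : ShortComplex (EtCoh.Ab X)} (hS : S.ShortExact) (U : X.Etale)

/-- the connecting map on sections over `U` -/
def bd : EtCoh.sect S.X₃ U →+ Ext ((Z X).obj U) S.X₁ 1 where
  toFun s := (Ext.mk₀ (SiteZU.lift.{u + 1} s : (Z X).obj U ⟶ S.X₃)).comp hS.extClass (zero_add 1)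
  map_zero' := by
    have h1 : (SiteZU.lift.{u + 1} (0 : EtCoh.sect S.X₃ U) : (Z X).obj U ⟶ S.X₃) = 0 :=
      map_zero (SiteZU.evEquiv.{u + 1} U S.X₃).symm
    rw [h1, Ext.mk₀_zero, Ext.zero_comp]
  map_add' a b := by
    have h1 : (SiteZU.lift.{u + 1} (a + b) : (Z X).obj U ⟶ S.X₃) =
        SiteZU.lift.{u + 1} a + SiteZU.lift.{u + 1} b :=
      map_add (SiteZU.evEquiv.{u + 1} U S.X₃).symm a b
    rw [h1, Ext.mk₀_add, Ext.add_comp]

theorem bd_apply (s : EtCoh.sect S.X₃ U) :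
    bd hS U s = (Ext.mk₀ (SiteZU.lift.{u + 1} s : (Z X).obj U ⟶ S.X₃)).comp hS.extClass (zero_add 1) := rfl

theorem bd_eq_zero_iff (s : EtCoh.sect S.X₃ U) :
    bd hS U s = 0 ↔ ∃ t : EtCoh.sect S.X₂ U, (S.g.hom.app (op U)).hom t = s := by
  constructor
  · intro h
    obtain ⟨y, hy⟩ := Ext.covariant_sequence_exact₃ _ hS
      (Ext.mk₀ (SiteZU.lift.{u + 1} s : (Z X).obj U ⟶ S.X₃)) (zero_add 1) h
    obtain ⟨h, rfl⟩ := (Ext.mk₀_bijective _ _).2 y
    rw [Ext.mk₀_comp_mk₀] at hy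
    have h2 : h ≫ S.g = SiteZU.lift.{u + 1} s := (Ext.mk₀_bijective _ _).1 hy
    refine ⟨SiteZU.ev.{u + 1} h, ?_⟩
    have h3 := congrArg SiteZU.ev.{u + 1} h2
    rw [SiteZU.ev_lift] at h3
    refine Eq.trans ?_ h3
    exact (SiteZU.ev_comp.{u + 1} h S.g).symm
  · rintro ⟨t, rfl⟩
    have h1 : (SiteZU.lift.{u + 1} ((S.g.hom.app (op U)).hom t) : (Z X).obj U ⟶ S.X₃) =
        SiteZU.lift.{u + 1} t ≫ S.g := by
      apply SiteZU.ev_injective.{u + 1}
      rw [SiteZU.ev_lift]
      refine Eq.trans ?_ (SiteZU.ev_comp.{u + 1} _ S.g).symm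
      rw [SiteZU.ev_lift]
    rw [bd_apply, h1, ← Ext.mk₀_comp_mk₀, Ext.comp_assoc_of_second_deg_zero, hS.comp_extClass, Ext.comp_zero]

theorem bd_surjective (h : Subsingleton (Ext ((Z X).obj U) S.X₂ 1)) : Function.Surjective (bd hS U) := by
  intro y
  obtain ⟨x, hx⟩ := Ext.covariant_sequence_exact₁ _ hS y (Subsingleton.elim _ _) (zero_add 1)
  obtain ⟨h, rfl⟩ := (Ext.mk₀_bijective _ _).2 x
  refine ⟨SiteZU.ev.{u + 1} h, ?_⟩
  rw [bd_apply, SiteZU.lift_ev]
  exact hx

end bd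

section cls

variable {X : Scheme.{u}} [IsIntegral X] [IsLocallyNoetherian X] [CompactSpace X] (hX : IsDed X)

/-- the class of a divisor -/
def cls : ({x : X // x ≠ genericPoint X} →₀ ℤ) →+ Ext ((Z X).obj (EtCoh.top X)) (EtCoh.Gm X) 1 :=
  (bd (seq_shortExact hX) (EtCoh.top X)).comp (divEquiv hX).symm.toAddMonoidHom

theorem cls_apply (E : {x : X // x ≠ genericPoint X} →₀ ℤ) :
    cls hX E = bd (seq_shortExact hX) (EtCoh.top X) ((divEquiv hX).symm E) := rfl

theorem cls_eq_zero_iff (E : {x : X // x ≠ genericPoint X} →₀ ℤ) :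
    cls hX E = 0 ↔ DivCls.divCls hX E = 0 :=
  (bd_eq_zero_iff (seq_shortExact hX) (EtCoh.top X) _).trans
    (BdMap.bd_eq_zero_iff (seq_shortExact hX) ((divEquiv hX).symm E)).symm

theorem subsingleton_jGm : Subsingleton (EtCoh.H X (jGm X) 1) := by
  have := Groth.Agent.S0101.result (j X)
  have h2 : Subsingleton (EtCoh.H (Spec (X.presheaf.stalk (genericPoint X)))
      (EtCoh.Gm (Spec (X.presheaf.stalk (genericPoint X)))) 1) :=
    K280.PointHilb.subsingleton_H1_Gm_field X.functionField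
  exact (K280.EdgeEt.HofPush_one_injective (j X) (EtCoh.Gm _)).subsingleton

theorem divCls_surjective : Function.Surjective (DivCls.divCls hX) :=
  DivCls.divCls_surjective hX subsingleton_jGm

theorem cls_surjective : Function.Surjective (cls hX) := by
  have h1 : Subsingleton (Ext ((Z X).obj (EtCoh.top X)) (jGm X) 1) := by
    have := subsingleton_jGm (X := X)
    exact (SiteZU.HEquiv.{u + 1, u + 1} (J := X.smallEtaleTopology) (EtCore.topIsTerminal X)
      (jGm X) 1).symm.toEquiv.subsingleton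
  exact (bd_surjective (seq_shortExact hX) (EtCoh.top X) h1).comp (divEquiv hX).symm.surjective

end cls

end K281.CycCls
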