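import Mathlib.FieldTheory.Finite.Basic
import Mathlib.Dynamics.PeriodicPts.Defs
import Mathlib.RingTheory.RootsOfUnity.PrimitiveRoots
import Mathlib.Data.Nat.GCD.Basic

/-!
# Orbits of the Frobenius on points of a constant field extension: algebra and counting
-/

set_option autoImplicit false
set_option linter.unusedSectionVars false

open FiniteField

namespace K281.CycGcd

theorem exists_orderOf (F : Type*) [Field F] [Finite F] (N : ℕ) (hN : N ∣ Nat.card F - 1) :
    ∃ z : Fˣ, orderOf z = N := by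
  obtain ⟨g, hg⟩ := IsCyclic.exists_ofOrder_eq_natCard (α := Fˣ)
  have h1 : Nat.card Fˣ = Nat.card F - 1 := by
    have := Fintype.ofFinite F
    classical
    rw [Nat.card_eq_fintype_card, Nat.card_eq_fintype_card, Fintype.card_units]
  obtain ⟨m, hm⟩ := hN
  have hm0 : m ≠ 0 := by
    rintro rfl
    rw [mul_zero] at hm
    have : 1 < Nat.card F := Finite.one_lt_card
    omega
  refine ⟨g ^ m, ?_⟩
  rw [orderOf_pow' g hm0, hg, h1, hm, Nat.gcd_eq_right (Dvd.intro_left N rfl), Nat.mul_div_cancel _ (by omega)]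

variable (k : Type*) {k' : Type*} [Field k] [Field k'] [Fintype k] [Finite k'] [Algebra k k']

theorem frob_pow (i : ℕ) (x : k') : (frobeniusAlgHom k k' ^ i : k' →ₐ[k] k') x = x ^ (Fintype.card k ^ i) := by
  rw [AlgHom.coe_pow, coe_frobeniusAlgHom, pow_iterate]

/-- The stabilizer of a point of a constant field extension. -/
theorem gcd_dvd {κ₀ κ : Type*} [Field κ₀] [Field κ] [Algebra k κ₀] [FiniteDimensional k κ₀]
    (ρ : κ₀ →+* κ) (c : k' →+* κ) (ψ : κ →+* κ) (hρ : ψ.comp ρ = ρ) (i : ℕ)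
    (hc : ψ.comp c = c.comp ((frobeniusAlgHom k k' ^ i : k' →ₐ[k] k') : k' →+* k')) :
    Nat.gcd (Module.finrank k k') (Module.finrank k κ₀) ∣ i := by
  set G := Nat.gcd (Module.finrank k k') (Module.finrank k κ₀) with hG
  have : Finite κ₀ := Module.finite_of_finite k
  have hn : 0 < Module.finrank k k' := Module.finrank_pos
  have hG0 : 0 < G := Nat.gcd_pos_of_pos_left _ hn
  have hq : 2 ≤ Fintype.card k := Fintype.one_lt_card
  have hN0 : 0 < Fintype.card k ^ G - 1 := by
    have : Fintype.card k ^ 1 ≤ Fintype.card k ^ G := Nat.pow_le_pow_right (by omega) hG0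
    rw [pow_one] at this
    omega
  have hc1 : Nat.card k' = Fintype.card k ^ Module.finrank k k' := by
    rw [← Nat.card_eq_fintype_card]; exact Module.natCard_eq_pow_finrank
  have hc2 : Nat.card κ₀ = Fintype.card k ^ Module.finrank k κ₀ := by
    rw [← Nat.card_eq_fintype_card]; exact Module.natCard_eq_pow_finrank
  have hdvd : ∀ a, G ∣ a → Fintype.card k ^ G - 1 ∣ Fintype.card k ^ a - 1 := by
    intro a ha
    rw [← Nat.gcd_eq_left_iff_dvd, Nat.pow_sub_one_gcd_pow_sub_one, Nat.gcd_eq_left ha]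
  obtain ⟨z, hz⟩ := exists_orderOf k' (Fintype.card k ^ G - 1)
    (by rw [hc1]; exact hdvd _ (Nat.gcd_dvd_left _ _))
  obtain ⟨y, hy⟩ := exists_orderOf κ₀ (Fintype.card k ^ G - 1)
    (by rw [hc2]; exact hdvd _ (Nat.gcd_dvd_right _ _))
  have hprim : IsPrimitiveRoot (ρ (y : κ₀)) (Fintype.card k ^ G - 1) := by
    have h1 : IsPrimitiveRoot (y : κ₀) (Fintype.card k ^ G - 1) := by
      rw [← hy]
      exact IsPrimitiveRoot.coe_units_iff.2 (IsPrimitiveRoot.orderOf y)
    exact h1.map_of_injective ρ.injective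
  have : NeZero (Fintype.card k ^ G - 1) := ⟨hN0.ne'⟩
  obtain ⟨j, -, hj⟩ := hprim.eq_pow_of_pow_eq_one (ξ := c (z : k')) (by
    rw [← map_pow, ← Units.val_pow_eq_pow_val, ← hz, pow_orderOf_eq_one, Units.val_one, map_one])
  have h2 : ψ (c (z : k')) = c (z : k') := by
    rw [← hj, ← map_pow]
    exact RingHom.congr_fun hρ _
  have h3 : c ((z : k') ^ (Fintype.card k ^ i)) = c (z : k') := by
    rw [← frob_pow k i (z : k'), ← h2]
    exact (RingHom.congr_fun hc (z : k')).symm
  have h4 : z ^ (Fintype.card k ^ i) = z := Units.ext (by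
    rw [Units.val_pow_eq_pow_val]; exact c.injective h3)
  have hqi : 1 ≤ Fintype.card k ^ i := Nat.one_le_pow _ _ (by omega)
  have h5 : z ^ (Fintype.card k ^ i - 1) = 1 := by
    have h6 : z ^ (Fintype.card k ^ i - 1) * z = 1 * z := by
      rw [← pow_succ, Nat.sub_add_cancel hqi, h4, one_mul]
    exact mul_right_cancel h6
  have h6 : Fintype.card k ^ G - 1 ∣ Fintype.card k ^ i - 1 := by
    rw [← hz]
    exact orderOf_dvd_of_pow_eq_one h5
  rw [← Nat.gcd_eq_left_iff_dvd, Nat.pow_sub_one_gcd_pow_sub_one] at h6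
  have h7 : Fintype.card k ^ Nat.gcd G i = Fintype.card k ^ G := by
    have : 1 ≤ Fintype.card k ^ Nat.gcd G i := Nat.one_le_pow _ _ (by omega)
    omega
  have h8 := Nat.pow_right_injective hq h7
  exact Nat.gcd_eq_left_iff_dvd.1 h8

theorem sum_periodic (a : ℕ → ℤ) (d e : ℕ) (ha : ∀ i, a (i + d) = a i) :
    ∑ i ∈ Finset.range (d * e), a i = e * ∑ i ∈ Finset.range d, a i := by
  have ha' : ∀ e i, a (d * e + i) = a i := by
    intro e i
    induction e with
    | zero => simp
    | succ e ih =>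
      rw [← ih, ← ha (d * e + i)]
      congr 1
      ring
  induction e with
  | zero => simp
  | succ e ih =>
    rw [Nat.mul_succ, Finset.sum_range_add, ih]
    rw [Finset.sum_congr rfl fun i _ => ha' e i]
    push_cast
    ring

/-- Number of times an orbit meets a point. -/
theorem sum_ind {α : Type*} (s : α → α) (n : ℕ) (hn : 0 < n) (u v : α) (hv : ∃ i, s^[i] v = u)
    (hs : s^[n] v = v) (ind : α → ℤ) (h1 : ind u = 1) (h0 : ∀ w, w ≠ u → ind w = 0) :
    ∑ i ∈ Finset.range n, ind (s^[i] v) = ((n / Function.minimalPeriod s u : ℕ) : ℤ) := by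
  have hper : v ∈ Function.periodicPts s := ⟨n, hn, hs⟩
  obtain ⟨i₀, hi₀⟩ := hv
  have hd : Function.minimalPeriod s u = Function.minimalPeriod s v := by
    rw [← hi₀]
    exact Function.minimalPeriod_apply_iterate hper i₀
  rw [hd]
  set d := Function.minimalPeriod s v with hdd
  have hd0 : 0 < d := Function.minimalPeriod_pos_of_mem_periodicPts hper
  have hdn : d ∣ n := Function.IsPeriodicPt.minimalPeriod_dvd hs
  obtain ⟨e, rfl⟩ := hdn
  rw [sum_periodic (fun i => ind (s^[i] v)) d e (fun i => by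
    rw [Function.iterate_add_minimalPeriod_eq]), Nat.mul_div_cancel_left _ hd0]
  rw [Finset.sum_eq_single (i₀ % d), Function.iterate_mod_minimalPeriod_eq, hi₀, h1, mul_one]
  · intro i hi hne
    apply h0
    intro h
    apply hne
    rw [Finset.mem_range] at hi
    have h2 : s^[i] v = s^[i₀ % d] v := by rw [h, Function.iterate_mod_minimalPeriod_eq, hi₀]
    exact (Function.iterate_eq_iterate_iff_of_lt_minimalPeriod hi (Nat.mod_lt _ hd0)).1 h2
  · intro h
    exact absurd (Finset.mem_range.2 (Nat.mod_lt _ hd0)) h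

/-- Divisibility. -/
theorem dvd_div (n a d m : ℕ) (hn : 0 < n) (ha : 0 < a) (hdn : d ∣ n) (hd : Nat.gcd n a ∣ d) (hnm : n ∣ m)
    (ham : a ∣ m) : n / d ∣ m / a := by
  obtain ⟨e, rfl⟩ := hdn
  have hd0 : 0 < d := Nat.pos_of_ne_zero fun h => by rw [h, zero_mul] at hn; omega
  rw [Nat.mul_div_cancel_left _ hd0]
  rw [Nat.dvd_div_iff_mul_dvd ham]
  obtain ⟨t, ht⟩ := hd
  have h1 : Nat.lcm (d * e) a ∣ m := Nat.lcm_dvd hnm ham
  have h2 : Nat.gcd (d * e) a * Nat.lcm (d * e) a = d * e * a := Nat.gcd_mul_lcm _ _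
  have hg : 0 < Nat.gcd (d * e) a := Nat.gcd_pos_of_pos_right _ ha
  have h3 : Nat.lcm (d * e) a = t * (a * e) := by
    apply Nat.eq_of_mul_eq_mul_left hg
    rw [h2]
    calc d * e * a = (Nat.gcd (d * e) a * t) * e * a := by rw [← ht]
      _ = _ := by ring
  exact (Dvd.intro_left t h3.symm).trans h1

end K281.CycGcd
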