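import Groth.Agent.Dix.K281.CycBase
import Groth.Agent.Dix.K281.CycGcd
import Groth.Agent.MiscA.WCBridge

/-!
# Fibres of constant field extensions

Transitivity of the Frobenius on the fibres of `X_{k'} ⟶ X` and size of the stabilizers.
-/

set_option autoImplicit false
set_option linter.unusedSectionVars false
universe u

open CategoryTheory CategoryTheory.Limits AlgebraicGeometry Opposite FiniteField

noncomputable section

namespace K281.CycFib

open CycBase

variable {X : Scheme.{u}} (k k' : Type u) [Field k] [Field k'] [Fintype k] [Finite k'] [Algebra k k']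
  (f : X ⟶ Spec (CommRingCat.of k))

/-- the Frobenius on points -/
abbrev sp' : (pullback f (sp k k') : Scheme.{u}) → (pullback f (sp k k') : Scheme.{u}) := sgl k k' f 1

theorem iterate_sp' (i : ℕ) (v : (pullback f (sp k k') : Scheme.{u})) :
    (sp' k k' f)^[i] v = sgl k k' f i v := by
  induction i with
  | zero => rw [sgl_zero]; rfl
  | succ i ih =>
    rw [Function.iterate_succ_apply', ih, ← sgl_add]
    rfl

theorem iterate_finrank (v : (pullback f (sp k k') : Scheme.{u})) :
    (sp' k k' f)^[Module.finrank k k'] v = v := by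
  rw [iterate_sp']
  have h1 : fr k k' (Module.finrank k k') = 𝟙 _ := by
    unfold fr
    rw [CycAlg.pow_finrank]
    exact Spec.map_id _
  have h2 : sgl k k' f (Module.finrank k k') = 𝟙 _ := by
    apply pullback.hom_ext
    · rw [sgl_fst, Category.id_comp]
    · rw [sgl_snd, h1, Category.id_comp, Category.comp_id]
  rw [h2]
  rfl

theorem exists_iterate (u v : (pullback f (sp k k') : Scheme.{u}))
    (h : pullback.fst f (sp k k') v = pullback.fst f (sp k k') u) :
    ∃ i, (sp' k k' f)^[i] v = u := by
  obtain ⟨z, hz1, hz2⟩ := Scheme.Pullback.exists_preimage_pullback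
    (f := pullback.fst f (sp k k')) (g := pullback.fst f (sp k k')) v u h
  obtain ⟨i, W, -, hzW, hW⟩ := exists_open k k' f
    (pullback.fst (pullback.fst f (sp k k')) (pullback.fst f (sp k k')))
    (pullback.snd (pullback.fst f (sp k k')) (pullback.fst f (sp k k'))) pullback.condition z
  refine ⟨i, ?_⟩
  rw [iterate_sp', ← hz1, ← hz2]
  have h1 := congrArg (fun r => r (⟨z, hzW⟩ : W)) hW
  exact h1.symm

/-- The stabilizer of a point. -/
theorem gcd_dvd_of_fixed (u : (pullback f (sp k k') : Scheme.{u})) (i : ℕ) (hi : sgl k k' f i u = u)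
    (x : X) (hx : pullback.fst f (sp k k') u = x)
    (hfin : @FiniteDimensional k (X.residueField x) _ _ (Groth.Agent.MiscA.WCBridge.resHom f x).toAlgebra.toModule) :
    Nat.gcd (Module.finrank k k')
      (@Module.finrank k (X.residueField x) _ _ (Groth.Agent.MiscA.WCBridge.resHom f x).toAlgebra.toModule) ∣ i := by
  subst hx
  let Y : Scheme.{u} := pullback f (sp k k')
  let p : Y ⟶ X := pullback.fst f (sp k k')
  let s : Y ⟶ Y := sgl k k' f i
  let ρ : X.residueField (p u) ⟶ Y.residueField u := p.residueFieldMap u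
  have hi' : s u = u := hi
  let ψ : Y.residueField u ⟶ Y.residueField u := (Y.residueFieldCongr hi').inv ≫ s.residueFieldMap u
  let c : CommRingCat.of k' ⟶ Y.residueField u :=
    Spec.preimage (Y.fromSpecResidueField u ≫ pullback.snd f (sp k k'))
  have hc : Spec.map c = Y.fromSpecResidueField u ≫ pullback.snd f (sp k k') := Spec.map_preimage _
  have hψ : Spec.map ψ ≫ Y.fromSpecResidueField u = Y.fromSpecResidueField u ≫ s := by
    have h1 : Spec.map (Y.residueFieldCongr hi').inv ≫ Y.fromSpecResidueField u =
        Y.fromSpecResidueField (s u) := by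
      rw [Scheme.residueFieldCongr_inv]
      exact Scheme.residueFieldCongr_fromSpecResidueField _
    rw [Spec.map_comp, Category.assoc, h1]
    exact Scheme.Hom.SpecMap_residueFieldMap_fromSpecResidueField s u
  have hρ : Spec.map ρ ≫ X.fromSpecResidueField (p u) = Y.fromSpecResidueField u ≫ p :=
    Scheme.Hom.SpecMap_residueFieldMap_fromSpecResidueField p u
  have h1 : ρ ≫ ψ = ρ := by
    rw [← Spec.map_inj, Spec.map_comp, ← cancel_mono (X.fromSpecResidueField (p u)), Category.assoc, hρ,
      reassoc_of% hψ, sgl_fst]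
  have h2 : c ≫ ψ = CommRingCat.ofHom ((frobeniusAlgHom k k' ^ i : k' →ₐ[k] k') : k' →+* k') ≫ c := by
    rw [← Spec.map_inj]
    refine (Spec.map_comp _ _).trans ?_
    refine Eq.trans ?_ (Spec.map_comp _ _).symm
    rw [hc, reassoc_of% hψ, Category.assoc, sgl_snd]
    rfl
  let := (Groth.Agent.MiscA.WCBridge.resHom f (p u)).toAlgebra
  exact CycGcd.gcd_dvd k (k' := k') ρ.hom c.hom ψ.hom (congrArg (fun z => z.hom) h1) i
    (congrArg (fun z => z.hom) h2)

theorem gcd_dvd_minimalPeriod (u : (pullback f (sp k k') : Scheme.{u}))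
    (x : X) (hx : pullback.fst f (sp k k') u = x)
    (hfin : @FiniteDimensional k (X.residueField x) _ _ (Groth.Agent.MiscA.WCBridge.resHom f x).toAlgebra.toModule) :
    Nat.gcd (Module.finrank k k')
      (@Module.finrank k (X.residueField x) _ _ (Groth.Agent.MiscA.WCBridge.resHom f x).toAlgebra.toModule) ∣
      Function.minimalPeriod (sp' k k' f) u := by
  refine gcd_dvd_of_fixed k k' f u _ ?_ x hx hfin
  rw [← iterate_sp']
  exact Function.iterate_minimalPeriod

theorem minimalPeriod_dvd (u : (pullback f (sp k k') : Scheme.{u})) :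
    Function.minimalPeriod (sp' k k' f) u ∣ Module.finrank k k' :=
  Function.IsPeriodicPt.minimalPeriod_dvd (iterate_finrank k k' f u)

/-- The norm of a point. -/
theorem sum_ind (u v : (pullback f (sp k k') : Scheme.{u}))
    (h : pullback.fst f (sp k k') v = pullback.fst f (sp k k') u)
    (ind : (pullback f (sp k k') : Scheme.{u}) → ℤ) (h1 : ind u = 1) (h0 : ∀ w, w ≠ u → ind w = 0) :
    ∑ i ∈ Finset.range (Module.finrank k k'), ind (sgl k k' f i v) =
      ((Module.finrank k k' / Function.minimalPeriod (sp' k k' f) u : ℕ) : ℤ) := by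
  rw [← CycGcd.sum_ind (sp' k k' f) _ Module.finrank_pos u v (exists_iterate k k' f u v h)
    (iterate_finrank k k' f v) ind h1 h0]
  exact Finset.sum_congr rfl fun i _ => by rw [iterate_sp']

theorem sum_ind_zero (u v : (pullback f (sp k k') : Scheme.{u}))
    (h : pullback.fst f (sp k k') v ≠ pullback.fst f (sp k k') u)
    (ind : (pullback f (sp k k') : Scheme.{u}) → ℤ) (h0 : ∀ w, w ≠ u → ind w = 0) :
    ∑ i ∈ Finset.range (Module.finrank k k'), ind (sgl k k' f i v) = 0 := by
  refine Finset.sum_eq_zero fun i _ => h0 _ fun hi => h ?_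
  rw [← hi]
  have h2 := congrArg (fun r => r v) (sgl_fst k k' f i)
  exact h2.symm

end K281.CycFib
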