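import Groth.Agent.CurvesA.DivTop
import Groth.Agent.Etbase.EtGlue
import Groth.Agent.Dix.K281.CycFib
import Mathlib.AlgebraicGeometry.Morphisms.QuasiFinite

/-!
# Sections of the sheaf of divisors over a finite étale covering
-/

set_option autoImplicit false
set_option linter.unusedSectionVars false
universe u

open CategoryTheory CategoryTheory.Limits AlgebraicGeometry Opposite TopologicalSpace FiniteField
open Groth.Agent.CurvesA Groth.Agent.CurvesA.DivPoint Groth.Agent.CurvesA.PtFun Groth.Agent.CurvesA.GmFunct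
  Groth.Agent.CurvesA.OrdMap Groth.Agent.CurvesA.DivSheaf Groth.Agent.CurvesA.DivTop
open Groth.Agent.Etbase

noncomputable section

namespace K281.CycDiv

section fibre

variable {X Y : Scheme.{u}} (f : Y ⟶ X) [LocallyQuasiFinite f] (u : Y)

theorem exists_open_fibre : ∃ W : Y.Opens, u ∈ W ∧ ∀ w ∈ W, f w = f u → w = u := by
  have h1 := f.isDiscrete_preimage_singleton (f u)
  obtain ⟨W, hW, hWu⟩ := isOpen_inter_eq_singleton_of_mem_discrete h1 (x := u) rfl
  have hu : u ∈ W ∩ (f ⁻¹' {f u}) := by rw [hWu]; rfl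
  refine ⟨⟨W, hW⟩, hu.1, fun w hw hwu => ?_⟩
  have h2 : w ∈ W ∩ (f ⁻¹' {f u}) := ⟨hw, hwu⟩
  rw [hWu] at h2
  exact h2

theorem isClosed_pt (hx : IsClosed ({f u} : Set X)) : IsClosed ({u} : Set Y) := by
  have h1 : ({u} : Set Y) = (f ⁻¹' {f u}) ∩ (⋃ w : {w : Y // f w = f u ∧ w ≠ u},
      ((exists_open_fibre f w.1).choose : Set Y))ᶜ := by
    ext z
    constructor
    · rintro rfl
      refine ⟨rfl, ?_⟩
      rintro ⟨_, ⟨w, rfl⟩, hz⟩
      have h2 := (exists_open_fibre f w.1).choose_spec.2 z hz w.2.1.symm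
      exact w.2.2 h2.symm
    · rintro ⟨hz, hz'⟩
      by_contra hne
      apply hz'
      rw [Set.mem_iUnion]
      exact ⟨⟨z, hz, hne⟩, (exists_open_fibre f z).choose_spec.1⟩
  rw [h1]
  refine (hx.preimage f.continuous).inter (isOpen_iUnion fun w => ?_).isClosed_compl
  exact (exists_open_fibre f w.1).choose.2

end fibre

variable {X : Scheme.{u}} [IsIntegral X] [IsLocallyNoetherian X] (hX : IsDed X)

/-- values of a divisor on an étale scheme -/
abbrev vals (U : X.Etale) (d : EtCoh.sect (D X) U) : Pts X (ngp X) U → ℤ :=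
  ULift.down (((ι hX).hom.app (op U)).hom d)

theorem vals_injective (U : X.Etale) : Function.Injective (vals hX U) := by
  intro a b hab
  have := mono_ι hX
  exact SheafKer.injective_of_mono (ι hX) U (ULift.ext _ _ hab)

theorem vals_add (U : X.Etale) (a b : EtCoh.sect (D X) U) :
    vals hX U (a + b) = vals hX U a + vals hX U b := by
  unfold vals
  rw [map_add]
  rfl

/-- values as a homomorphism -/
def valsHom (U : X.Etale) : EtCoh.sect (D X) U →+ (Pts X (ngp X) U → ℤ) where
  toFun := vals hX U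
  map_zero' := by
    unfold vals
    rw [map_zero]
    rfl
  map_add' := vals_add hX U

theorem vals_map {U V : X.Etale} (g : V ⟶ U) (d : EtCoh.sect (D X) U) (v : Pts X (ngp X) V) :
    vals hX V ((D X).obj.map g.op d) v = vals hX U d (Pts.map g v) := by
  unfold vals
  have h := SheafKer.hom_app_naturality (ι hX) g d
  exact congrFun (congrArg ULift.down h) v

/-- The divisor of a point on an étale `X`-scheme. -/
theorem exists_single_et (U : X.Etale) [LocallyQuasiFinite U.hom] (u : U.left)
    (hu : U.hom u ≠ genericPoint X) :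
    ∃ d : EtCoh.sect (D X) U, vals hX U d = fun v => ind u v.1 := by
  have hmono := mono_ι hX
  obtain ⟨dx, hdx⟩ := exists_single hX (U.hom u) hu
  obtain ⟨s, hs⟩ := exists_of_points (ι hX) U (ULift.up (fun v => ind u v.1)) (fun w => by
    by_cases hwu : w = u
    · subst hwu
      obtain ⟨W, hwW, hW⟩ := exists_open_fibre U.hom w
      refine ⟨EtGlue.opn U W, EtGlue.opnι U W, (⟨w, hwW⟩ : W), rfl,
        (D X).obj.map ((EtCore.topIsTerminal X).from (EtGlue.opn U W)).op dx, ?_⟩
      apply ULift.ext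
      funext z
      refine (vals_map hX ((EtCore.topIsTerminal X).from (EtGlue.opn U W)) dx z).trans ?_
      refine (congrFun (congrArg ULift.down hdx) _).trans ?_
      change ind (U.hom w) (((EtCore.topIsTerminal X).from (EtGlue.opn U W)).left z.1) = ind w (W.ι z.1)
      have h1 : ((EtCore.topIsTerminal X).from (EtGlue.opn U W)).left z.1 = U.hom (W.ι z.1) :=
        hom_apply ((EtCore.topIsTerminal X).from (EtGlue.opn U W)) z.1
      rw [h1]
      by_cases hz : W.ι z.1 = w
      · rw [hz, ind_of_eq rfl, ind_of_eq rfl]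
      · rw [ind_of_ne hz, ind_of_ne fun h => hz (hW _ z.1.2 h)]
    · have hcl := isClosed_pt U.hom u (OrdLocal.isClosed_singleton hX (U.hom u) hu)
      let W : U.left.Opens := ⟨({u} : Set U.left)ᶜ, hcl.isOpen_compl⟩
      refine ⟨EtGlue.opn U W, EtGlue.opnι U W, (⟨w, hwu⟩ : W), rfl, 0, ?_⟩
      rw [map_zero]
      apply ULift.ext
      funext z
      change 0 = ind u (W.ι z.1)
      rw [ind_of_ne]
      exact z.1.2)
  exact ⟨s, congrArg ULift.down hs⟩

end K281.CycDiv
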