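import Mathlib.GroupTheory.Index
import Mathlib.GroupTheory.OrderOfElement
import Mathlib.Algebra.BigOperators.Intervals
import Mathlib.Algebra.Ring.GeomSum
import Mathlib.Algebra.Group.Subgroup.Finite
import Mathlib.GroupTheory.Torsion

/-!
# Cyclic actions on finitely generated groups of rank one

`P` an abelian group with `d : P → ℤ` with finite kernel, `s : P → P` with `s^n = 1` and norm
`N = ∑_{i<n} s^i`. If there is an invariant element of nonzero degree and each invariant element of degree zero is a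
norm, then each element killed by `N` is of the form `s z - z`.
-/

set_option autoImplicit false

namespace K281.CycMod

/-- the norm -/
def Nm {P : Type*} [AddCommGroup P] (s : AddMonoid.End P) (n : ℕ) : AddMonoid.End P :=
  ∑ i ∈ Finset.range n, s ^ i

variable {P : Type*} [AddCommGroup P]

theorem sub_one_mul_Nm (s : AddMonoid.End P) (n : ℕ) : (s - 1) * Nm s n = s ^ n - 1 :=
  mul_geom_sum s n

theorem Nm_mul_sub_one (s : AddMonoid.End P) (n : ℕ) : Nm s n * (s - 1) = s ^ n - 1 :=
  geom_sum_mul s n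

/-- Herbrand quotient argument for finite groups. -/
theorem exists_of_finite [Finite P] (s : AddMonoid.End P) (n : ℕ) (hs : s ^ n = 1)
    (h : ∀ c : P, s c = c → ∃ z, Nm s n z = c) (y : P) (hy : Nm s n y = 0) : ∃ z, s z - z = y := by
  let a : P →+ P := (s - 1 : AddMonoid.End P)
  let b : P →+ P := Nm s n
  have ha : ∀ z, a z = s z - z := fun z => rfl
  have hb : ∀ z, b z = Nm s n z := fun z => rfl
  have hab : ∀ z, a (b z) = 0 := by
    intro z
    have := DFunLike.congr_fun (sub_one_mul_Nm s n) z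
    rw [hs, sub_self] at this
    exact this
  have hba : ∀ z, b (a z) = 0 := by
    intro z
    have := DFunLike.congr_fun (Nm_mul_sub_one s n) z
    rw [hs, sub_self] at this
    exact this
  have h1 : b.range = a.ker := by
    ext c
    constructor
    · rintro ⟨z, rfl⟩
      exact hab z
    · intro hc
      have hc' : s c - c = 0 := hc
      obtain ⟨z, hz⟩ := h c (sub_eq_zero.1 hc')
      exact ⟨z, hz⟩
  have h2 : a.range ≤ b.ker := by
    rintro _ ⟨z, rfl⟩
    exact hba z
  have e1 : Nat.card a.ker * Nat.card a.range = Nat.card P := by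
    rw [← AddSubgroup.index_ker]
    exact AddSubgroup.card_mul_index _
  have e2 : Nat.card b.ker * Nat.card b.range = Nat.card P := by
    rw [← AddSubgroup.index_ker]
    exact AddSubgroup.card_mul_index _
  have h3 : Nat.card b.ker ≤ Nat.card a.range := by
    rw [h1] at e2
    have h4 : 0 < Nat.card a.ker := Nat.card_pos
    have h5 : Nat.card a.ker * Nat.card b.ker = Nat.card a.ker * Nat.card a.range := by
      rw [e1, mul_comm, e2]
    exact (Nat.eq_of_mul_eq_mul_left h4 h5).le
  have h6 : a.range = b.ker := AddSubgroup.eq_of_le_of_card_ge h2 h3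
  have h7 : y ∈ a.range := by
    rw [h6]
    exact hy
  obtain ⟨z, hz⟩ := h7
  exact ⟨z, hz⟩

variable (d : P →+ ℤ) (hd : Finite d.ker) (s : AddMonoid.End P) (n : ℕ) (hn : 0 < n)
  (hs : s ^ n = 1) (c₀ : P) (hc₀ : s c₀ = c₀) (hdc₀ : d c₀ ≠ 0)

include hd in
theorem d_eq_zero_iff (c : P) : d c = 0 ↔ ∃ t : ℕ, 0 < t ∧ t • c = 0 := by
  constructor
  · intro h
    have hf : IsOfFinAddOrder (⟨c, h⟩ : d.ker) := isOfFinAddOrder_of_finite _
    obtain ⟨t, ht, h1⟩ := hf.exists_nsmul_eq_zero
    exact ⟨t, ht, congrArg Subtype.val h1⟩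
  · rintro ⟨t, ht, h⟩
    have h1 := congrArg d h
    rw [map_nsmul, map_zero, nsmul_eq_mul, mul_eq_zero] at h1
    rcases h1 with h1 | h1
    · exact absurd (by exact_mod_cast h1) ht.ne'
    · exact h1

include hd hc₀ hdc₀ in
theorem d_s (c : P) : d (s c) = d c := by
  have h1 : d (d c₀ • c - d c • c₀) = 0 := by
    rw [map_sub, map_zsmul, map_zsmul, smul_eq_mul, smul_eq_mul, mul_comm, sub_self]
  obtain ⟨t, ht, h2⟩ := (d_eq_zero_iff d hd _).1 h1
  have h3 : d (s (d c₀ • c - d c • c₀)) = 0 :=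
    (d_eq_zero_iff d hd _).2 ⟨t, ht, by rw [← map_nsmul, h2, map_zero]⟩
  rw [map_sub, map_zsmul, map_zsmul, hc₀, map_sub, map_zsmul, map_zsmul, smul_eq_mul, smul_eq_mul,
    mul_comm (d c) (d c₀), ← mul_sub, mul_eq_zero, sub_eq_zero] at h3
  exact h3.resolve_left hdc₀

include hd hc₀ hdc₀ in
theorem d_pow (i : ℕ) (c : P) : d ((s ^ i) c) = d c := by
  induction i with
  | zero => rfl
  | succ i ih =>
    rw [pow_succ']
    exact (d_s d hd s c₀ hc₀ hdc₀ _).trans ih

include hd hc₀ hdc₀ in
theorem d_Nm (c : P) : d (Nm s n c) = n * d c := by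
  have h1 : Nm s n c = ∑ i ∈ Finset.range n, (s ^ i) c := by
    rw [Nm]
    exact AddMonoidHom.finsetSum_apply _ _ _
  rw [h1, map_sum, Finset.sum_congr rfl fun i _ => d_pow d hd s c₀ hc₀ hdc₀ i c, Finset.sum_const,
    Finset.card_range, nsmul_eq_mul]

include hd hn hs hc₀ hdc₀ in
/-- **Vanishing of `Ĥ^{-1}`.** -/
theorem exists_sub (h : ∀ c : P, s c = c → d c = 0 → ∃ z, Nm s n z = c) (y : P)
    (hy : Nm s n y = 0) : ∃ z, s z - z = y := by
  have hn' : (n : ℤ) ≠ 0 := by exact_mod_cast hn.ne'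
  have hmem : ∀ c, d (Nm s n c) = 0 → d c = 0 := by
    intro c hc
    rw [d_Nm d hd s n c₀ hc₀ hdc₀] at hc
    exact (mul_eq_zero.1 hc).resolve_left hn'
  let sK : AddMonoid.End d.ker :=
    (s.comp d.ker.subtype).codRestrict d.ker (fun c => by
      have := d_s d hd s c₀ hc₀ hdc₀ c.1
      exact this.trans c.2)
  have hsK : ∀ c : d.ker, ((sK c : d.ker) : P) = s c.1 := fun c => rfl
  have hsKp : ∀ (i : ℕ) (c : d.ker), (((sK ^ i) c : d.ker) : P) = (s ^ i) c.1 := by
    intro i
    induction i with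
    | zero => intro c; rfl
    | succ i ih =>
      intro c
      rw [pow_succ', pow_succ']
      exact congrArg s (ih c)
  have hNK : ∀ c : d.ker, ((Nm sK n c : d.ker) : P) = Nm s n c.1 := by
    intro c
    have h1 : Nm sK n c = ∑ i ∈ Finset.range n, (sK ^ i) c := by
      rw [Nm]
      exact AddMonoidHom.finsetSum_apply _ _ _
    have h2 : Nm s n c.1 = ∑ i ∈ Finset.range n, (s ^ i) c.1 := by
      rw [Nm]
      exact AddMonoidHom.finsetSum_apply _ _ _
    rw [h1, h2, AddSubgroup.val_finsetSum]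
    exact Finset.sum_congr rfl fun i _ => hsKp i c
  have hsKn : sK ^ n = 1 := by
    refine AddMonoidHom.ext fun c => Subtype.ext ?_
    refine (hsKp n c).trans ?_
    rw [hs]
    rfl
  have hyK : d y = 0 := hmem y (by rw [hy, map_zero])
  obtain ⟨z, hz⟩ := exists_of_finite sK n hsKn (fun c hc => by
    obtain ⟨z, hz⟩ := h c.1 (congrArg Subtype.val hc) c.2
    have hz0 : d z = 0 := hmem z (by rw [hz]; exact c.2)
    exact ⟨⟨z, hz0⟩, Subtype.ext ((hNK _).trans hz)⟩) ⟨y, hyK⟩ (Subtype.ext ((hNK _).trans hy))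
  exact ⟨z.1, congrArg Subtype.val hz⟩

end K281.CycMod
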