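import Mathlib.Algebra.Homology.DerivedCategory.Ext.ExactSequences
import Mathlib.CategoryTheory.Abelian.Exact
import Groth.Agent.Dix.K281.CycMod

/-!
# Classes of degree two killed by a cyclic covering

In an abelian category, `s : Z ⟶ Z`, `φ : Z ⟶ R` with `Z --(s-1)--> Z --φ--> R --> 0` and
`Z --N--> Z --(s-1)--> Z` exact. Under norm conditions on `Hom(Z, G)` and `Ext¹(Z, G)`,
the map `Ext²(R, G) ⟶ Ext²(Z, G)` is injective.
-/

set_option autoImplicit false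
set_option linter.unusedSectionVars false
universe w v u

open CategoryTheory CategoryTheory.Limits CategoryTheory.Abelian

namespace K281.CycExt

variable {C : Type u} [Category.{v} C] [Abelian C] [HasExt.{w} C]

section One

variable {Z R : C} (s N : Z ⟶ Z) (φ : Z ⟶ R) [Epi φ]
  (w₁ : (s - 𝟙 Z) ≫ φ = 0) (h₁ : (ShortComplex.mk (s - 𝟙 Z) φ w₁).Exact)
  (w₂ : N ≫ (s - 𝟙 Z) = 0) (h₂ : (ShortComplex.mk N (s - 𝟙 Z) w₂).Exact)
  (w₃ : (s - 𝟙 Z) ≫ N = 0)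

/-- the projection to the augmentation kernel -/
noncomputable def p : Z ⟶ kernel φ := kernel.lift φ (s - 𝟙 Z) w₁

theorem p_ι : p s φ w₁ ≫ kernel.ι φ = s - 𝟙 Z := kernel.lift_ι _ _ _

include h₁ in
theorem epi_p : Epi (p s φ w₁) := (ShortComplex.exact_iff_epi_kernel_lift _).1 h₁

theorem ses₁ : (ShortComplex.mk (kernel.ι φ) φ (kernel.condition φ)).ShortExact :=
  { exact := ShortComplex.exact_of_f_is_kernel _ (kernelIsKernel φ) }

include h₁ in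
theorem ses₂ : (ShortComplex.mk (kernel.ι (p s φ w₁)) (p s φ w₁) (kernel.condition _)).ShortExact :=
  have := epi_p s φ w₁ h₁
  { exact := ShortComplex.exact_of_f_is_kernel _ (kernelIsKernel _) }

include w₂ in
theorem N_p : N ≫ p s φ w₁ = 0 := by
  rw [← cancel_mono (kernel.ι φ), Category.assoc, p_ι, zero_comp]
  exact w₂

/-- the factorization of the norm -/
noncomputable def q : Z ⟶ kernel (p s φ w₁) := kernel.lift _ N (N_p s N φ w₁ w₂)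

theorem q_ι : q s N φ w₁ w₂ ≫ kernel.ι (p s φ w₁) = N := kernel.lift_ι _ _ _

include h₂ in
theorem epi_q : Epi (q s N φ w₁ w₂) := by
  have h3 : (ShortComplex.mk N (p s φ w₁) (N_p s N φ w₁ w₂)).Exact := by
    let ψ : ShortComplex.mk N (p s φ w₁) (N_p s N φ w₁ w₂) ⟶ ShortComplex.mk N (s - 𝟙 Z) w₂ :=
      { τ₁ := 𝟙 _, τ₂ := 𝟙 _, τ₃ := kernel.ι φ
        comm₁₂ := by simp
        comm₂₃ := by
          change 𝟙 Z ≫ (s - 𝟙 Z) = p s φ w₁ ≫ kernel.ι φ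
          rw [p_ι, Category.id_comp] }
    have : Epi ψ.τ₁ := inferInstanceAs (Epi (𝟙 Z))
    have : IsIso ψ.τ₂ := inferInstanceAs (IsIso (𝟙 Z))
    have : Mono ψ.τ₃ := inferInstanceAs (Mono (kernel.ι φ))
    exact (ShortComplex.exact_iff_of_epi_of_isIso_of_mono ψ).2 h₂
  exact (ShortComplex.exact_iff_epi_kernel_lift _).1 h3

variable (G : C) (hN : ∀ u : Z ⟶ G, (s - 𝟙 Z) ≫ u = 0 → ∃ w : Z ⟶ G, N ≫ w = u)

include h₁ h₂ w₃ hN in
theorem injective_p (x : Ext.{w} (kernel φ) G 1)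
    (hx : (Ext.mk₀ (p s φ w₁)).comp x (zero_add 1) = 0) : x = 0 := by
  obtain ⟨y, rfl⟩ := Ext.contravariant_sequence_exact₃ (ses₂ s φ w₁ h₁) G x hx (rfl : 1 + 0 = 1)
  obtain ⟨h, rfl⟩ := (Ext.mk₀_bijective _ _).2 y
  have := epi_q s N φ w₁ w₂ h₂
  obtain ⟨w, hw⟩ := hN (q s N φ w₁ w₂ ≫ h) (by
    have h3 : (s - 𝟙 Z) ≫ q s N φ w₁ w₂ = 0 := by
      rw [← cancel_mono (kernel.ι (p s φ w₁)), Category.assoc, q_ι, zero_comp, w₃]
    rw [← Category.assoc, h3, zero_comp])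
  have h4 : kernel.ι (p s φ w₁) ≫ w = h := by
    rw [← cancel_epi (q s N φ w₁ w₂), ← Category.assoc, q_ι, hw]
  rw [← h4, ← Ext.mk₀_comp_mk₀]
  exact (ses₂ s φ w₁ h₁).extClass_comp_assoc _

include h₁ h₂ w₃ hN in
/-- Invariant classes of degree one descend. -/
theorem exists_of_invariant (c : Ext.{w} Z G 1) (hc : (Ext.mk₀ (s - 𝟙 Z)).comp c (zero_add 1) = 0) :
    ∃ c' : Ext.{w} R G 1, (Ext.mk₀ φ).comp c' (zero_add 1) = c := by
  have h3 : (Ext.mk₀ (kernel.ι φ)).comp c (zero_add 1) = 0 := by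
    apply injective_p s N φ w₁ h₁ w₂ h₂ w₃ G hN
    rw [Ext.mk₀_comp_mk₀_assoc, p_ι]
    exact hc
  exact Ext.contravariant_sequence_exact₂ (ses₁ φ) G c h3

include h₁ h₂ w₃ hN in
/-- **Injectivity in degree two.** -/
theorem eq_zero_two
    (hP : ∀ y : Ext.{w} Z G 1, (Ext.mk₀ N).comp y (zero_add 1) = 0 →
      ∃ z : Ext.{w} Z G 1, (Ext.mk₀ (s - 𝟙 Z)).comp z (zero_add 1) = y)
    (α : Ext.{w} R G 2) (hα : (Ext.mk₀ φ).comp α (zero_add 2) = 0) : α = 0 := by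
  obtain ⟨x, rfl⟩ := Ext.contravariant_sequence_exact₃ (ses₁ φ) G α hα (rfl : 1 + 1 = 2)
  obtain ⟨z, hz⟩ := hP ((Ext.mk₀ (p s φ w₁)).comp x (zero_add 1)) (by
    rw [Ext.mk₀_comp_mk₀_assoc, N_p s N φ w₁ w₂, Ext.mk₀_zero, Ext.zero_comp])
  have h3 : x = (Ext.mk₀ (kernel.ι φ)).comp z (zero_add 1) := by
    rw [← sub_eq_zero]
    apply injective_p s N φ w₁ h₁ w₂ h₂ w₃ G hN
    rw [sub_eq_add_neg, Ext.comp_add, Ext.comp_neg, Ext.mk₀_comp_mk₀_assoc, p_ι, hz,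
      ← sub_eq_add_neg, sub_self]
  rw [h3]
  exact (ses₁ φ).extClass_comp_assoc _

include h₁ w₃ in
/-- The norm followed by pullback. -/
theorem exists_nu (n : ℕ) (hNφ : N ≫ φ = n • φ) : ∃ ν : R ⟶ Z, φ ≫ ν = N ∧ ν ≫ φ = n • 𝟙 R := by
  have h3 := h₁.gIsCokernel
  let ν : R ⟶ Z := h3.desc (CokernelCofork.ofπ N w₃)
  have hν : φ ≫ ν = N := h3.fac (CokernelCofork.ofπ N w₃) WalkingParallelPair.one
  refine ⟨ν, hν, ?_⟩
  rw [← cancel_epi φ, ← Category.assoc, hν, hNφ]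
  simp

include h₁ w₃ in
/-- Pullback along `φ` kills only torsion. -/
theorem nsmul_eq_zero (n : ℕ) (hNφ : N ≫ φ = n • φ) (m : ℕ) (c' : Ext.{w} R G m) (t : ℕ)
    (h : t • (Ext.mk₀ φ).comp c' (zero_add m) = 0) : (t * n) • c' = 0 := by
  obtain ⟨ν, -, hν⟩ := exists_nu s N φ w₁ h₁ w₃ n hNφ
  have h4 : ∀ n : ℕ, (Ext.mk₀ (n • 𝟙 R) : Ext.{w} R R 0).comp c' (zero_add m) = n • c' := by
    intro n
    induction n with
    | zero => simp
    | succ n ih => rw [succ_nsmul, Ext.mk₀_add, Ext.add_comp, ih, Ext.mk₀_id_comp, succ_nsmul]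
  have h3 : (Ext.mk₀ ν).comp ((Ext.mk₀ φ).comp c' (zero_add m)) (zero_add m) = n • c' := by
    rw [Ext.mk₀_comp_mk₀_assoc, hν, h4]
  rw [mul_smul, ← h3]
  have h5 := ((Ext.mk₀ ν).precomp G (zero_add m)).map_nsmul t ((Ext.mk₀ φ).comp c' (zero_add m))
  refine h5.symm.trans ?_
  rw [h, map_zero]

end One

section Action

variable {Z : C} (G : C) (m : ℕ)

/-- endomorphisms act on `Ext^m(Z, G)` -/
noncomputable def T : (Z ⟶ Z) →+ AddMonoid.End (Ext.{w} Z G m) where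
  toFun f := (Ext.mk₀ f).precomp G (zero_add m)
  map_zero' := by
    ext x
    change (Ext.mk₀ (0 : Z ⟶ Z)).comp x (zero_add m) = 0
    rw [Ext.mk₀_zero, Ext.zero_comp]
  map_add' f g := by
    ext x
    change (Ext.mk₀ (f + g)).comp x (zero_add m) =
      (Ext.mk₀ f).comp x (zero_add m) + (Ext.mk₀ g).comp x (zero_add m)
    rw [Ext.mk₀_add, Ext.add_comp]

theorem T_apply (f : Z ⟶ Z) (x : Ext.{w} Z G m) : T G m f x = (Ext.mk₀ f).comp x (zero_add m) := rfl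

theorem T_id : T.{w} G m (𝟙 Z) = 1 := by
  ext x
  rw [T_apply, Ext.mk₀_id_comp]
  rfl

theorem T_comp (f g : Z ⟶ Z) : T.{w} G m (f ≫ g) = T G m f * T G m g := by
  ext x
  change _ = T G m f (T G m g x)
  rw [T_apply, T_apply, T_apply, Ext.mk₀_comp_mk₀_assoc]

/-- powers -/
noncomputable def pw (s : Z ⟶ Z) : ℕ → (Z ⟶ Z)
  | 0 => 𝟙 Z
  | i + 1 => s ≫ pw s i

theorem T_pw (s : Z ⟶ Z) (i : ℕ) : T.{w} G m (pw s i) = (T G m s) ^ i := by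
  induction i with
  | zero => rw [pw, T_id, pow_zero]
  | succ i ih => rw [pw, T_comp, ih, pow_succ']

/-- the norm -/
noncomputable def Ns (s : Z ⟶ Z) (n : ℕ) : Z ⟶ Z := ∑ i ∈ Finset.range n, pw s i

theorem T_Ns (s : Z ⟶ Z) (n : ℕ) : T.{w} G m (Ns s n) = CycMod.Nm (T G m s) n := by
  rw [Ns, map_sum, CycMod.Nm]
  exact Finset.sum_congr rfl fun i _ => T_pw G m s i

end Action

section Final

variable {Z R : C} (s : Z ⟶ Z) (φ : Z ⟶ R) [Epi φ] (n : ℕ) (hn : 0 < n)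
  (w₁ : (s - 𝟙 Z) ≫ φ = 0) (h₁ : (ShortComplex.mk (s - 𝟙 Z) φ w₁).Exact)
  (w₂ : Ns s n ≫ (s - 𝟙 Z) = 0) (h₂ : (ShortComplex.mk (Ns s n) (s - 𝟙 Z) w₂).Exact)
  (w₃ : (s - 𝟙 Z) ≫ Ns s n = 0) (hs : pw s n = 𝟙 Z)
  (G : C) (hN : ∀ u : Z ⟶ G, s ≫ u = u → ∃ w : Z ⟶ G, Ns s n ≫ w = u)
  (d : Ext.{w} Z G 1 →+ ℤ) (hd : Finite d.ker)
  (c₀ : Ext.{w} R G 1) (hc₀ : ∀ t : ℕ, t • c₀ = 0 → t = 0)
  (htors : ∀ c' : Ext.{w} R G 1, (∃ t : ℕ, 0 < t ∧ t • c' = 0) →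
    ∃ z : Ext.{w} Z G 1, (Ext.mk₀ (Ns s n)).comp z (zero_add 1) = (Ext.mk₀ φ).comp c' (zero_add 1))

theorem pw_comp (hφ : s ≫ φ = φ) (i : ℕ) : pw s i ≫ φ = φ := by
  induction i with
  | zero => rw [pw, Category.id_comp]
  | succ i ih => rw [pw, Category.assoc, ih, hφ]

theorem Ns_comp (hφ : s ≫ φ = φ) : Ns s n ≫ φ = n • φ := by
  rw [Ns, Preadditive.sum_comp, Finset.sum_congr rfl fun i _ => pw_comp s φ hφ i, Finset.sum_const,
    Finset.card_range]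

include hn h₁ h₂ w₃ hs hN hd hc₀ htors in
/-- **Degree two classes killed by a cyclic covering vanish.** -/
theorem main (α : Ext.{w} R G 2) (hα : (Ext.mk₀ φ).comp α (zero_add 2) = 0) : α = 0 := by
  have hφ : s ≫ φ = φ := by
    rw [Preadditive.sub_comp, Category.id_comp, sub_eq_zero] at w₁
    exact w₁
  have hNφ := Ns_comp s φ n hφ
  have hN' : ∀ u : Z ⟶ G, (s - 𝟙 Z) ≫ u = 0 → ∃ w : Z ⟶ G, Ns s n ≫ w = u := fun u hu =>
    hN u (by rwa [Preadditive.sub_comp, Category.id_comp, sub_eq_zero] at hu)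
  let σ : AddMonoid.End (Ext.{w} Z G 1) := T G 1 s
  have hσn : σ ^ n = 1 := by
    change (T G 1 s) ^ n = 1
    rw [← T_pw, hs, T_id]
  have hTs : ∀ z, (Ext.mk₀ (s - 𝟙 Z)).comp z (zero_add 1) = σ z - z := by
    intro z
    have h3 : T G 1 (s - 𝟙 Z) z = σ z - z := by
      rw [map_sub, T_id]
      rfl
    exact h3
  have hTN : ∀ z, (Ext.mk₀ (Ns s n)).comp z (zero_add 1) = CycMod.Nm σ n z := by
    intro z
    exact DFunLike.congr_fun (T_Ns G 1 s n) z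
  have htz : ∀ (c' : Ext.{w} R G 1) (t : ℕ), t • (Ext.mk₀ φ).comp c' (zero_add 1) = 0 →
      (t * n) • c' = 0 := fun c' t h => nsmul_eq_zero s (Ns s n) φ w₁ h₁ w₃ G n hNφ 1 c' t h
  let e₀ : Ext.{w} Z G 1 := (Ext.mk₀ φ).comp c₀ (zero_add 1)
  have he₀ : σ e₀ = e₀ := by
    change (Ext.mk₀ s).comp ((Ext.mk₀ φ).comp c₀ (zero_add 1)) (zero_add 1) = _
    rw [Ext.mk₀_comp_mk₀_assoc, hφ]
  have hde₀ : d e₀ ≠ 0 := by
    intro h
    obtain ⟨t, ht, h3⟩ := (CycMod.d_eq_zero_iff d hd e₀).1 h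
    have h4 := hc₀ _ (htz c₀ t h3)
    have : 0 < t * n := Nat.mul_pos ht hn
    omega
  refine eq_zero_two s (Ns s n) φ w₁ h₁ w₂ h₂ w₃ G hN' (fun y hy => ?_) α hα
  rw [hTN] at hy
  obtain ⟨z, hz⟩ := CycMod.exists_sub d hd σ n hn hσn e₀ he₀ hde₀ (fun c hc hdc => by
    obtain ⟨c', hc'⟩ := exists_of_invariant s (Ns s n) φ w₁ h₁ w₂ h₂ w₃ G hN' c (by
      rw [hTs, hc, sub_self])
    obtain ⟨t, ht, h3⟩ := (CycMod.d_eq_zero_iff d hd c).1 hdc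
    obtain ⟨z, hz⟩ := htors c' ⟨t * n, Nat.mul_pos ht hn, htz c' t (by rw [hc', h3])⟩
    exact ⟨z, by rw [← hTN, hz, hc']⟩) y hy
  exact ⟨z, by rw [hTs, hz]⟩

end Final

end K281.CycExt
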