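import Groth.Agent.CurvesA.SiteZU
import Groth.Agent.Etbase.EtSite
import Groth.Agent.Etcore.EtZ
import Groth.Prelude.Def_EtCore
import Groth.Agent.Dix.K281.CycExt

/-!
# Cyclic coverings in the small étale site

`Y` étale over `X` with an automorphism `σ` such that `Y ⟶ X` is a torsor under the cyclic group of order `n`
generated by `σ` (`Cyc Y σ n`): exactness of `Z_Y --(σ-1)--> Z_Y --> Z_X --> 0` and `Z_Y --N--> Z_Y --(σ-1)--> Z_Y`.
-/

set_option autoImplicit false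
universe u

open CategoryTheory CategoryTheory.Limits AlgebraicGeometry Opposite
open Groth.Agent.Etbase Groth.Agent.CurvesA Groth.Agent.Etcore.EtZ

noncomputable section

namespace K281.CycEt

variable {X : Scheme.{u}} {Y : X.Etale} (σ : Y ⟶ Y) (n : ℕ)

/-- powers -/
def pw : ℕ → (Y ⟶ Y)
  | 0 => 𝟙 Y
  | i + 1 => σ ≫ pw i

theorem pw_succ' (i : ℕ) : pw σ (i + 1) = pw σ i ≫ σ := by
  induction i with
  | zero =>
    change σ ≫ 𝟙 Y = 𝟙 Y ≫ σ
    rw [Category.id_comp, Category.comp_id]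
  | succ i ih =>
    calc pw σ (i + 1 + 1) = σ ≫ pw σ (i + 1) := rfl
      _ = σ ≫ pw σ i ≫ σ := by rw [ih]
      _ = pw σ (i + 1) ≫ σ := by rw [← Category.assoc]; rfl

/-- `Y` is a torsor under the cyclic group of order `n` generated by `σ`. -/
structure Cyc : Prop where
  pos : 0 < n
  surj : ∀ (W : X.Etale) (w : W.left), ∃ (W' : X.Etale) (f : W' ⟶ W) (w' : W'.left), f.left w' = w ∧
    Nonempty (W' ⟶ Y)
  pw_n : pw σ n = 𝟙 Y
  loc : ∀ (W : X.Etale) (p q : W ⟶ Y) (w : W.left), ∃ (W' : X.Etale) (f : W' ⟶ W) (w' : W'.left) (i : ℕ),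
    i < n ∧ f.left w' = w ∧ f ≫ q = f ≫ p ≫ pw σ i
  inj : ∀ (W : X.Etale) (_ : W.left) (p : W ⟶ Y) (i j : ℕ), i < n → j < n →
    p ≫ pw σ i = p ≫ pw σ j → i = j

/-- generators -/
abbrev gen {W : X.Etale} (p : W ⟶ Y) : (SiteZU.PZ.{u + 1}.obj Y).obj (op W) := SiteZU.pof.{u + 1} p

theorem map_gen {V W : X.Etale} (f : W ⟶ V) (p : V ⟶ Y) :
    (SiteZU.PZ.{u + 1}.obj Y).map f.op (gen p) = gen (f ≫ p) := SiteZU.PZ_map_pof f p

theorem app_gen {W Y' : X.Etale} (p : W ⟶ Y) (h : Y ⟶ Y') :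
    (SiteZU.PZ.{u + 1}.map h).app (op W) (gen p) = gen (p ≫ h) := SiteZU.PZ_app_pof p h

theorem map_map_apply {M : (X.Etale)ᵒᵖ ⥤ AddCommGrpCat.{u + 1}} {U V W : X.Etale} (f : V ⟶ U) (g : W ⟶ V)
    (x : M.obj (op U)) : M.map g.op (M.map f.op x) = M.map (g ≫ f).op x := by
  rw [op_comp, M.map_comp]
  rfl

variable {σ n}

/-- The chain attached to coefficients. -/
def chain (σ : Y ⟶ Y) (n : ℕ) {W : X.Etale} (p : W ⟶ Y) (c : ℕ → ℤ) : (SiteZU.PZ.{u + 1}.obj Y).obj (op W) :=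
  ∑ i ∈ Finset.range n, c i • gen (p ≫ pw σ i)

theorem map_chain {V W : X.Etale} (f : W ⟶ V) (p : V ⟶ Y) (c : ℕ → ℤ) :
    (SiteZU.PZ.{u + 1}.obj Y).map f.op (chain σ n p c) = chain σ n (f ≫ p) c := by
  refine (map_sum ((SiteZU.PZ.{u + 1}.obj Y).map f.op).hom _ _).trans ?_
  refine Finset.sum_congr rfl fun i _ => ?_
  refine (map_zsmul ((SiteZU.PZ.{u + 1}.obj Y).map f.op).hom _ _).trans ?_
  exact congrArg (c i • ·) ((map_gen f _).trans (by rw [Category.assoc]))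

theorem chain_add {W : X.Etale} (p : W ⟶ Y) (c c' : ℕ → ℤ) :
    chain σ n p (fun i => c i + c' i) = chain σ n p c + chain σ n p c' := by
  unfold chain
  rw [← Finset.sum_add_distrib]
  exact Finset.sum_congr rfl fun i _ => add_smul _ _ _

theorem chain_neg {W : X.Etale} (p : W ⟶ Y) (c : ℕ → ℤ) :
    chain σ n p (fun i => - c i) = - chain σ n p c := by
  unfold chain
  rw [← Finset.sum_neg_distrib]
  exact Finset.sum_congr rfl fun i _ => neg_smul _ _

/-- Locally, chains come from the orbit of a point. -/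
theorem exists_chain (h : Cyc σ n) {V : X.Etale} (p : V ⟶ Y) (x : (SiteZU.PZ.{u + 1}.obj Y).obj (op V))
    (v : V.left) :
    ∃ (W : X.Etale) (f : W ⟶ V) (w : W.left), f.left w = v ∧
      ∃ c : ℕ → ℤ, (SiteZU.PZ.{u + 1}.obj Y).map f.op x = chain σ n (f ≫ p) c := by
  classical
  revert v
  refine FreeAbelianGroup.induction_on (motive := fun x : FreeAbelianGroup (ULift.{u + 1} (V ⟶ Y)) =>
    ∀ v : V.left, ∃ (W : X.Etale) (f : W ⟶ V) (w : W.left), f.left w = v ∧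
      ∃ c : ℕ → ℤ, (SiteZU.PZ.{u + 1}.obj Y).map f.op (x : (SiteZU.PZ.{u + 1}.obj Y).obj (op V)) =
        chain σ n (f ≫ p) c) x ?_ ?_ ?_ ?_
  · intro v
    refine ⟨V, 𝟙 V, v, rfl, 0, ?_⟩
    refine (map_zero ((SiteZU.PZ.{u + 1}.obj Y).map (𝟙 V).op).hom).trans ?_
    unfold chain
    simp
  · rintro ⟨r⟩ v
    obtain ⟨W, f, w, i, hi, hw, e⟩ := h.loc V p r v
    refine ⟨W, f, w, hw, fun j => if j = i then 1 else 0, ?_⟩
    refine (map_gen f r).trans ?_
    unfold chain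
    rw [Finset.sum_eq_single i]
    · beta_reduce
      rw [if_pos rfl, one_smul, e, Category.assoc]
    · intro j _ hj
      beta_reduce
      rw [if_neg hj, zero_smul]
    · intro hi'
      exact absurd (Finset.mem_range.2 hi) hi'
  · rintro r ih v
    obtain ⟨W, f, w, hw, c, e⟩ := ih v
    refine ⟨W, f, w, hw, fun i => - c i, ?_⟩
    rw [chain_neg, ← e]
    exact map_neg ((SiteZU.PZ.{u + 1}.obj Y).map f.op).hom _
  · rintro x y ihx ihy v
    obtain ⟨W, f, w, hw, c, e⟩ := ihx v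
    obtain ⟨W', f', w', hw', c', e'⟩ := ihy v
    obtain ⟨P, a, b, t, hab, ha, hb⟩ := EtSite.exists_pullback f f' w w' (hw.trans hw'.symm)
    refine ⟨P, a ≫ f, t, ?_, fun i => c i + c' i, ?_⟩
    · refine Eq.trans ?_ hw
      exact congrArg f.left ha
    · rw [chain_add]
      refine (map_add ((SiteZU.PZ.{u + 1}.obj Y).map (a ≫ f).op).hom _ _).trans ?_
      congr 1
      · refine (map_map_apply f a _).symm.trans ?_
        refine (congrArg _ e).trans ?_
        rw [map_chain, Category.assoc]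
      · rw [hab]
        refine (map_map_apply f' b _).symm.trans ?_
        refine (congrArg _ e').trans ?_
        rw [map_chain, Category.assoc]

/-- coefficient of a chain -/
def co {W : X.Etale} (r : W ⟶ Y) : (SiteZU.PZ.{u + 1}.obj Y).obj (op W) →+ ℤ :=
  letI := Classical.decEq (ULift.{u + 1} (W ⟶ Y))
  (FreeAbelianGroup.lift fun r' : ULift.{u + 1} (W ⟶ Y) => if r' = ⟨r⟩ then (1 : ℤ) else 0 :
    FreeAbelianGroup (ULift.{u + 1} (W ⟶ Y)) →+ ℤ)

theorem co_gen_self {W : X.Etale} (r : W ⟶ Y) : co r (gen r) = 1 := by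
  unfold co gen SiteZU.pof
  refine (FreeAbelianGroup.lift_apply_of _ _).trans ?_
  exact if_pos rfl

theorem co_gen_ne {W : X.Etale} {r r' : W ⟶ Y} (hr : r' ≠ r) : co r (gen r') = 0 := by
  unfold co gen SiteZU.pof
  refine (FreeAbelianGroup.lift_apply_of _ _).trans ?_
  exact if_neg fun h => hr (congrArg ULift.down h)

theorem co_chain (h : Cyc σ n) {W : X.Etale} (w : W.left) (p : W ⟶ Y) (c : ℕ → ℤ) (j : ℕ) (hj : j < n) :
    co (p ≫ pw σ j) (chain σ n p c) = c j := by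
  unfold chain
  rw [map_sum, Finset.sum_eq_single j]
  · rw [map_zsmul, co_gen_self, smul_eq_mul, mul_one]
  · intro i hi hij
    rw [map_zsmul, co_gen_ne, smul_zero]
    intro e
    exact hij (h.inj W w p i j (Finset.mem_range.1 hi) hj e)
  · intro h'
    exact absurd (Finset.mem_range.2 hj) h'

theorem app_chain {W : X.Etale} (p : W ⟶ Y) (c : ℕ → ℤ) :
    (SiteZU.PZ.{u + 1}.map σ).app (op W) (chain σ n p c) =
      ∑ i ∈ Finset.range n, c i • gen (p ≫ pw σ (i + 1)) := by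
  unfold chain
  refine (map_sum ((SiteZU.PZ.{u + 1}.map σ).app (op W)).hom _ _).trans ?_
  refine Finset.sum_congr rfl fun i _ => ?_
  refine (map_zsmul ((SiteZU.PZ.{u + 1}.map σ).app (op W)).hom _ _).trans ?_
  refine congrArg (c i • ·) ((app_gen _ σ).trans ?_)
  rw [Category.assoc, ← pw_succ']

theorem sum_eq_of {W Y' : X.Etale} (t : Y ⟶ Y') (ht : ∀ i, pw σ i ≫ t = t) (p : W ⟶ Y) (c : ℕ → ℤ) :
    (SiteZU.PZ.{u + 1}.map t).app (op W) (chain σ n p c) =
      (∑ i ∈ Finset.range n, c i) • gen (p ≫ t) := by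
  unfold chain
  refine (map_sum ((SiteZU.PZ.{u + 1}.map t).app (op W)).hom _ _).trans ?_
  rw [Finset.sum_smul]
  refine Finset.sum_congr rfl fun i _ => ?_
  refine (map_zsmul ((SiteZU.PZ.{u + 1}.map t).app (op W)).hom _ _).trans ?_
  refine congrArg (c i • ·) ((app_gen _ t).trans ?_)
  rw [Category.assoc, ht]

theorem app_partial {W : X.Etale} (p : W ⟶ Y) (i : ℕ) :
    (SiteZU.PZ.{u + 1}.map σ).app (op W) (∑ j ∈ Finset.range i, gen (p ≫ pw σ j)) -
      ∑ j ∈ Finset.range i, gen (p ≫ pw σ j) = gen (p ≫ pw σ i) - gen p := by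
  have h1 : (SiteZU.PZ.{u + 1}.map σ).app (op W) (∑ j ∈ Finset.range i, gen (p ≫ pw σ j)) =
      ∑ j ∈ Finset.range i, gen (p ≫ pw σ (j + 1)) := by
    refine (map_sum ((SiteZU.PZ.{u + 1}.map σ).app (op W)).hom _ _).trans ?_
    refine Finset.sum_congr rfl fun i _ => ?_
    refine (app_gen _ σ).trans ?_
    rw [Category.assoc, ← pw_succ']
  rw [h1, ← Finset.sum_sub_distrib, Finset.sum_range_sub (fun j => gen (p ≫ pw σ j))]
  congr 2

theorem local₁ (h : Cyc σ n) {V : X.Etale} (x : (SiteZU.PZ.{u + 1}.obj Y).obj (op V))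
    {T : X.Etale} (t : Y ⟶ T) (ht : ∀ i, pw σ i ≫ t = t)
    (hx : (SiteZU.PZ.{u + 1}.map t).app (op V) x = 0) (v : V.left) :
    ∃ (W : X.Etale) (f : W ⟶ V) (w : W.left), f.left w = v ∧
      ∃ y : (SiteZU.PZ.{u + 1}.obj Y).obj (op W),
        (SiteZU.PZ.{u + 1}.map σ).app (op W) y - y = (SiteZU.PZ.{u + 1}.obj Y).map f.op x := by
  obtain ⟨V', g, v', hv', ⟨p⟩⟩ := h.surj V v
  obtain ⟨W, f, w, hw, c, e⟩ := exists_chain h p ((SiteZU.PZ.{u + 1}.obj Y).map g.op x) v'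
  have e' : (SiteZU.PZ.{u + 1}.obj Y).map (f ≫ g).op x = chain σ n (f ≫ p) c :=
    (map_map_apply g f x).symm.trans e
  have hc : ∑ i ∈ Finset.range n, c i = 0 := by
    have h1 : (SiteZU.PZ.{u + 1}.map t).app (op W) (chain σ n (f ≫ p) c) = 0 := by
      rw [← e']
      refine (ConcreteCategory.congr_hom ((SiteZU.PZ.{u + 1}.map t).naturality (f ≫ g).op) x).trans ?_
      refine (congrArg ((SiteZU.PZ.{u + 1}.obj T).map (f ≫ g).op) hx).trans ?_
      exact map_zero ((SiteZU.PZ.{u + 1}.obj T).map (f ≫ g).op).hom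
    rw [sum_eq_of t ht] at h1
    have h2 := congrArg (co ((f ≫ p) ≫ t)) h1
    rw [map_zsmul, co_gen_self, map_zero, smul_eq_mul, mul_one] at h2
    exact h2
  refine ⟨W, f ≫ g, w, ?_, ∑ i ∈ Finset.range n, c i • ∑ j ∈ Finset.range i, gen ((f ≫ p) ≫ pw σ j), ?_⟩
  · refine Eq.trans ?_ hv'
    exact congrArg g.left hw
  · rw [e']
    have h1 : (SiteZU.PZ.{u + 1}.map σ).app (op W)
        (∑ i ∈ Finset.range n, c i • ∑ j ∈ Finset.range i, gen ((f ≫ p) ≫ pw σ j)) =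
        ∑ i ∈ Finset.range n, c i • (SiteZU.PZ.{u + 1}.map σ).app (op W)
          (∑ j ∈ Finset.range i, gen ((f ≫ p) ≫ pw σ j)) := by
      refine (map_sum ((SiteZU.PZ.{u + 1}.map σ).app (op W)).hom _ _).trans ?_
      exact Finset.sum_congr rfl fun i _ => map_zsmul ((SiteZU.PZ.{u + 1}.map σ).app (op W)).hom _ _
    rw [h1, ← Finset.sum_sub_distrib]
    rw [Finset.sum_congr rfl (g := fun i => c i • gen ((f ≫ p) ≫ pw σ i) - c i • gen (f ≫ p)) fun i _ => by
      rw [← smul_sub, app_partial, smul_sub]]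
    rw [Finset.sum_sub_distrib, ← Finset.sum_smul, hc, zero_smul, sub_zero]
    rfl

theorem local₂ (h : Cyc σ n) {V : X.Etale} (x : (SiteZU.PZ.{u + 1}.obj Y).obj (op V))
    (hx : (SiteZU.PZ.{u + 1}.map σ).app (op V) x - x = 0) (v : V.left) :
    ∃ (W : X.Etale) (f : W ⟶ V) (w : W.left), f.left w = v ∧
      ∃ (p : W ⟶ Y) (c : ℤ), (SiteZU.PZ.{u + 1}.obj Y).map f.op x =
        c • ∑ i ∈ Finset.range n, gen (p ≫ pw σ i) := by
  obtain ⟨V', g, v', hv', ⟨p⟩⟩ := h.surj V v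
  obtain ⟨W, f, w, hw, c, e⟩ := exists_chain h p ((SiteZU.PZ.{u + 1}.obj Y).map g.op x) v'
  have e' : (SiteZU.PZ.{u + 1}.obj Y).map (f ≫ g).op x = chain σ n (f ≫ p) c :=
    (map_map_apply g f x).symm.trans e
  have h1 : (SiteZU.PZ.{u + 1}.map σ).app (op W) (chain σ n (f ≫ p) c) = chain σ n (f ≫ p) c := by
    rw [← e']
    refine (ConcreteCategory.congr_hom ((SiteZU.PZ.{u + 1}.map σ).naturality (f ≫ g).op) x).trans ?_
    exact congrArg ((SiteZU.PZ.{u + 1}.obj Y).map (f ≫ g).op) (sub_eq_zero.1 hx)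
  rw [app_chain] at h1
  have hc : ∀ j, j + 1 < n → c (j + 1) = c j := by
    intro j hj
    have h2 := congrArg (co ((f ≫ p) ≫ pw σ (j + 1))) h1
    rw [co_chain h w _ c (j + 1) hj, map_sum, Finset.sum_eq_single j] at h2
    · rw [map_zsmul, co_gen_self, smul_eq_mul, mul_one] at h2
      exact h2.symm
    · intro i hi hij
      rw [map_zsmul, co_gen_ne, smul_zero]
      intro e2
      rw [Finset.mem_range] at hi
      rcases Nat.lt_or_ge (i + 1) n with hin | hin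
      · have := h.inj W w _ (i + 1) (j + 1) hin hj e2
        omega
      · have hin' : i + 1 = n := by omega
        rw [hin', h.pw_n] at e2
        have := h.inj W w (f ≫ p) 0 (j + 1) h.pos hj e2
        omega
    · intro h'
      exact absurd (Finset.mem_range.2 (by omega)) h'
  have hc0 : ∀ j, j < n → c j = c 0 := by
    intro j
    induction j with
    | zero => intro _; rfl
    | succ j ih => intro hj; rw [hc j hj, ih (by omega)]
  refine ⟨W, f ≫ g, w, ?_, f ≫ p, c 0, ?_⟩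
  · refine Eq.trans ?_ hv'
    exact congrArg g.left hw
  · rw [e', Finset.smul_sum]
    exact Finset.sum_congr rfl fun i hi => by rw [hc0 i (Finset.mem_range.1 hi)]

/-- Local exactness in terms of points. -/
theorem exact_of_local (S : ShortComplex ((X.Etale)ᵒᵖ ⥤ AddCommGrpCat.{u + 1}))
    (h : ∀ (V : X.Etale) (x : S.X₂.obj (op V)), S.g.app (op V) x = 0 → ∀ v : V.left,
      ∃ (W : X.Etale) (f : W ⟶ V) (w : W.left), f.left w = v ∧
        ∃ y : S.X₁.obj (op W), S.f.app (op W) y = S.X₂.map f.op x) :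
    (S.map (presheafToSheaf X.smallEtaleTopology AddCommGrpCat.{u + 1})).Exact := by
  refine SiteZU.exact_map_presheafToSheaf.{u + 1, u, u + 1} S fun V x hx => ?_
  let T : Sieve V :=
    { arrows := fun W f => ∃ y : S.X₁.obj (op W), S.f.app (op W) y = S.X₂.map f.op x
      downward_closed := by
        rintro W W' f ⟨y, hy⟩ k
        refine ⟨S.X₁.map k.op y, ?_⟩
        have h1 := ConcreteCategory.congr_hom (S.f.naturality k.op) y
        refine h1.trans ?_
        refine (congrArg (S.X₂.map k.op) hy).trans ?_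
        exact map_map_apply f k x }
  refine ⟨T, ?_, fun W f hf => hf⟩
  rw [EtSite.mem_iff]
  intro v
  obtain ⟨W, f, w, hw, y, hy⟩ := h V x hx v
  exact ⟨W, f, w, ⟨y, hy⟩, hw⟩

/-! ### the sheaves -/

/-- `Z_Y ⟶ Z_X` -/
abbrev aug (Y : X.Etale) : (Z X).obj Y ⟶ (Z X).obj (EtCoh.top X) := (Z X).map ((EtCore.topIsTerminal X).from Y)

theorem pw_from (i : ℕ) : pw σ i ≫ (EtCore.topIsTerminal X).from Y = (EtCore.topIsTerminal X).from Y :=
  (EtCore.topIsTerminal X).hom_ext _ _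

theorem map_pw (i : ℕ) : (Z X).map (pw σ i) = CycExt.pw ((Z X).map σ) i := by
  induction i with
  | zero => exact (Z X).map_id Y
  | succ i ih => rw [pw, CycExt.pw, Functor.map_comp, ih]

theorem sub_aug : ((Z X).map σ - 𝟙 _) ≫ aug Y = 0 := by
  rw [Preadditive.sub_comp, ← Functor.map_comp, Category.id_comp, sub_eq_zero]
  exact congrArg _ ((EtCore.topIsTerminal X).hom_ext _ _)

theorem psub_aug : (SiteZU.PZ.{u + 1}.map σ - 𝟙 _) ≫ SiteZU.PZ.{u + 1}.map ((EtCore.topIsTerminal X).from Y) = 0 := by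
  rw [Preadditive.sub_comp, ← Functor.map_comp, Category.id_comp, sub_eq_zero]
  exact congrArg _ ((EtCore.topIsTerminal X).hom_ext _ _)

theorem map_psub : (presheafToSheaf X.smallEtaleTopology AddCommGrpCat.{u + 1}).map
    (SiteZU.PZ.{u + 1}.map σ - 𝟙 _) = (Z X).map σ - 𝟙 _ := by
  refine (Functor.map_sub _).trans ?_
  exact congrArg (fun z => (presheafToSheaf X.smallEtaleTopology AddCommGrpCat.{u + 1}).map
    (SiteZU.PZ.{u + 1}.map σ) - z)
    ((presheafToSheaf X.smallEtaleTopology AddCommGrpCat.{u + 1}).map_id (SiteZU.PZ.{u + 1}.obj Y))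

theorem exact₁ (h : Cyc σ n) : (ShortComplex.mk ((Z X).map σ - 𝟙 _) (aug Y) sub_aug).Exact := by
  have h1 := exact_of_local (ShortComplex.mk _ _ (psub_aug (σ := σ))) (fun V x hx v =>
    local₁ h x ((EtCore.topIsTerminal X).from Y) pw_from hx v)
  refine (ShortComplex.exact_iff_of_iso ?_).1 h1
  refine ShortComplex.isoMk (Iso.refl _) (Iso.refl _) (Iso.refl _) ?_ ?_
  · refine (Category.id_comp _).trans ?_
    refine Eq.trans ?_ (Category.comp_id _).symm
    exact (map_psub (σ := σ)).symm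
  · exact (Category.id_comp _).trans (Category.comp_id _).symm

/-- the presheaf norm -/
def pN (σ : Y ⟶ Y) (n : ℕ) : SiteZU.PZ.{u + 1}.obj Y ⟶ SiteZU.PZ.{u + 1}.obj Y :=
  SiteZU.pdesc.{u + 1} (∑ i ∈ Finset.range n, gen (pw σ i))

theorem pN_app {W : X.Etale} (p : W ⟶ Y) :
    (pN σ n).app (op W) (gen p) = ∑ i ∈ Finset.range n, gen (p ≫ pw σ i) := by
  refine (SiteZU.pdesc_app_pof _ p).trans ?_
  refine (map_sum ((SiteZU.PZ.{u + 1}.obj Y).map p.op).hom _ _).trans ?_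
  exact Finset.sum_congr rfl fun i _ => map_gen p (pw σ i)

theorem map_pN : (presheafToSheaf X.smallEtaleTopology AddCommGrpCat.{u + 1}).map (pN σ n) =
    CycExt.Ns ((Z X).map σ) n := by
  apply SiteZU.ev_injective.{u + 1}
  have h0 : SiteZU.ev.{u + 1} (CycExt.Ns ((Z X).map σ) n) =
      ∑ i ∈ Finset.range n, SiteZU.ev.{u + 1} (CycExt.pw ((Z X).map σ) i) :=
    map_sum (SiteZU.ev.{u + 1} (U := Y) (F := (Z X).obj Y)) _ _
  refine Eq.trans ?_ h0.symm
  have h1 : SiteZU.ev.{u + 1} ((presheafToSheaf X.smallEtaleTopology AddCommGrpCat.{u + 1}).map (pN σ n) :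
      (Z X).obj Y ⟶ (Z X).obj Y) =
      (toSheafify X.smallEtaleTopology (SiteZU.PZ.{u + 1}.obj Y)).app (op Y)
        ((pN σ n).app (op Y) (gen (𝟙 Y))) := by
    have h2 := congrArg (fun a => a.app (op Y) (gen (𝟙 Y)))
      (toSheafify_naturality X.smallEtaleTopology (pN σ n))
    exact h2.symm
  refine h1.trans ?_
  rw [pN_app]
  refine (map_sum ((toSheafify X.smallEtaleTopology (SiteZU.PZ.{u + 1}.obj Y)).app (op Y)).hom _ _).trans ?_
  refine Finset.sum_congr rfl fun i _ => ?_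
  rw [← map_pw, SiteZU.ev_map, Category.id_comp]
  have h3 := NatTrans.naturality_apply (toSheafify X.smallEtaleTopology (SiteZU.PZ.{u + 1}.obj Y))
    (pw σ i).op (SiteZU.pof.{u + 1} (𝟙 Y))
  rw [SiteZU.PZ_map_pof, Category.comp_id] at h3
  exact h3

theorem pN_psub (h : Cyc σ n) : pN σ n ≫ (SiteZU.PZ.{u + 1}.map σ - 𝟙 _) = 0 := by
  apply SiteZU.PZ_hom_ext
  change (SiteZU.PZ.{u + 1}.map σ).app (op Y) ((pN σ n).app (op Y) (gen (𝟙 Y))) -
    (pN σ n).app (op Y) (gen (𝟙 Y)) = 0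
  rw [pN_app]
  refine (app_partial (𝟙 Y) n).trans ?_
  rw [h.pw_n, Category.comp_id, sub_self]

theorem psub_pN (h : Cyc σ n) : (SiteZU.PZ.{u + 1}.map σ - 𝟙 _) ≫ pN σ n = 0 := by
  apply SiteZU.PZ_hom_ext
  have h1 : (SiteZU.PZ.{u + 1}.map σ - 𝟙 _).app (op Y) (gen (𝟙 Y)) = gen σ - gen (𝟙 Y) := by
    change (SiteZU.PZ.{u + 1}.map σ).app (op Y) (gen (𝟙 Y)) - gen (𝟙 Y) = _
    rw [app_gen, Category.id_comp]
  refine (congrArg ((pN σ n).app (op Y)) h1).trans ?_
  refine (map_sub ((pN σ n).app (op Y)).hom _ _).trans ?_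
  refine (congrArg₂ (· - ·) (pN_app σ) (pN_app (𝟙 Y))).trans ?_
  rw [← Finset.sum_sub_distrib]
  rw [Finset.sum_congr rfl (g := fun i => gen (pw σ (i + 1)) - gen (pw σ i)) fun i _ => by
    rw [Category.id_comp, pw]]
  rw [Finset.sum_range_sub (fun j => gen (pw σ j)), h.pw_n, pw, sub_self]
  rfl

theorem Ns_sub (h : Cyc σ n) : CycExt.Ns ((Z X).map σ) n ≫ ((Z X).map σ - 𝟙 _) = 0 := by
  refine (congrArg₂ (fun a b : (Z X).obj Y ⟶ (Z X).obj Y => a ≫ b) (map_pN (σ := σ) (n := n)).symm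
    (map_psub (σ := σ)).symm).trans ?_
  refine ((presheafToSheaf X.smallEtaleTopology AddCommGrpCat.{u + 1}).map_comp _ _).symm.trans ?_
  rw [pN_psub h]
  exact Functor.map_zero _ _ _

theorem sub_Ns (h : Cyc σ n) : ((Z X).map σ - 𝟙 _) ≫ CycExt.Ns ((Z X).map σ) n = 0 := by
  refine (congrArg₂ (fun a b : (Z X).obj Y ⟶ (Z X).obj Y => a ≫ b) (map_psub (σ := σ)).symm
    (map_pN (σ := σ) (n := n)).symm).trans ?_
  refine ((presheafToSheaf X.smallEtaleTopology AddCommGrpCat.{u + 1}).map_comp _ _).symm.trans ?_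
  rw [psub_pN h]
  exact Functor.map_zero _ _ _

theorem exact₂ (h : Cyc σ n) :
    (ShortComplex.mk (CycExt.Ns ((Z X).map σ) n) ((Z X).map σ - 𝟙 _) (Ns_sub h)).Exact := by
  have h1 := exact_of_local (ShortComplex.mk _ _ (pN_psub h)) (fun V x hx v => by
    obtain ⟨W, f, w, hw, p, c, e⟩ := local₂ h x hx v
    refine ⟨W, f, w, hw, c • gen p, ?_⟩
    refine Eq.trans ?_ e.symm
    refine (map_zsmul ((pN σ n).app (op W)).hom _ _).trans ?_
    exact congrArg (c • ·) (pN_app p))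
  refine (ShortComplex.exact_iff_of_iso ?_).1 h1
  refine ShortComplex.isoMk (Iso.refl _) (Iso.refl _) (Iso.refl _) ?_ ?_
  · refine (Category.id_comp _).trans ?_
    refine Eq.trans ?_ (Category.comp_id _).symm
    exact (map_pN (σ := σ) (n := n)).symm
  · refine (Category.id_comp _).trans ?_
    refine Eq.trans ?_ (Category.comp_id _).symm
    exact (map_psub (σ := σ)).symm

theorem epi_aug (h : Cyc σ n) : Epi (aug Y) := by
  apply SiteZU.epi_map_of_cover.{u + 1}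
  rw [EtSite.mem_iff]
  intro x
  obtain ⟨W', f, w', hw', ⟨a⟩⟩ := h.surj (EtCoh.top X) x
  refine ⟨W', f, w', ⟨Y, a, (EtCore.topIsTerminal X).from Y, ⟨⟩, ?_⟩, hw'⟩
  exact (EtCore.topIsTerminal X).hom_ext _ _

theorem pw_map (h : Cyc σ n) : CycExt.pw ((Z X).map σ) n = 𝟙 _ := by
  rw [← map_pw, h.pw_n]
  exact (Z X).map_id Y

end K281.CycEt
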