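import Groth.Agent.Dix.K281.CycTors
import Groth.Agent.Models.H57.GeoInt
import Groth.Agent.GalCoh.K445.EtRes
import Mathlib.FieldTheory.Finite.GaloisField
import Mathlib.FieldTheory.Finite.Trace
import Mathlib.FieldTheory.Galois.Basic

/-!
# Classes of degree two on smooth proper curves over finite fields
-/

set_option autoImplicit false
set_option linter.unusedSectionVars false
universe u

open CategoryTheory CategoryTheory.Limits CategoryTheory.Abelian AlgebraicGeometry Opposite TopologicalSpace
open FiniteField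
open Groth.Agent.CurvesA
open Groth.Agent.Etbase Groth.Agent.Etcore.EtZ
open Groth.Agent.MiscA

noncomputable section

namespace K281.CycMain

open CycBase CycFib CycDiv CycCls CycArith CycTors

section const

variable {k : Type u} [Field k] [PerfectField k] {X : Scheme.{u}} [IsIntegral X]
  (f : X ⟶ Spec (CommRingCat.of k)) [GeometricallyIrreducible f] [IsProper f]

theorem gl_specMap {A B : Type u} [CommRing A] [CommRing B] (φ : A →+* B) :
    gl (Spec.map (CommRingCat.ofHom φ)) = (Scheme.ΓSpecIso (CommRingCat.of B)).inv.hom.comp φ := by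
  have h1 := gl_map (𝟙 (Spec (CommRingCat.of B))) φ
  rw [Category.id_comp] at h1
  rw [h1]
  rfl

theorem gl_bijective : Function.Bijective (gl f) := by
  have hne : Nonempty (⊤ : X.Opens) := ⟨⟨genericPoint X, trivial⟩⟩
  constructor
  · have hnt : Nontrivial Γ(X, ⊤) :=
      RingHom.domain_nontrivial (X.presheaf.germ ⊤ (genericPoint X) trivial).hom
    exact (gl f).injective
  · intro y
    let := (Spec.preimage (CurvePlaces.genericPt X ≫ f)).hom.toAlgebra
    have hk : CurvePlaces.genericPt X ≫ f =
        Spec.map (CommRingCat.ofHom (algebraMap k X.functionField)) :=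
      (Spec.map_preimage _).symm
    let γ : Γ(X, ⊤) →+* X.functionField := (X.presheaf.germ ⊤ (genericPoint X) trivial).hom
    have hγ : Function.Injective γ := X.germToFunctionField_injective ⊤
    have h1 : γ.comp (gl f) = algebraMap k X.functionField := by
      have h2 := congrArg gl hk
      rw [gl_specMap, gl_comp] at h2
      have h3 : (CurvePlaces.genericPt X).appTop.hom =
          (Scheme.ΓSpecIso (CommRingCat.of X.functionField)).inv.hom.comp γ := by
        have h4 : (CurvePlaces.genericPt X).appTop = X.presheaf.germ ⊤ (genericPoint X) trivial ≫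
            (Scheme.ΓSpecIso (CommRingCat.of X.functionField)).inv := by
          refine Scheme.fromSpecStalk_appTop.trans ?_
          have h5 : (Spec (X.presheaf.stalk (genericPoint X))).presheaf.map (homOfLE le_top).op = 𝟙 _ :=
            (Spec (X.presheaf.stalk (genericPoint X))).presheaf.map_id (op ⊤)
          refine congrArg (fun z => X.presheaf.germ ⊤ (genericPoint X) trivial ≫ z) ?_
          refine (congrArg (fun z => (Scheme.ΓSpecIso (X.presheaf.stalk (genericPoint X))).inv ≫ z) h5).trans ?_
          exact Category.comp_id _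
        rw [h4]
        rfl
      rw [h3, RingHom.comp_assoc] at h2
      ext x
      have h5 := RingHom.congr_fun h2 x
      have h6 := ((ConcreteCategory.bijective_of_isIso
        (Scheme.ΓSpecIso (CommRingCat.of X.functionField)).inv)).1
      exact h6 h5
    have h2 : (gl f).IsIntegralElem y := by
      obtain ⟨p, hp, hp'⟩ := isIntegral_appTop_of_universallyClosed f y
      let e : Γ(Spec (CommRingCat.of k), ⊤) →+* k := (Scheme.ΓSpecIso (CommRingCat.of k)).hom.hom
      refine ⟨p.map e, hp.map e, ?_⟩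
      rw [Polynomial.eval₂_map]
      have h3 : (gl f).comp e = f.appTop.hom := by
        have h4 : (Scheme.ΓSpecIso (CommRingCat.of k)).hom ≫ (Scheme.ΓSpecIso (CommRingCat.of k)).inv = 𝟙 _ :=
          Iso.hom_inv_id _
        ext x
        exact congrArg (fun z => f.appTop.hom z) (congrArg (fun z => z.hom x) h4)
      rw [h3]
      exact hp'
    have h4 : IsAlgebraic k (γ y) := by
      apply IsIntegral.isAlgebraic
      change (algebraMap k X.functionField).IsIntegralElem (γ y)
      rw [← h1]
      exact h2.map γ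
    obtain ⟨c, hc⟩ := CurveConst.mem_range_of_isAlgebraic k f hk (γ y) h4
    refine ⟨c, hγ ?_⟩
    rw [← hc, ← h1]
    rfl

theorem isIso_appTop : IsIso f.appTop := by
  have h1 : Function.Bijective f.appTop.hom := by
    have h2 := gl_bijective f
    have h3 : ⇑(gl f) = ⇑f.appTop.hom ∘ ⇑(Scheme.ΓSpecIso (CommRingCat.of k)).inv.hom := rfl
    rw [h3] at h2
    exact (Function.Bijective.of_comp_iff _ (ConcreteCategory.bijective_of_isIso
      (Scheme.ΓSpecIso (CommRingCat.of k)).inv)).1 h2
  exact (ConcreteCategory.isIso_iff_bijective f.appTop).2 h1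

end const

section norm

variable {X : Scheme.{u}} (k k' : Type u) [Field k] [Field k'] [Fintype k] [Finite k'] [Algebra k k']
  (f : X ⟶ Spec (CommRingCat.of k))

/-- a unit as a section of `Gm` -/
def sec (U : X.Etale) (a : Γ(U.left, ⊤)ˣ) : EtCoh.sect (EtCoh.Gm X) U := ULift.up (Additive.ofMul a)

theorem map_sec {U V : X.Etale} (g : V ⟶ U) (a : Γ(U.left, ⊤)ˣ) :
    (EtCoh.Gm X).obj.map g.op (sec U a) = sec V (Units.map (g.left.appTop.hom : Γ(U.left, ⊤) →* Γ(V.left, ⊤)) a) := rfl

theorem sum_sec (U : X.Etale) (n : ℕ) (a : ℕ → Γ(U.left, ⊤)ˣ) :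
    ∑ i ∈ Finset.range n, sec U (a i) = sec U (∏ i ∈ Finset.range n, a i) := by
  induction n with
  | zero => rfl
  | succ n ih =>
    rw [Finset.sum_range_succ, Finset.prod_range_succ, ih]
    rfl

theorem mem_of_pow_eq (c : k') (hc : c ^ Fintype.card k = c) : c ∈ Set.range (algebraMap k k') := by
  rw [IsGalois.mem_range_algebraMap_iff_fixed]
  intro τ
  obtain ⟨i, hi⟩ := (bijective_frobeniusAlgEquivOfAlgebraic_pow k k').2 τ
  have hi' : frobeniusAlgEquivOfAlgebraic k k' ^ i.1 = τ := hi
  rw [← hi', AlgEquiv.coe_pow]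
  have h1 : frobeniusAlgEquivOfAlgebraic k k' c = c := hc
  exact Function.iterate_fixed h1 _

theorem norm_surj (hb : Function.Bijective (gl (pullback.snd f (sp k k'))))
    (u : (Z X).obj (YE k k' f) ⟶ EtCoh.Gm X) (hu : (Z X).map (sg k k' f) ≫ u = u) :
    ∃ w : (Z X).obj (YE k k' f) ⟶ EtCoh.Gm X,
      CycExt.Ns ((Z X).map (sg k k' f)) (Module.finrank k k') ≫ w = u := by
  classical
  let γ : k' →+* Γ((YE k k' f).left, ⊤) := gl (pullback.snd f (sp k k'))
  have hγ : Function.Bijective γ := hb
  have hact : ∀ i x, (CycEt.pw (sg k k' f) i).left.appTop.hom (γ x) = γ (x ^ (Fintype.card k ^ i)) := by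
    intro i x
    have h1 : (CycEt.pw (sg k k' f) i).left.appTop.hom (γ x) =
        (sgl k k' f i).appTop.hom (gl (pullback.snd f (sp k k')) x) :=
      congrArg (fun z : (YE k k' f).left ⟶ (YE k k' f).left => z.appTop.hom (γ x)) (pw_sg_left k k' f i)
    have h2 : gl (sgl k k' f i ≫ pullback.snd f (sp k k')) =
        (gl (pullback.snd f (sp k k'))).comp ((frobeniusAlgHom k k' ^ i : k' →ₐ[k] k') : k' →+* k') := by
      rw [sgl_snd, fr, gl_map]
    refine h1.trans ?_
    have h3 := RingHom.congr_fun h2 x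
    rw [gl_comp] at h3
    refine h3.trans ?_
    exact congrArg γ (CycGcd.frob_pow k i x)
  let s : EtCoh.sect (EtCoh.Gm X) (YE k k' f) := SiteZU.ev.{u + 1} u
  let a : Γ((YE k k' f).left, ⊤)ˣ := Additive.toMul (ULift.down s)
  have hsa : s = sec (YE k k' f) a := rfl
  obtain ⟨c, hc⟩ := hγ.2 (a : Γ((YE k k' f).left, ⊤))
  have hs : (EtCoh.Gm X).obj.map (sg k k' f).op s = s := by
    have h1 := congrArg SiteZU.ev.{u + 1} hu
    exact (SiteZU.ev_map_comp.{u + 1} (sg k k' f) u).symm.trans h1
  have hcc : c ^ Fintype.card k = c := by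
    apply hγ.1
    have h1 := hact 1 c
    rw [pow_one] at h1
    rw [← h1]
    have h2 : (sg k k' f).left.appTop.hom (a : Γ((YE k k' f).left, ⊤)) = a := by
      rw [hsa, map_sec] at hs
      exact congrArg (fun z : EtCoh.sect (EtCoh.Gm X) (YE k k' f) =>
        ((Additive.toMul (ULift.down z) : (Γ((YE k k' f).left, ⊤))ˣ) : Γ((YE k k' f).left, ⊤))) hs
    have h3 : CycEt.pw (sg k k' f) 1 = sg k k' f := Category.comp_id _
    rw [h3, hc]
    exact h2
  obtain ⟨c₀, rfl⟩ := mem_of_pow_eq k k' c hcc
  obtain ⟨w, hw⟩ := norm_surjective k k' c₀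
  have hprod : ∏ i ∈ Finset.range (Module.finrank k k'), w ^ (Fintype.card k ^ i) = algebraMap k k' c₀ := by
    rw [← hw, algebraMap_norm_eq_prod_pow, Nat.card_eq_fintype_card]
  have hc0 : algebraMap k k' c₀ ≠ 0 := by
    intro h0
    rw [h0, map_zero] at hc
    have hnt : Nontrivial Γ((YE k k' f).left, ⊤) := hγ.1.nontrivial
    exact a.ne_zero hc.symm
  have hw0 : w ≠ 0 := by
    rintro rfl
    apply hc0
    rw [← hprod]
    exact Finset.prod_eq_zero (Finset.mem_range.2 Module.finrank_pos)
      (zero_pow (pow_ne_zero _ Fintype.card_ne_zero))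
  let b : Γ((YE k k' f).left, ⊤)ˣ := Units.map (γ : k' →* Γ((YE k k' f).left, ⊤)) (Units.mk0 w hw0)
  refine ⟨SiteZU.lift.{u + 1} (sec (YE k k' f) b), ?_⟩
  apply SiteZU.ev_injective.{u + 1}
  rw [CycNorm.ev_Ns, SiteZU.ev_lift]
  refine (Finset.sum_congr rfl fun i _ => map_sec (CycEt.pw (sg k k' f) i) b).trans ?_
  rw [sum_sec]
  refine Eq.trans ?_ hsa.symm
  congr 1
  apply Units.ext
  rw [Units.coe_prod, ← hc, ← hprod, map_prod]
  exact Finset.prod_congr rfl fun i _ => hact i w

end norm

end K281.CycMain
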