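import Groth.Agent.Dix.K281.CycCls

/-!
# The norm of the divisor of a point
-/

set_option autoImplicit false
set_option linter.unusedSectionVars false
universe u

open CategoryTheory CategoryTheory.Limits CategoryTheory.Abelian AlgebraicGeometry Opposite TopologicalSpace
open FiniteField
open Groth.Agent.CurvesA Groth.Agent.CurvesA.DivPoint Groth.Agent.CurvesA.PtFun Groth.Agent.CurvesA.GmFunct
  Groth.Agent.CurvesA.OrdMap Groth.Agent.CurvesA.DivSheaf Groth.Agent.CurvesA.DivTop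
open Groth.Agent.Etbase Groth.Agent.Etcore.EtZ

noncomputable section

namespace K281.CycNorm

open CycBase CycFib CycDiv CycCls

section ev

variable {X : Scheme.{u}} {Y : X.Etale} (σ : Y ⟶ Y) (n : ℕ) {F : EtCoh.Ab X}

theorem Ns_map : CycExt.Ns ((Z X).map σ) n = ∑ i ∈ Finset.range n, (Z X).map (CycEt.pw σ i) :=
  Finset.sum_congr rfl fun i _ => (CycEt.map_pw i).symm

theorem ev_Ns (h : (Z X).obj Y ⟶ F) :
    SiteZU.ev.{u + 1} (CycExt.Ns ((Z X).map σ) n ≫ h) =
      ∑ i ∈ Finset.range n, F.obj.map (CycEt.pw σ i).op (SiteZU.ev.{u + 1} h) := by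
  rw [Ns_map, Preadditive.sum_comp]
  refine (map_sum (SiteZU.ev.{u + 1} (U := Y) (F := F)) _ _).trans ?_
  exact Finset.sum_congr rfl fun i _ => SiteZU.ev_map_comp.{u + 1} (CycEt.pw σ i) h

end ev

variable {X : Scheme.{u}} [IsIntegral X] [IsLocallyNoetherian X] [CompactSpace X] (hX : IsDed X)
  (k k' : Type u) [Field k] [Field k'] [Fintype k] [Finite k'] [Algebra k k']
  (f : X ⟶ Spec (CommRingCat.of k))

instance finite_sp : IsFinite (sp k k') := by
  rw [IsFinite.SpecMap_iff]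
  have : Module.Finite k k' := inferInstance
  exact RingHom.finite_algebraMap.2 this

instance finite_fst : IsFinite (pullback.fst f (sp k k')) := inferInstance

instance lqf : LocallyQuasiFinite (YE k k' f).hom :=
  inferInstanceAs (LocallyQuasiFinite (pullback.fst f (sp k k')))

/-- The values of the divisor of a point of `X`, pulled back. -/
theorem vals_divEquiv (U : X.Etale) (E : {x : X // x ≠ genericPoint X} →₀ ℤ) (v : Pts X (ngp X) U) :
    vals hX U ((D X).obj.map ((EtCore.topIsTerminal X).from U).op ((divEquiv hX).symm E)) v =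
      E ⟨U.hom v.1, v.2⟩ := by
  rw [vals_map]
  have h1 := divEquiv_apply hX ((divEquiv hX).symm E)
    (⟨U.hom v.1, v.2⟩ : {x : X // x ≠ genericPoint X})
  rw [AddEquiv.apply_symm_apply] at h1
  rw [h1]
  have h2 : Pts.map ((EtCore.topIsTerminal X).from U) v =
      toPt (X := X) (⟨U.hom v.1, v.2⟩ : {x : X // x ≠ genericPoint X}) := by
    apply Subtype.ext
    exact hom_apply ((EtCore.topIsTerminal X).from U) v.1
  rw [h2]
  rfl

theorem norm_single (u : (YE k k' f).left) (hu : (YE k k' f).hom u ≠ genericPoint X) :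
    ∃ h : (Z X).obj (YE k k' f) ⟶ D X,
      CycExt.Ns ((Z X).map (sg k k' f)) (Module.finrank k k') ≫ h =
        (Module.finrank k k' / Function.minimalPeriod (sp' k k' f) u) •
          (CycEt.aug (YE k k' f) ≫ SiteZU.lift.{u + 1} ((divEquiv hX).symm
            (Finsupp.single ⟨(YE k k' f).hom u, hu⟩ 1))) := by
  obtain ⟨d, hd⟩ := exists_single_et hX (YE k k' f) u hu
  refine ⟨SiteZU.lift.{u + 1} d, ?_⟩
  apply SiteZU.ev_injective.{u + 1}
  rw [ev_Ns, SiteZU.ev_lift]
  refine Eq.trans ?_ (map_nsmul (SiteZU.ev.{u + 1} (U := YE k k' f) (F := D X)) _ _).symm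
  have h1 : SiteZU.ev.{u + 1} (CycEt.aug (YE k k' f) ≫ SiteZU.lift.{u + 1} ((divEquiv hX).symm
      (Finsupp.single ⟨(YE k k' f).hom u, hu⟩ 1))) =
      (D X).obj.map ((EtCore.topIsTerminal X).from (YE k k' f)).op ((divEquiv hX).symm
        (Finsupp.single ⟨(YE k k' f).hom u, hu⟩ 1)) := by
    refine (SiteZU.ev_map_comp.{u + 1} _ _).trans ?_
    rw [SiteZU.ev_lift]
  rw [h1]
  apply vals_injective hX
  change valsHom hX _ _ = valsHom hX _ _
  rw [map_sum, map_nsmul]
  funext v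
  rw [Finset.sum_apply, Pi.smul_apply]
  have h2 : ∀ i ∈ Finset.range (Module.finrank k k'),
      valsHom hX (YE k k' f) ((D X).obj.map (CycEt.pw (sg k k' f) i).op d) v =
        ind (α := (pullback f (sp k k') : Scheme.{u})) u (sgl k k' f i v.1) := by
    intro i _
    refine (vals_map hX (CycEt.pw (sg k k' f) i) d v).trans ?_
    rw [hd]
    change ind u ((CycEt.pw (sg k k' f) i).left v.1) = _
    exact congrArg (fun z : (YE k k' f).left ⟶ (YE k k' f).left => ind u (z v.1)) (pw_sg_left k k' f i)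
  rw [Finset.sum_congr rfl h2]
  have h3 : valsHom hX (YE k k' f) ((D X).obj.map ((EtCore.topIsTerminal X).from (YE k k' f)).op
      ((divEquiv hX).symm (Finsupp.single ⟨(YE k k' f).hom u, hu⟩ 1))) v =
      Finsupp.single (⟨(YE k k' f).hom u, hu⟩ : {x : X // x ≠ genericPoint X}) 1
        ⟨(YE k k' f).hom v.1, v.2⟩ := vals_divEquiv hX (YE k k' f) _ v
  rw [h3]
  classical
  rw [Finsupp.single_apply]
  by_cases hv : (YE k k' f).hom v.1 = (YE k k' f).hom u
  · have h4 : (⟨(YE k k' f).hom u, hu⟩ : {x : X // x ≠ genericPoint X}) = ⟨(YE k k' f).hom v.1, v.2⟩ :=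
      Subtype.ext hv.symm
    rw [if_pos h4, nsmul_one]
    exact CycFib.sum_ind k k' f u v.1 hv _ (ind_of_eq rfl) (fun w hw => ind_of_ne hw)
  · have h4 : (⟨(YE k k' f).hom u, hu⟩ : {x : X // x ≠ genericPoint X}) ≠ ⟨(YE k k' f).hom v.1, v.2⟩ :=
      fun h => hv (congrArg Subtype.val h).symm
    rw [if_neg h4, smul_zero]
    exact CycFib.sum_ind_zero k k' f u v.1 hv _ (fun w hw => ind_of_ne hw)

theorem ext_aux {S : ShortComplex (EtCoh.Ab X)} (hS : S.ShortExact) {A B : EtCoh.Ab X} (N : A ⟶ A)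
    (h : A ⟶ S.X₃) (p : A ⟶ B) (l : B ⟶ S.X₃) (e : ℕ) (hh : N ≫ h = e • (p ≫ l)) :
    (Ext.mk₀ N).comp ((Ext.mk₀ h).comp hS.extClass (zero_add 1)) (zero_add 1) =
      (Ext.mk₀ p).comp (e • (Ext.mk₀ l).comp hS.extClass (zero_add 1)) (zero_add 1) := by
  rw [Ext.mk₀_comp_mk₀_assoc, hh, ← Preadditive.comp_nsmul]
  refine (Ext.mk₀_comp_mk₀_assoc _ _ _).symm.trans ?_
  congr 1
  clear hh
  induction e with
  | zero => rw [zero_smul, zero_smul, Ext.mk₀_zero, Ext.zero_comp]
  | succ e ih => rw [succ_nsmul, succ_nsmul, Ext.mk₀_add, Ext.add_comp, ih]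

/-- **The norm of the class of a point.** -/
theorem exists_norm (u : (YE k k' f).left) (hu : (YE k k' f).hom u ≠ genericPoint X) :
    ∃ z : Ext ((Z X).obj (YE k k' f)) (EtCoh.Gm X) 1,
      (Ext.mk₀ (CycExt.Ns ((Z X).map (sg k k' f)) (Module.finrank k k'))).comp z (zero_add 1) =
        (Ext.mk₀ (CycEt.aug (YE k k' f))).comp
          (cls hX ((Module.finrank k k' / Function.minimalPeriod (sp' k k' f) u) •
            Finsupp.single ⟨(YE k k' f).hom u, hu⟩ 1)) (zero_add 1) := by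
  obtain ⟨h, hh⟩ := norm_single hX k k' f u hu
  refine ⟨(Ext.mk₀ (h : _ ⟶ (seq X).X₃)).comp (seq_shortExact hX).extClass (zero_add 1), ?_⟩
  rw [map_nsmul]
  exact ext_aux (seq_shortExact hX) _ h _ _ _ hh

end K281.CycNorm
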