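import Groth.Agent.Dix.K281.CycMain
import Groth.Agent.CurvesA.AcycEtale
import Groth.Agent.Sga4h.EtaleRes2

/-!
# Classes of degree two on smooth proper curves over finite fields, killed by a constant field extension
-/

set_option autoImplicit false
set_option linter.unusedSectionVars false
universe u

open CategoryTheory CategoryTheory.Limits CategoryTheory.Abelian AlgebraicGeometry Opposite TopologicalSpace
open FiniteField
open Groth.Agent.CurvesA
open Groth.Agent.Etbase Groth.Agent.Etcore.EtZ
open Groth.Agent.MiscA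

noncomputable section

namespace K281.CycSmooth

open CycBase CycFib CycDiv CycCls CycArith CycTors CycMain

/-- The Picard group of a smooth proper geometrically irreducible curve over a finite field is an extension of
a subgroup of `ℤ` by a finite group. -/
theorem exists_degree {k : Type u} [Field k] [Finite k] {X : Scheme.{u}}
    (f : X ⟶ Spec (CommRingCat.of k)) [GeometricallyIrreducible f]
    (hX : Curve.IsSmoothProperCurve k X f) : ∃ d : EtCoh.H X (EtCoh.Gm X) 1 →+ ℤ, Finite d.ker := by
  have hI : IsIntegral X := hX.2.2.1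
  have h1 := hX.1
  have h2 := hX.2.1
  let := (Spec.preimage (CurvePlaces.genericPt X ≫ f)).hom.toAlgebra
  have hk : CurvePlaces.genericPt X ≫ f =
      Spec.map (CommRingCat.ofHom (algebraMap k X.functionField)) :=
    (Spec.map_preimage _).symm
  have hsep := WCSep.exists_isSep f hX.2.2.2 hk
  exact exists_degree_aux f hk hX hsep
    (fun x hx => CurveConst.mem_range_of_isAlgebraic k f hk x hx)

theorem exists_degree_ext {X : Scheme.{u}} (V : X.Etale) (h : ∃ d : EtCoh.H V.left (EtCoh.Gm V.left) 1 →+ ℤ, Finite d.ker) :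
    ∃ d : Ext ((Z X).obj V) (EtCoh.Gm X) 1 →+ ℤ, Finite d.ker := by
  obtain ⟨d, hd⟩ := h
  have hj := Groth.Agent.Sga4h.EtaleRes.jCont V.hom
  let e1 : Ext ((Z X).obj V) (EtCoh.Gm X) 1 ≃+
      EtCoh.H V.left ((EtShriek.restrAlong V.hom).obj (EtCoh.Gm X)) 1 :=
    AcycEtale.extEquivH V (EtCoh.Gm X) 1
  let ι := Groth.Agent.Sga4h.EtaleRes2.GmRestr V.hom
  let m : EtCoh.H V.left ((EtShriek.restrAlong V.hom).obj (EtCoh.Gm X)) 1 →+
      EtCoh.H V.left (EtCoh.Gm V.left) 1 := (Ext.mk₀ ι.hom).postcomp _ (add_zero 1)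
  have hm : Function.Injective m := by
    intro a b hab
    have h1 := congrArg (fun y => Ext.comp y (Ext.mk₀ ι.inv) (add_zero 1)) hab
    change (a.comp (Ext.mk₀ ι.hom) (add_zero 1)).comp (Ext.mk₀ ι.inv) (add_zero 1) =
      (b.comp (Ext.mk₀ ι.hom) (add_zero 1)).comp (Ext.mk₀ ι.inv) (add_zero 1) at h1
    rw [Ext.comp_assoc_of_third_deg_zero, Ext.comp_assoc_of_third_deg_zero, Ext.mk₀_comp_mk₀,
      Iso.hom_inv_id, Ext.comp_mk₀_id, Ext.comp_mk₀_id] at h1
    exact h1
  let F : Ext ((Z X).obj V) (EtCoh.Gm X) 1 →+ EtCoh.H V.left (EtCoh.Gm V.left) 1 :=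
    m.comp e1.toAddMonoidHom
  have hF : Function.Injective F := hm.comp e1.injective
  refine ⟨d.comp F, ?_⟩
  refine Finite.of_injective (β := d.ker) (fun c => ⟨F c.1, c.2⟩) ?_
  intro a b hab
  exact Subtype.ext (hF (congrArg Subtype.val hab))

/-- **Classes of degree two killed by a constant field extension vanish** (smooth case). -/
theorem eq_zero {k : Type u} [Field k] [Fintype k] (k' : Type u) [Field k'] [Finite k'] [Algebra k k']
    {X : Scheme.{u}} (f : X ⟶ Spec (CommRingCat.of k)) [GeometricallyIrreducible f]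
    (hX : Curve.IsSmoothProperCurve k X f) (α : Ext ((Z X).obj (EtCoh.top X)) (EtCoh.Gm X) 2)
    (hα : (Ext.mk₀ (CycEt.aug (YE k k' f))).comp α (zero_add 2) = 0) : α = 0 := by
  have hI : IsIntegral X := hX.2.2.1
  have h1 := hX.1
  have h2 := hX.2.1
  let := (Spec.preimage (CurvePlaces.genericPt X ≫ f)).hom.toAlgebra
  have hk : CurvePlaces.genericPt X ≫ f =
      Spec.map (CommRingCat.ofHom (algebraMap k X.functionField)) :=
    (Spec.map_preimage _).symm
  have hsep := WCSep.exists_isSep f hX.2.2.2 hk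
  have hconst : ∀ x : X.functionField, IsAlgebraic k x → x ∈ (algebraMap k X.functionField).range :=
    fun x hx => CurveConst.mem_range_of_isAlgebraic k f hk x hx
  have hN := CurveH1E.isNoetherian_of_isSmoothProperCurve f hX
  have hLN : IsLocallyNoetherian X := inferInstance
  have hCS : CompactSpace X := inferInstance
  have hD : DivPoint.IsDed X := fun x hx => CurveH1E.isDiscreteValuationRing_stalk f hX x hx
  -- the covering
  have hc := cyc k k' f
  have hY : Curve.IsSmoothProperCurve k' (pullback f (sp k k')) (pullback.snd f (sp k k')) :=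
    (Groth.Agent.Models.H57.GeoInt.isSmoothProperCurve_pullback f hX (isIso_appTop f) (algebraMap k k')).1
  have hYI : IsIntegral (pullback f (sp k k')) := hY.2.2.1
  have hb : Function.Bijective (gl (pullback.snd f (sp k k'))) := gl_bijective _
  have hdeg := exists_degree (X := pullback f (sp k k')) (pullback.snd f (sp k k')) hY
  obtain ⟨d, hd⟩ := exists_degree_ext (YE k k' f) hdeg
  obtain ⟨c₀, hc₀⟩ := exists_nontorsion f hk hX hsep hD
  have := CycEt.epi_aug hc
  refine CycExt.main ((Z X).map (sg k k' f)) (CycEt.aug (YE k k' f)) (Module.finrank k k') Module.finrank_pos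
    CycEt.sub_aug (CycEt.exact₁ hc) (CycEt.Ns_sub hc) (CycEt.exact₂ hc) (CycEt.sub_Ns hc) (CycEt.pw_map hc)
    (EtCoh.Gm X) (norm_surj k k' f hb) d hd c₀ hc₀ (fun c' hc' => ?_) α hα
  exact exists_norm_of_torsion k' f hk hX hsep hconst hD c' hc'

end K281.CycSmooth
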