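import Groth.Agent.Dix.K281.CycArith

/-!
# Torsion classes become norms in constant field extensions
-/

set_option autoImplicit false
set_option linter.unusedSectionVars false
universe u

open CategoryTheory CategoryTheory.Limits CategoryTheory.Abelian AlgebraicGeometry Opposite TopologicalSpace
open FiniteField
open Groth.Agent.CurvesA Groth.Agent.CurvesA.DivPoint Groth.Agent.CurvesA.PtFun Groth.Agent.CurvesA.GmFunct
  Groth.Agent.CurvesA.OrdMap Groth.Agent.CurvesA.DivSheaf Groth.Agent.CurvesA.DivTop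
open Groth.Agent.Etbase Groth.Agent.Etcore.EtZ
open Groth.Agent.MiscA Groth.Agent.MiscA.WCPlace Groth.Agent.MiscA.WCPlaceCrv Groth.Agent.MiscA.WCPlaceRes
  Groth.Agent.MiscA.CurveDict Groth.Agent.MiscA.ZetaAbs Groth.Agent.MiscA.ZetaAbsCount Groth.Agent.Models.FFRR
open Groth.Agent.MiscA.CurveH1D

noncomputable section

namespace K281.CycTors

open CycBase CycFib CycDiv CycCls CycArith

section homs

variable {X : Scheme.{u}} (k k' : Type u) [Field k] [Field k'] [Fintype k] [Finite k'] [Algebra k k']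
  (f : X ⟶ Spec (CommRingCat.of k))

/-- pullback of classes -/
def φs : Ext ((Z X).obj (EtCoh.top X)) (EtCoh.Gm X) 1 →+ Ext ((Z X).obj (YE k k' f)) (EtCoh.Gm X) 1 :=
  (Ext.mk₀ (CycEt.aug (YE k k' f))).precomp (EtCoh.Gm X) (zero_add 1)

/-- norm of classes -/
def Nms : Ext ((Z X).obj (YE k k' f)) (EtCoh.Gm X) 1 →+ Ext ((Z X).obj (YE k k' f)) (EtCoh.Gm X) 1 :=
  (Ext.mk₀ (CycExt.Ns ((Z X).map (sg k k' f)) (Module.finrank k k'))).precomp (EtCoh.Gm X) (zero_add 1)

end homs

variable {k : Type u} [Field k] [Fintype k] (k' : Type u) [Field k'] [Finite k'] [Algebra k k']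
  {X : Scheme.{u}} [IsIntegral X] [IsLocallyNoetherian X] [CompactSpace X]
  (f : X ⟶ Spec (CommRingCat.of k)) [GeometricallyIrreducible f] [Algebra k X.functionField]
  (hk : CurvePlaces.genericPt X ≫ f = Spec.map (CommRingCat.ofHom (algebraMap k X.functionField)))
  (hX : Curve.IsSmoothProperCurve k X f) (h : ∃ t : X.functionField, IsSep k X.functionField t)
  (hconst : ∀ x : X.functionField, IsAlgebraic k x → x ∈ (algebraMap k X.functionField).range)
  (hD : IsDed X)

/-- divisors whose class becomes a norm -/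
def H : AddSubgroup (Place k X.functionField →₀ ℤ) :=
  (((Nms k k' f).range.comap (φs k k' f)).comap (cls hD)).comap (dvEquiv f hk hX).symm.toAddMonoidHom

theorem mem_H (D : Place k X.functionField →₀ ℤ) : D ∈ H k' f hk hX hD ↔
    ∃ z, Nms k k' f z = φs k k' f (cls hD ((dvEquiv f hk hX).symm D)) := Iff.rfl

theorem prin_le : ZetaCrv.prin (crv h) ≤ H k' f hk hX hD := by
  intro D hDp
  rw [mem_H]
  rw [← princ_eq, ← ker_divCls f hk hX h hD] at hDp
  obtain ⟨E, hE, rfl⟩ := hDp
  refine ⟨0, ?_⟩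
  have h1 : (dvEquiv f hk hX).symm ((dvEquiv f hk hX) E) = E := AddEquiv.symm_apply_apply _ _
  have h2 : cls hD E = 0 := (cls_eq_zero_iff hD E).2 hE
  rw [map_zero]
  change 0 = φs k k' f (cls hD ((dvEquiv f hk hX).symm ((dvEquiv f hk hX) E)))
  rw [h1, h2, map_zero]

theorem dg0_eq (x : Pt X) : (crv h).dg0 (ptEquiv f hk hX x) =
    @Module.finrank k (X.residueField x.1) _ _ (WCBridge.resHom f x.1).toAlgebra.toModule := by
  have := hX.1
  have := hX.2.1
  rw [dg0_eq_finrank]
  exact (WCBridge.finrank_residueField f hk hX.2.2.2 ⟨x.1, (ne_genericPoint_iff f hX x.1).1 x.2⟩).symm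

theorem mem_H_of_dvd (P : Place k X.functionField) (m : ℕ) (hnm : Module.finrank k k' ∣ m)
    (ham : (crv h).dg0 P ∣ m) : (m / (crv h).dg0 P) • Finsupp.single P (1 : ℤ) ∈ H k' f hk hX hD := by
  obtain ⟨x, rfl⟩ := (ptEquiv f hk hX).surjective P
  have hs : Surjective (pullback.fst f (sp k k')) := inferInstance
  obtain ⟨u, hu⟩ := hs.surj x.1
  have hu' : (YE k k' f).hom u = x.1 := hu
  have hux : (YE k k' f).hom u ≠ genericPoint X := by rw [hu']; exact x.2
  obtain ⟨z, hz⟩ := CycNorm.exists_norm hD k k' f u hux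
  have hpos : 0 < (crv h).dg0 (ptEquiv f hk hX x) := (crv_fin h).dg0_pos _
  have hdvd : Module.finrank k k' / Function.minimalPeriod (sp' k k' f) u ∣
      m / (crv h).dg0 (ptEquiv f hk hX x) := by
    refine CycGcd.dvd_div (Module.finrank k k') ((crv h).dg0 (ptEquiv f hk hX x))
      (Function.minimalPeriod (sp' k k' f) u) m Module.finrank_pos hpos (minimalPeriod_dvd k k' f u) ?_ hnm ham
    have hfd : @FiniteDimensional k (X.residueField x.1) _ _ (WCBridge.resHom f x.1).toAlgebra.toModule := by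
      let := (WCBridge.resHom f x.1).toAlgebra
      refine Module.finite_of_finrank_pos ?_
      rw [dg0_eq f hk hX h x] at hpos
      exact hpos
    rw [dg0_eq f hk hX h x]
    exact gcd_dvd_minimalPeriod k k' f u x.1 hu hfd
  obtain ⟨s, hs'⟩ := hdvd
  rw [mem_H]
  refine ⟨s • z, ?_⟩
  have h1 : (dvEquiv f hk hX).symm ((m / (crv h).dg0 (ptEquiv f hk hX x)) •
      Finsupp.single (ptEquiv f hk hX x) (1 : ℤ)) =
      s • ((Module.finrank k k' / Function.minimalPeriod (sp' k k' f) u) •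
        Finsupp.single (⟨(YE k k' f).hom u, hux⟩ : Pt X) 1) := by
    have h2 : (⟨(YE k k' f).hom u, hux⟩ : Pt X) = x := Subtype.ext hu'
    rw [h2, hs', ← mul_smul, mul_comm s, map_nsmul]
    congr 1
    rw [AddEquiv.symm_apply_eq]
    ext Q
    rw [dvEquiv_apply]
    classical
    rw [Finsupp.single_apply, Finsupp.single_apply]
    by_cases hQ : ptEquiv f hk hX x = Q
    · rw [if_pos hQ, if_pos]
      rw [← hQ, Equiv.symm_apply_apply]
    · rw [if_neg hQ, if_neg]
      intro hQ'
      apply hQ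
      rw [hQ', Equiv.apply_symm_apply]
  rw [h1, map_nsmul, map_nsmul, map_nsmul]
  exact congrArg (s • ·) hz

include hconst in
theorem mem_H_of_deg (D : Place k X.functionField →₀ ℤ) (hD0 : degZ (crv h).dg0 D = 0) :
    D ∈ H k' f hk hX hD := by
  have := nonempty_place h
  have hC := crv_fin h
  have h1 := l_zero_eq_one h hconst
  refine ZetaChar.mem_of_deg_eq_zero (crv h).dg0 hC.dg0_pos (ZetaCrv.finite_places hC h1) (Nat.card k)
    ((crv h).i 0) Finite.one_lt_card (ZetaCrv.prin (crv h)) (deg_prin h) (crv h).l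
    (ZetaCrv.card_linearSystem hC h1) ?_ (Module.finrank k k') Module.finrank_pos (H k' f hk hX hD)
    (prin_le k' f hk hX h hD) (fun P m _ hnm ham => mem_H_of_dvd k' f hk hX h hD P m hnm ham) D hD0
  intro D hD
  rw [ZetaCrv.degZ_eq] at hD ⊢
  exact hC.l_eq h1 hD

include hconst hk hX h hD in
/-- **Torsion classes become norms.** -/
theorem exists_norm_of_torsion (c' : Ext ((Z X).obj (EtCoh.top X)) (EtCoh.Gm X) 1)
    (hc : ∃ t : ℕ, 0 < t ∧ t • c' = 0) : ∃ z, Nms k k' f z = φs k k' f c' := by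
  obtain ⟨t, ht, hc⟩ := hc
  obtain ⟨E, rfl⟩ := cls_surjective hD c'
  rw [← map_nsmul, cls_eq_zero_iff] at hc
  have h1 : t • dvEquiv f hk hX E ∈ ZetaCrv.prin (crv h) := by
    rw [← princ_eq, ← ker_divCls f hk hX h hD, ← map_nsmul]
    exact ⟨_, hc, rfl⟩
  have h2 := deg_prin h _ h1
  have h3 : degZ (crv h).dg0 (dvEquiv f hk hX E) = 0 := by
    rw [← degHom_apply, map_nsmul, smul_eq_zero] at h2
    rcases h2 with h2 | h2
    · omega
    · exact h2
  have h4 := mem_H_of_deg k' f hk hX h hconst hD _ h3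
  rw [mem_H, AddEquiv.symm_apply_apply] at h4
  exact h4

include hk hX h hD in
theorem exists_nontorsion : ∃ c₀ : Ext ((Z X).obj (EtCoh.top X)) (EtCoh.Gm X) 1,
    ∀ t : ℕ, t • c₀ = 0 → t = 0 := by
  obtain ⟨P⟩ := nonempty_place h
  refine ⟨cls hD ((dvEquiv f hk hX).symm (Finsupp.single P 1)), fun t ht => ?_⟩
  rw [← map_nsmul, cls_eq_zero_iff] at ht
  have h1 : t • (Finsupp.single P 1 : Place k X.functionField →₀ ℤ) ∈ ZetaCrv.prin (crv h) := by
    rw [← princ_eq, ← ker_divCls f hk hX h hD]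
    refine ⟨_, ht, ?_⟩
    change dvEquiv f hk hX (t • (dvEquiv f hk hX).symm (Finsupp.single P 1)) = _
    rw [map_nsmul, AddEquiv.apply_symm_apply]
  have h2 := deg_prin h _ h1
  rw [← degHom_apply, map_nsmul, degHom_single, one_mul, smul_eq_zero] at h2
  rcases h2 with h2 | h2
  · exact h2
  · have := (crv_fin h).dg0_pos P
    omega

end K281.CycTors
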