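import Groth.Agent.CohtopA.GmDivFinal
import Groth.Agent.CohtopA.GmDivH1

/-!
# The divisor at the points outside a dense open subscheme of a section of `j_* G_m`

`j : W ⟶ Z` an open immersion whose image contains the generic points of `Z`, all étale `Z`-schemes locally
Noetherian with factorial local rings.
* `evW` : evaluation of a section of `j_* G_m` over `U` in the fraction field of `O_{U,u}`;
* `evW_map`, `evW_specializes`, `evW_gm`.
-/

set_option autoImplicit false
universe u

open CategoryTheory CategoryTheory.Limits AlgebraicGeometry Opposite TopologicalSpace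

namespace K281.DivEval

open Groth.Agent.CohtopA Groth.Agent.CohtopA.GmDivGen Groth.Agent.CohtopA.GmDivEval
open Groth.Agent.CohtopA.GmDivPt Groth.Agent.CohtopA.GmDivVal Groth.Agent.CohtopA.GmDivFun
open Groth.Agent.CohtopA.GmDivD Groth.Agent.CohtopA.GmDivSch

variable {Z W : Scheme.{u}} (j : W ⟶ Z)

/-- The image of `j` contains the generic points. -/
class HasGen : Prop where
  mem : ∀ z : Z, IsGen Z z → z ∈ Set.range j

lemma evP_congr {L : CommRingCat.{u}} {U : Z.Etale} {t t₁ : Spec L ⟶ U.left} {t' t₁' : Spec L ⟶ W}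
    (e : t = t₁) (e' : t' = t₁') (h : t ≫ U.hom = t' ≫ j) (h₁ : t₁ ≫ U.hom = t₁' ≫ j)
    (s : EtCoh.sect ((EtCoh.push j).obj (EtCoh.Gm W)) U) : evP j t t' h s = evP j t₁ t₁' h₁ s := by
  subst e e'
  rfl

instance etale_hom (V : Z.Etale) : Etale (X := V.left) (Y := Z) V.hom := V.prop

variable [IsOpenImmersion j] [ELF Z] [HasGen j]

/-- The point of `W` attached to the generic point of a local ring. -/
noncomputable def tW {U : Z.Etale} (u : U.left) :
    Spec (.of (FractionRing (U.left.presheaf.stalk u))) ⟶ W :=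
  IsOpenImmersion.lift j (tU U.left u ≫ U.hom) (by
    rintro _ ⟨p, rfl⟩
    apply HasGen.mem
    rw [Scheme.Hom.comp_apply]
    exact (isGen_apply_iff (X := Z) (Y := U.left) U.hom (tU U.left u p)).1 (isGen_tU u p))

lemma tW_fac {U : Z.Etale} (u : U.left) : tU U.left u ≫ U.hom = tW j u ≫ j :=
  (IsOpenImmersion.lift_fac _ _ _).symm

/-- Evaluation in the fraction field of the local ring at a point. -/
noncomputable def evW {U : Z.Etale} (u : U.left) :
    EtCoh.sect ((EtCoh.push j).obj (EtCoh.Gm W)) U →+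
      Additive (FractionRing (U.left.presheaf.stalk u))ˣ :=
  AddMonoidHom.mk' (fun s => Additive.ofMul (evP j (tU U.left u) (tW j u) (tW_fac j u) s))
    (fun s t => congrArg Additive.ofMul (evP_add j _ _ _ s t))

lemma evW_apply {U : Z.Etale} (u : U.left)
    (s : EtCoh.sect ((EtCoh.push j).obj (EtCoh.Gm W)) U) :
    evW j u s = Additive.ofMul (evP j (tU U.left u) (tW j u) (tW_fac j u) s) := rfl

lemma evW_map {U V : Z.Etale} (g : V ⟶ U) (v : V.left)
    (s : EtCoh.sect ((EtCoh.push j).obj (EtCoh.Gm W)) U) :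
    evW j v (((EtCoh.push j).obj (EtCoh.Gm W)).obj.map g.op s) =
      (Units.map (fracMap g.left v).toMonoidHom).toAdditive (evW j (g.left v) s) := by
  have hw : g.left ≫ U.hom = V.hom := CategoryTheory.Over.w g.hom
  have h1 : tU V.left v ≫ g.left =
      Spec.map (CommRingCat.ofHom (fracMap g.left v)) ≫ tU U.left (g.left v) := (tU_map g.left v).symm
  have h2 : tW j v = Spec.map (CommRingCat.ofHom (fracMap g.left v)) ≫ tW j (g.left v) := by
    rw [← cancel_mono j, ← tW_fac j, Category.assoc, ← tW_fac j, ← Category.assoc, ← h1, Category.assoc, hw]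
  have h' : (tU V.left v ≫ g.left) ≫ U.hom = tW j v ≫ j := by
    rw [Category.assoc, hw, tW_fac j]
  have h'' : (Spec.map (CommRingCat.ofHom (fracMap g.left v)) ≫ tU U.left (g.left v)) ≫ U.hom =
      (Spec.map (CommRingCat.ofHom (fracMap g.left v)) ≫ tW j (g.left v)) ≫ j := by
    rw [← h1, ← h2, h']
  rw [evW_apply, evP_map j g _ _ _ h', evP_congr j h1 h2 h' h'', evP_Spec_map j _ _ _ (tW_fac j _) h'']
  rfl

lemma evW_specializes {U : Z.Etale} {x y : U.left} (h : y ⤳ x)
    (s : EtCoh.sect ((EtCoh.push j).obj (EtCoh.Gm W)) U) :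
    evW j y s = (Units.map (fracSp h).toMonoidHom).toAdditive (evW j x s) := by
  have h1 : tU U.left y = Spec.map (CommRingCat.ofHom (fracSp h)) ≫ tU U.left x := (tU_specializes h).symm
  have h2 : tW j y = Spec.map (CommRingCat.ofHom (fracSp h)) ≫ tW j x := by
    rw [← cancel_mono j, ← tW_fac j, Category.assoc, ← tW_fac j, ← Category.assoc, ← h1]
  have h'' : (Spec.map (CommRingCat.ofHom (fracSp h)) ≫ tU U.left x) ≫ U.hom =
      (Spec.map (CommRingCat.ofHom (fracSp h)) ≫ tW j x) ≫ j := by
    rw [← h1, ← h2, tW_fac j]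
  rw [evW_apply, evP_congr j h1 h2 _ h'', evP_Spec_map j _ _ _ (tW_fac j _) h'']
  rfl

lemma evW_gm {U : Z.Etale} (u : U.left) (s : EtCoh.sect (EtCoh.Gm Z) U) :
    evW j u ((gmPush j).hom.app (op U) s) = Additive.ofMul (Units.map
      ((algebraMap (U.left.presheaf.stalk u) (FractionRing (U.left.presheaf.stalk u))).comp
        (U.left.presheaf.germ ⊤ u trivial).hom).toMonoidHom (toUnit s)) := by
  rw [evW_apply, evP_gmPush]
  congr 1
  ext
  exact evalHom_tU u _

/-- At a point over `W` the value is a unit of the local ring. -/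
lemma exists_unit_of_mem {U : Z.Etale} (u : U.left) (hu : U.hom u ∈ Set.range j)
    (s : EtCoh.sect ((EtCoh.push j).obj (EtCoh.Gm W)) U) :
    ∃ r : (U.left.presheaf.stalk u)ˣ, algebraMap (U.left.presheaf.stalk u)
      (FractionRing (U.left.presheaf.stalk u)) r = (evW j u s).toMul := by
  have hr : Set.range (U.left.fromSpecStalk u ≫ U.hom) ⊆ Set.range j := by
    rintro _ ⟨p, rfl⟩
    rw [Scheme.Hom.comp_apply]
    have h1 : U.left.fromSpecStalk u p ⤳ u := by
      have : U.left.fromSpecStalk u p ∈ Set.range (U.left.fromSpecStalk u) := ⟨p, rfl⟩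
      rwa [Scheme.range_fromSpecStalk] at this
    exact (h1.map (X := U.left) (Y := Z) (Scheme.Hom.continuous (X := U.left) (Y := Z) U.hom)).mem_open
      j.isOpenEmbedding.isOpen_range hu
  let t' : Spec (U.left.presheaf.stalk u) ⟶ W :=
    IsOpenImmersion.lift j (U.left.fromSpecStalk u ≫ U.hom) hr
  have ht' : U.left.fromSpecStalk u ≫ U.hom = t' ≫ j := (IsOpenImmersion.lift_fac _ _ _).symm
  let φ : U.left.presheaf.stalk u ⟶ CommRingCat.of (FractionRing (U.left.presheaf.stalk u)) :=
    CommRingCat.ofHom (algebraMap (U.left.presheaf.stalk u) (FractionRing (U.left.presheaf.stalk u)))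
  have h1 : tU U.left u = Spec.map φ ≫ U.left.fromSpecStalk u := rfl
  have h2 : tW j u = Spec.map φ ≫ t' := by
    rw [← cancel_mono j, ← tW_fac j, Category.assoc, ← ht', h1, Category.assoc]
  have h'' : (Spec.map φ ≫ U.left.fromSpecStalk u) ≫ U.hom = (Spec.map φ ≫ t') ≫ j := by
    rw [← h1, ← h2, tW_fac j]
  refine ⟨evP j (U.left.fromSpecStalk u) t' ht' s, ?_⟩
  rw [evW_apply, evP_congr j h1 h2 _ h'', evP_Spec_map j φ _ _ ht' h'']
  rfl

lemma ordPt_evW_of_mem {U : Z.Etale} (u : U.left) (hu : U.hom u ∈ Set.range j)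
    (s : EtCoh.sect ((EtCoh.push j).obj (EtCoh.Gm W)) U) : ordPt u (evW j u s) = 0 := by
  obtain ⟨r, hr⟩ := exists_unit_of_mem j u hu s
  exact ordPt_eq_zero_of_unit u _ r r.isUnit hr

/-- The points of codimension one outside `W`. -/
def TW : Set Z := {z | ringKrullDim (Z.presheaf.stalk z) = 1 ∧ z ∉ Set.range j}

omit [HasGen j] [IsOpenImmersion j] in
lemma dim_hom {V : Z.Etale} (y : V.left) : ringKrullDim (V.left.presheaf.stalk y) =
    ringKrullDim (Z.presheaf.stalk (V.hom y)) :=
  Groth.Agent.Etbase.EtaleStalk.ringKrullDim_stalk (X := V.left) (Y := Z) V.hom y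

lemma mem_TW {U : Z.Etale} (u : U.left)
    (s : EtCoh.sect ((EtCoh.push j).obj (EtCoh.Gm W)) U) (h : ordPt u (evW j u s) ≠ 0) :
    U.hom u ∈ TW j := by
  refine ⟨?_, fun hu => h (ordPt_evW_of_mem j u hu s)⟩
  rw [← dim_hom u]
  by_contra hd
  exact h (by rw [ordPt_of_not u hd]; rfl)

/-- The divisor outside `W` of a section of `j_* G_m`. -/
noncomputable def ΦW : (EtCoh.push j).obj (EtCoh.Gm W) ⟶ dSheaf Z ℤ (TW j) :=
  ⟨{ app := fun U => AddCommGrpCat.ofHom
      (show EtCoh.sect ((EtCoh.push j).obj (EtCoh.Gm W)) U.unop →+ dSub Z ℤ (TW j) U.unop from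
      { toFun := fun s => ⟨fun v => ULift.up (ordPt v (evW j v s)), fun v hv =>
          mem_TW j v s (fun h => hv (congrArg ULift.up h))⟩
        map_zero' := by
          apply Subtype.ext
          funext v
          change ULift.up (ordPt v (evW j v 0)) = 0
          rw [map_zero, map_zero]
          rfl
        map_add' := fun s t => by
          apply Subtype.ext
          funext v
          change ULift.up (ordPt v (evW j v (s + t))) =
            ULift.up (ordPt v (evW j v s)) + ULift.up (ordPt v (evW j v t))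
          rw [map_add, map_add]
          rfl })
     naturality := by
      intro U V g
      ext s
      apply Subtype.ext
      funext v
      change ULift.up (ordPt v (evW j v (((EtCoh.push j).obj (EtCoh.Gm W)).obj.map g.unop.op s))) =
        ULift.up (ordPt (g.unop.left v) (evW j (g.unop.left v) s))
      rw [evW_map, ordPt_map] }⟩

lemma ΦW_apply {U : Z.Etale} (s : EtCoh.sect ((EtCoh.push j).obj (EtCoh.Gm W)) U) (v : U.left) :
    ((ΦW j).hom.app (op U) s : dSub Z ℤ (TW j) U).1 v = ULift.up (ordPt v (evW j v s)) := rfl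

lemma gm_ΦW : gmPush j ≫ ΦW j = 0 := by
  ext U s
  apply Subtype.ext
  funext v
  change ULift.up (ordPt v (evW j v ((gmPush j).hom.app (op U.unop) s))) = ULift.up 0
  rw [evW_gm]
  congr 1
  refine ordPt_eq_zero_of_unit v _ (U.unop.left.presheaf.germ ⊤ v trivial (toUnit s)) ?_ rfl
  exact (toUnit s).isUnit.map (U.unop.left.presheaf.germ ⊤ v trivial).hom

end K281.DivEval
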