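import Groth.Agent.Dix.K281.DivEval

/-!
# The exact sequence `0 → G_m → j_* G_m → dSheaf (TW j) → 0`
-/

set_option autoImplicit false
universe u

open CategoryTheory CategoryTheory.Limits AlgebraicGeometry Opposite TopologicalSpace

namespace K281.DivExact

open K281.DivEval
open Groth.Agent.CohtopA Groth.Agent.CohtopA.GmDivGen Groth.Agent.CohtopA.GmDivEval
open Groth.Agent.CohtopA.GmDivPt Groth.Agent.CohtopA.GmDivVal Groth.Agent.CohtopA.GmDivFun
open Groth.Agent.CohtopA.GmDivD Groth.Agent.CohtopA.GmDivSch Groth.Agent.CohtopA.GmDivLoc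
open Groth.Agent.CohtopA.GmDivFinal Groth.Agent.CohtopA.GmOrdAlg

section Scheme

/-- Two global units of an integral scheme with the same value at a field valued generic point agree. -/
lemma eq_of_evalHom {I : Scheme.{u}} [IsIntegral I] {L : Type u} [Field L] (l : Spec (.of L) ⟶ I)
    (hl : ∀ p (O : I.Opens), (O : Set I).Nonempty → l p ∈ O) (a b : Γ(I, ⊤))
    (h : evalHom l a = evalHom l b) : a = b := by
  rw [← sub_eq_zero]
  by_contra hne
  have h1 : I.basicOpen (a - b) ≠ ⊥ := fun h => hne ((basicOpen_eq_bot_iff (a - b)).1 h)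
  have h2 : ((I.basicOpen (a - b) : I.Opens) : Set I).Nonempty := by
    rw [Set.nonempty_iff_ne_empty]
    intro h
    exact h1 (Opens.ext h)
  have h3 : l ⁻¹ᵁ I.basicOpen (a - b) = ⊤ := by
    rw [eq_top_iff]
    intro p _
    exact hl p _ h2
  have h4 : IsUnit (l.appTop.hom (a - b)) := by
    have h5 : (Spec (.of L)).basicOpen (l.appTop.hom (a - b)) = ⊤ :=
      (Scheme.preimage_basicOpen_top l (a - b)).symm.trans h3
    have h6 := RingedSpace.isUnit_res_basicOpen _ (l.appTop.hom (a - b))
    have h7 : ∀ (O : (Spec (.of L)).Opens) (hO : O ≤ ⊤) (_ : O = ⊤) (c : Γ(Spec (.of L), ⊤)),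
        IsUnit ((Spec (.of L)).presheaf.map (homOfLE hO).op c) → IsUnit c := by
      rintro _ hO rfl c hc
      have : (homOfLE hO).op = 𝟙 (op (⊤ : (Spec (.of L)).Opens)) := rfl
      rw [this, CategoryTheory.Functor.map_id] at hc
      exact hc
    exact h7 _ _ h5 _ h6
  have h5 : evalHom l (a - b) ≠ 0 := (h4.map (Scheme.ΓSpecIso (.of L)).hom.hom).ne_zero
  apply h5
  rw [map_sub, h, sub_self]

/-- A function which is a unit in all local rings is a unit. -/
lemma isUnit_of_germ {I : Scheme.{u}} (a : Γ(I, ⊤))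
    (h : ∀ z : I, IsUnit ((I.presheaf.germ ⊤ z trivial).hom a)) : IsUnit a := by
  have h5 : I.basicOpen a = ⊤ := by
    rw [eq_top_iff]
    intro z _
    exact (Scheme.mem_basicOpen_top I a z).2 (h z)
  have h6 := RingedSpace.isUnit_res_basicOpen _ a
  have h7 : ∀ (O : I.Opens) (hO : O ≤ ⊤) (_ : O = ⊤) (c : Γ(I, ⊤)),
      IsUnit (I.presheaf.map (homOfLE hO).op c) → IsUnit c := by
    rintro _ hO rfl c hc
    have : (homOfLE hO).op = 𝟙 (op (⊤ : I.Opens)) := rfl
    rw [this, CategoryTheory.Functor.map_id] at hc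
    exact hc
  exact h7 _ _ h5 _ h6

end Scheme

variable {Z W : Scheme.{u}} (j : W ⟶ Z) [IsOpenImmersion j] [ELF Z] [HasGen j]

omit [ELF Z] [HasGen j] in
lemma isOpenImmersion_fstE (U : Z.Etale) : IsOpenImmersion (fstE j U) :=
  MorphismProperty.of_isPullback (P := @IsOpenImmersion) (isPullback_E j U).flip inferInstance

lemma evW_val {U : Z.Etale} (u : U.left)
    (s : EtCoh.sect ((EtCoh.push j).obj (EtCoh.Gm W)) U) :
    ((evW j u s).toMul : FractionRing (U.left.presheaf.stalk u)) =
      evalHom ((isPullback_E j U).lift (tU U.left u) (tW j u) (tW_fac j u)) (toUnitP j s) := rfl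

/-- If `V` is integral then evaluation is injective. -/
lemma evW_injective {V : Z.Etale} [IsIntegral V.left] (v : V.left) :
    Function.Injective (evW j v) := by
  intro s t h
  apply toUnitP_injective j
  apply Units.ext
  have hoi := isOpenImmersion_fstE j V
  let l := (isPullback_E j V).lift (tU V.left v) (tW j v) (tW_fac j v)
  have hl : l ≫ fstE j V = tU V.left v := IsPullback.lift_fst _ _ _ _
  have hne : Nonempty ((EtCoh.bc j).obj V).left := ⟨l default⟩
  have hI : IsIntegral ((EtCoh.bc j).obj V).left := isIntegral_of_isOpenImmersion (fstE j V)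
  refine eq_of_evalHom l (fun p O hO => ?_) _ _ ?_
  · obtain ⟨o, ho⟩ := hO
    have h1 : fstE j V o ∈ fstE j V ''ᵁ O := ⟨o, ho, rfl⟩
    have h2 : tU V.left v p ⤳ fstE j V o := by
      have h3 := eq_of_isIntegral (isGen_tU v p) (isGen_genericPoint (Y := V.left))
      rw [h3]
      exact genericPoint_specializes _
    have h3 : tU V.left v p ∈ fstE j V ''ᵁ O := h2.mem_open (fstE j V ''ᵁ O).2 h1
    rw [← hl, Scheme.Hom.comp_apply] at h3
    obtain ⟨o', ho', he⟩ := h3
    have := (fstE j V).isOpenEmbedding.injective he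
    rwa [← this]
  · have h1 := congrArg (fun z : Additive (FractionRing (V.left.presheaf.stalk v))ˣ =>
      (z.toMul : FractionRing (V.left.presheaf.stalk v))) h
    exact h1

lemma evW_specializes_val {U : Z.Etale} {x y : U.left} (h : y ⤳ x)
    (s : EtCoh.sect ((EtCoh.push j).obj (EtCoh.Gm W)) U) :
    ((evW j y s).toMul : FractionRing (U.left.presheaf.stalk y)) =
      fracSp h ((evW j x s).toMul : FractionRing (U.left.presheaf.stalk x)) := by
  rw [evW_specializes j h s]
  rfl

/-- Hartogs: a section without divisor near `v` is a unit at `v`. -/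
lemma exists_unit_germ {V : Z.Etale} (s : EtCoh.sect ((EtCoh.push j).obj (EtCoh.Gm W)) V) (v : V.left)
    (hs : ∀ y : V.left, y ⤳ v → ordPt y (evW j y s) = 0) :
    ∃ r : (V.left.presheaf.stalk v)ˣ, algebraMap (V.left.presheaf.stalk v)
      (FractionRing (V.left.presheaf.stalk v)) r = (evW j v s).toMul := by
  apply exists_unit_of_forall_prime
  intro p hp
  have hq : (Ideal.span {p}).IsPrime := (Ideal.span_singleton_prime hp.ne_zero).2 hp
  have hdim := dim_ptOf_prime p hp
  have h : ptOf v (Ideal.span {p}) ⤳ v := ptOf_specializes v _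
  obtain ⟨r, hr⟩ := (ordPt_eq_zero_iff _ hdim _).1 (hs _ h)
  obtain ⟨b, c, hc, hbc⟩ := exists_frac h r
  have hmem : ∀ a : V.left.presheaf.stalk v, p ∣ a → ¬ IsUnit (sp h a) := by
    intro a ha hu
    have h1 : a ∈ qI h := by
      rw [qI_ptOf]
      exact Ideal.mem_span_singleton.2 ha
    exact (IsLocalRing.mem_maximalIdeal _).1 h1 hu
  refine ⟨b, c, fun hb => hmem b hb ?_, fun hc' => hmem c hc' hc, ?_⟩
  · rw [← hbc]
    exact r.isUnit.mul hc
  · apply (fracSp h).injective
    rw [map_mul, ← evW_specializes_val, fracSp_algebraMap, fracSp_algebraMap]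
    have e := congrArg (algebraMap _ (FractionRing (V.left.presheaf.stalk
      (ptOf v (Ideal.span {p}))))) hbc
    rw [map_mul, hr] at e
    exact e

lemma Φ_map_apply {U V : Z.Etale} (g : V ⟶ U)
    (s : EtCoh.sect ((EtCoh.push j).obj (EtCoh.Gm W)) U) (v : V.left) :
    ordPt v (evW j v (((EtCoh.push j).obj (EtCoh.Gm W)).obj.map g.op s)) =
      ordPt (g.left v) (evW j (g.left v) s) := by
  rw [evW_map, ordPt_map]

/-- Local lifting of sections without divisor to `G_m`, on an integral scheme. -/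
lemma exists_gm_lift_integral {V : Z.Etale} [IsIntegral V.left]
    (s : EtCoh.sect ((EtCoh.push j).obj (EtCoh.Gm W)) V)
    (hs : ∀ y : V.left, ordPt y (evW j y s) = 0) (v : V.left) :
    ∃ (N : V.left.Opens) (_ : v ∈ N) (r : EtCoh.sect (EtCoh.Gm Z) (resE V N)),
      (gmPush j).hom.app (op (resE V N)) r =
        ((EtCoh.push j).obj (EtCoh.Gm W)).obj.map (resι V N).op s := by
  obtain ⟨r, hr⟩ := exists_unit_germ j s v (fun y _ => hs y)
  obtain ⟨W₁, h₁, r', hr'⟩ := V.left.presheaf.exists_germ_eq (r : V.left.presheaf.stalk v)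
  let N := V.left.basicOpen r'
  have hv : v ∈ N := by
    refine (Scheme.mem_basicOpen _ _ _ h₁).2 ?_
    have : (V.left.presheaf.germ W₁ v h₁).hom r' = r := hr'
    rw [this]
    exact r.isUnit
  have hW : N ≤ W₁ := V.left.basicOpen_le _
  let r₂ : Γ(V.left, N) := (V.left.presheaf.map (homOfLE hW).op).hom r'
  have hr₂ : IsUnit r₂ := RingedSpace.isUnit_res_basicOpen _ r'
  have hr₂' : (V.left.presheaf.germ N v hv).hom r₂ = r := by
    refine Eq.trans ?_ hr'
    exact ConcreteCategory.congr_hom (V.left.presheaf.germ_res (homOfLE hW) v hv) r'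
  have hle : (⊤ : (resE V N).left.Opens) ≤ (resι V N).left ⁻¹ᵁ N := by
    intro x _
    exact x.2
  have hr₃ : IsUnit (((resι V N).left.appLE N ⊤ hle).hom r₂) := hr₂.map _
  refine ⟨N, hv, ofUnit hr₃.unit, ?_⟩
  have hint : IsIntegral (resE V N).left := by
    have : Nonempty N := ⟨⟨v, hv⟩⟩
    exact inferInstanceAs (IsIntegral (N : Scheme.{u}))
  let w : (resE V N).left := (⟨v, hv⟩ : N)
  have hinj := evW_injective j (V := resE V N) w
  apply hinj
  refine (evW_gm j w _).trans (Eq.trans ?_ (evW_map j (resι V N) w s).symm)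
  apply Additive.toMul.injective
  apply Units.ext
  change _ = fracMap (resι V N).left w ((evW j v s).toMul : FractionRing (V.left.presheaf.stalk v))
  have e3 : fracMap (resι V N).left w
        ((evW j v s).toMul : FractionRing (V.left.presheaf.stalk v)) =
        fracMap (resι V N).left w (algebraMap (V.left.presheaf.stalk v)
          (FractionRing (V.left.presheaf.stalk v)) r) := congrArg _ hr.symm
  refine Eq.trans ?_ e3.symm
  have e4 := fracMap_algebraMap (resι V N).left w (r : V.left.presheaf.stalk v)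
  refine Eq.trans ?_ e4.symm
  have e5 := germ_appLE (resι V N).left N hle w hv r₂
  rw [← hr₂']
  exact congrArg (algebraMap ((resE V N).left.presheaf.stalk w)
    (FractionRing ((resE V N).left.presheaf.stalk w))) e5

/-- Local lifting of sections without divisor to `G_m`. -/
lemma exists_gm_lift {U : Z.Etale} (s : EtCoh.sect ((EtCoh.push j).obj (EtCoh.Gm W)) U)
    (hs : (ΦW j).hom.app (op U) s = 0) (u : U.left) :
    ∃ (V : Z.Etale) (g : V ⟶ U), (∃ v : V.left, g.left v = u) ∧
      ∃ r : EtCoh.sect (EtCoh.Gm Z) V, (gmPush j).hom.app (op V) r =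
        ((EtCoh.push j).obj (EtCoh.Gm W)).obj.map g.op s := by
  obtain ⟨N, hu, h1, h2⟩ := exists_integral_nhds U u
  let V₁ := resE U N
  let v₁ : V₁.left := (⟨u, hu⟩ : N)
  let s₁ : EtCoh.sect ((EtCoh.push j).obj (EtCoh.Gm W)) V₁ :=
    ((EtCoh.push j).obj (EtCoh.Gm W)).obj.map (resι U N).op s
  have hs₁ : ∀ y : V₁.left, ordPt y (evW j y s₁) = 0 := by
    intro y
    rw [Φ_map_apply]
    have h3 := congrArg (fun d : dSub Z ℤ (TW j) U => (d.1 ((resι U N).left y)).down) hs
    exact h3
  obtain ⟨W₂, hv₂, r, hr⟩ := exists_gm_lift_integral j s₁ hs₁ v₁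
  refine ⟨resE V₁ W₂, resι V₁ W₂ ≫ resι U N, ⟨(⟨v₁, hv₂⟩ : W₂), rfl⟩, r, hr.trans ?_⟩
  rw [op_comp, Functor.map_comp]
  rfl

instance mono_gmPush : Mono (gmPush j) := by
  apply mono_of_injective
  intro U
  rw [injective_iff_map_eq_zero]
  intro s hs
  apply toUnit_injective
  apply Units.ext
  refine TopCat.Presheaf.section_ext U.left.sheaf ⊤ _ _ (fun u hu => ?_)
  have h1 := evW_gm j u s
  rw [hs, map_zero] at h1
  have h2 := congrArg (fun z : Additive (FractionRing (U.left.presheaf.stalk u))ˣ =>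
    (z.toMul : FractionRing (U.left.presheaf.stalk u))) h1
  have h3 : (1 : FractionRing (U.left.presheaf.stalk u)) =
      algebraMap (U.left.presheaf.stalk u) (FractionRing (U.left.presheaf.stalk u))
        ((U.left.presheaf.germ ⊤ u trivial).hom (toUnit s)) := h2
  rw [← map_one (algebraMap (U.left.presheaf.stalk u)
    (FractionRing (U.left.presheaf.stalk u)))] at h3
  have h4 := IsFractionRing.injective (U.left.presheaf.stalk u)
    (FractionRing (U.left.presheaf.stalk u)) h3
  refine h4.symm.trans ?_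
  exact (map_one (U.left.presheaf.germ ⊤ u trivial).hom).symm

end K281.DivExact
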