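import Groth.Agent.Dix.K281.DivExact

/-!
# Surjectivity of the divisor map `j_* G_m → dSheaf (TW j)` and the short exact sequence
-/

set_option autoImplicit false
universe u

open CategoryTheory CategoryTheory.Limits AlgebraicGeometry Opposite TopologicalSpace

namespace K281.DivSurj

open K281.DivEval K281.DivExact
open Groth.Agent.CohtopA Groth.Agent.CohtopA.GmDivGen Groth.Agent.CohtopA.GmDivEval
open Groth.Agent.CohtopA.GmDivPt Groth.Agent.CohtopA.GmDivVal Groth.Agent.CohtopA.GmDivFun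
open Groth.Agent.CohtopA.GmDivD Groth.Agent.CohtopA.GmDivSch Groth.Agent.CohtopA.GmDivLoc
open Groth.Agent.CohtopA.GmDivFinal Groth.Agent.CohtopA.GmOrdAlg

variable {Z W : Scheme.{u}} (j : W ⟶ Z) [IsOpenImmersion j] [ELF Z] [HasGen j]

omit [ELF Z] [HasGen j] in
lemma range_open {V : Z.Etale} {z w : V.left} (h : w ⤳ z) (hz : V.hom z ∈ Set.range j) :
    V.hom w ∈ Set.range j :=
  (h.map (X := V.left) (Y := Z) (Scheme.Hom.continuous (X := V.left) (Y := Z) V.hom)).mem_open
    j.isOpenEmbedding.isOpen_range hz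

omit [ELF Z] [HasGen j] in
/-- An equation of the closure of a point outside `W` is a unit over `W` near the point. -/
lemma exists_nhd_unit {V : Z.Etale} [NoetherianSpace V.left] {v w : V.left} (h : w ⤳ v)
    (π : V.left.presheaf.stalk v) (hπ : qI h = Ideal.span {π}) (hw : V.hom w ∉ Set.range j) :
    ∃ (N : V.left.Opens) (hv : v ∈ N) (a : Γ(V.left, N)),
      (V.left.presheaf.germ N v hv).hom a = π ∧
        ∀ (z : V.left) (hz : z ∈ N), V.hom z ∈ Set.range j →
          IsUnit ((V.left.presheaf.germ N z hz).hom a) := by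
  obtain ⟨N₁, hv₁, a, ha⟩ := V.left.presheaf.exists_germ_eq π
  let D : Set V.left := (V.left.basicOpen a : Set V.left)ᶜ
  have hD : IsClosed D := (V.left.basicOpen a).isOpen.isClosed_compl
  obtain ⟨S, hS, hcl, hirr, hU⟩ := NoetherianSpace.exists_finite_set_isClosed_irreducible hD
  have hF : IsClosed (⋃ s ∈ {s ∈ S | v ∉ s}, s) :=
    (hS.subset (fun s hs => hs.1)).isClosed_biUnion (fun s hs => hcl s hs.1)
  let F : Set V.left := ⋃ s ∈ {s ∈ S | v ∉ s}, s
  let N : V.left.Opens := N₁ ⊓ ⟨Fᶜ, hF.isOpen_compl⟩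
  have hvN : v ∈ N := by
    refine ⟨hv₁, fun hvF => ?_⟩
    obtain ⟨s, hs, hvs⟩ := Set.mem_iUnion₂.1 hvF
    exact hs.2 hvs
  have hNN : N ≤ N₁ := inf_le_left
  refine ⟨N, hvN, (V.left.presheaf.map (homOfLE hNN).op).hom a, ?_, ?_⟩
  · refine Eq.trans ?_ ha
    exact ConcreteCategory.congr_hom (V.left.presheaf.germ_res (homOfLE hNN) v hvN) a
  · intro z hz hzW
    have e : (V.left.presheaf.germ N z hz).hom ((V.left.presheaf.map (homOfLE hNN).op).hom a) =
        (V.left.presheaf.germ N₁ z (hNN hz)).hom a :=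
      ConcreteCategory.congr_hom (V.left.presheaf.germ_res (homOfLE hNN) z hz) a
    rw [e]
    by_contra hnu
    have hzD : z ∈ D := fun hb => hnu ((Scheme.mem_basicOpen _ _ _ (hNN hz)).1 hb)
    rw [hU] at hzD
    obtain ⟨s, hs, hzs⟩ := hzD
    have hvs : v ∈ s := by
      by_contra hvs
      exact hz.2 (Set.mem_iUnion₂.2 ⟨s, ⟨hs, hvs⟩, hzs⟩)
    obtain ⟨c, hc⟩ := QuasiSober.sober (hirr s hs) (hcl s hs)
    have hcv : c ⤳ v := by
      rw [specializes_iff_mem_closure, hc.def]
      exact hvs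
    have hcz : c ⤳ z := by
      rw [specializes_iff_mem_closure, hc.def]
      exact hzs
    have hcD : c ∈ D := by
      rw [hU]
      exact ⟨s, hs, hc.mem⟩
    have hcN : c ∈ N₁ := hcv.mem_open N₁.2 hv₁
    have hcu : ¬ IsUnit ((V.left.presheaf.germ N₁ c hcN).hom a) := fun hu =>
      hcD ((Scheme.mem_basicOpen _ _ _ hcN).2 hu)
    have h1 : π ∈ qI hcv := by
      refine (IsLocalRing.mem_maximalIdeal _).2 ?_
      intro hu
      apply hcu
      have h2 := germ_sp hcv hv₁ hcN a
      have h3 : (V.left.presheaf.germ N₁ v hv₁).hom a = π := ha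
      rw [← h2, h3]
      exact hu
    have h2 : qI h ≤ qI hcv := by
      rw [hπ, Ideal.span_singleton_le_iff_mem]
      exact h1
    have h3 := ptOf_specializes_ptOf v (qI h) (qI hcv) h2
    rw [ptOf_qI, ptOf_qI] at h3
    exact hw (range_open j (h3.trans hcz) hzW)

omit [HasGen j] in
lemma exists_nhd_unit' {V : Z.Etale} [NoetherianSpace V.left] (v w : V.left)
    (hdw : ringKrullDim (V.left.presheaf.stalk w) = 1) (hw : V.hom w ∉ Set.range j) :
    ∃ (N : V.left.Opens) (hv : v ∈ N) (a : Γ(V.left, N)),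
      (∀ (z : V.left) (hz : z ∈ N), V.hom z ∈ Set.range j →
          IsUnit ((V.left.presheaf.germ N z hz).hom a)) ∧
      (∀ h : w ⤳ v, Irreducible (sp h ((V.left.presheaf.germ N v hv).hom a))) ∧
      ∀ (y : V.left) (hy : y ⤳ v), ringKrullDim (V.left.presheaf.stalk y) = 1 → y ≠ w →
        IsUnit (sp hy ((V.left.presheaf.germ N v hv).hom a)) := by
  by_cases h : w ⤳ v
  · obtain ⟨π, h1, h2, h3, h4⟩ := exists_prime h hdw
    obtain ⟨N, hv, a, ha, hu⟩ := exists_nhd_unit j h π h2 hw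
    refine ⟨N, hv, a, hu, fun _ => ?_, fun y hy hd hne => ?_⟩
    · rw [ha]
      exact h3
    · rw [ha]
      exact h4 y hy hd hne
  · refine ⟨⊤, trivial, 1, fun z hz _ => ?_, fun h' => absurd h' h, fun y hy _ _ => ?_⟩
    · rw [map_one]
      exact isUnit_one
    · rw [map_one, map_one]
      exact isUnit_one

lemma evW_of_fun {U : Z.Etale} (u : U.left) (a : Γ(U.left, ⊤))
    (s : EtCoh.sect ((EtCoh.push j).obj (EtCoh.Gm W)) U)
    (hs : (toUnitP j s : Γ(((EtCoh.bc j).obj U).left, ⊤)) = (fstE j U).appTop.hom a) :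
    ((evW j u s).toMul : FractionRing (U.left.presheaf.stalk u)) =
      algebraMap (U.left.presheaf.stalk u) _ ((U.left.presheaf.germ ⊤ u trivial).hom a) := by
  rw [evW_val, hs]
  have h1 := evalHom_comp ((isPullback_E j U).lift (tU U.left u) (tW j u) (tW_fac j u)) (fstE j U)
  have h2 : (isPullback_E j U).lift (tU U.left u) (tW j u) (tW_fac j u) ≫ fstE j U = tU U.left u :=
    IsPullback.lift_fst _ _ _ _
  rw [h2] at h1
  have h3 := congrArg (fun f => f a) h1
  exact h3.symm.trans (evalHom_tU u a)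

lemma germ_appTop {I K : Scheme.{u}} (g : I ⟶ K) (z : I) (a : Γ(K, ⊤)) :
    (I.presheaf.germ ⊤ z trivial).hom (g.appTop.hom a) =
      (g.stalkMap z).hom ((K.presheaf.germ ⊤ (g z) trivial).hom a) := by
  have h := Scheme.Hom.germ_stalkMap g ⊤ z trivial
  exact (ConcreteCategory.congr_hom h a).symm

/-- A section of the sheaf of divisors is locally the divisor of a section of `j_* G_m`. -/
lemma exists_section_local {U : Z.Etale} (d : EtCoh.sect (dSheaf Z ℤ (TW j)) U) (u : U.left) :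
    ∃ (V : Z.Etale) (g : V ⟶ U), (∃ v : V.left, g.left v = u) ∧
      ∃ s : EtCoh.sect ((EtCoh.push j).obj (EtCoh.Gm W)) V,
        (ΦW j).hom.app (op V) s = (dSheaf Z ℤ (TW j)).obj.map g.op d := by
  classical
  obtain ⟨W₀, hu, h1, h2⟩ := exists_integral_nhds U u
  let V := resE U W₀
  let v : V.left := (⟨u, hu⟩ : W₀)
  let d₁ : dSub Z ℤ (TW j) V := (dSheaf Z ℤ (TW j)).obj.map (resι U W₀).op d
  -- the finite set of points
  let F : Set V.left := {y | V.hom y ∉ Set.range j}
  have hFc : IsClosed F := by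
    have h3 : IsOpen (V.hom ⁻¹' (Set.range j)) :=
      j.isOpenEmbedding.isOpen_range.preimage (Scheme.Hom.continuous (X := V.left) (Y := Z) V.hom)
    exact h3.isClosed_compl
  have hfin : {y : V.left | y ∈ F ∧ ringKrullDim (V.left.presheaf.stalk y) = 1}.Finite := by
    refine finite_of_isClosed F hFc ?_
    intro z hz hg
    exact hz (HasGen.mem _ ((isGen_apply_iff (X := Z) (Y := V.left) V.hom z).1 hg))
  let T : Finset V.left := hfin.toFinset
  have hT : ∀ y, y ∈ T ↔ y ∈ F ∧ ringKrullDim (V.left.presheaf.stalk y) = 1 := fun y => by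
    simp [T]
  have key : ∀ w : T, ∃ (N : V.left.Opens) (hv : v ∈ N) (a : Γ(V.left, N)),
      (∀ (z : V.left) (hz : z ∈ N), V.hom z ∈ Set.range j →
          IsUnit ((V.left.presheaf.germ N z hz).hom a)) ∧
      (∀ h : w.1 ⤳ v, Irreducible (sp h ((V.left.presheaf.germ N v hv).hom a))) ∧
      ∀ (y : V.left) (hy : y ⤳ v), ringKrullDim (V.left.presheaf.stalk y) = 1 → y ≠ w.1 →
        IsUnit (sp hy ((V.left.presheaf.germ N v hv).hom a)) := fun w =>
    exists_nhd_unit' j v w.1 ((hT w.1).1 w.2).2 ((hT w.1).1 w.2).1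
  choose N hvN a hau hairr haunit using key
  -- the neighbourhood
  have hC : IsClosed (⋃ y ∈ {y : V.left | y ∈ T ∧ ¬ y ⤳ v}, closure {y}) :=
    ((Finset.finite_toSet T).subset (fun y hy => hy.1)).isClosed_biUnion fun y _ => isClosed_closure
  let N₀ : V.left.Opens := (Finset.univ.inf N) ⊓
    ⟨(⋃ y ∈ {y : V.left | y ∈ T ∧ ¬ y ⤳ v}, closure {y})ᶜ, hC.isOpen_compl⟩
  have hN₀ : ∀ w : T, N₀ ≤ N w := fun w => inf_le_left.trans (Finset.inf_le (Finset.mem_univ w))
  have hvN₀ : v ∈ N₀ := by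
    refine ⟨?_, ?_⟩
    · have h3 : ∀ (S : Finset T), v ∈ S.inf N := by
        intro S
        induction S using Finset.induction_on with
        | empty => trivial
        | insert w S hw ih =>
          rw [Finset.inf_insert]
          exact ⟨hvN w, ih⟩
      exact h3 _
    · intro hv
      obtain ⟨y, hy, hyv⟩ := Set.mem_iUnion₂.1 hv
      exact hy.2 (specializes_iff_mem_closure.2 hyv)
  have hsp : ∀ y ∈ N₀, y ∈ T → y ⤳ v := by
    intro y hy hyT
    by_contra h3
    exact hy.2 (Set.mem_iUnion₂.2 ⟨y, ⟨hyT, h3⟩, subset_closure rfl⟩)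
  let V' := resE V N₀
  let ι := resι V N₀
  have hle : ∀ w : T, (⊤ : V'.left.Opens) ≤ ι.left ⁻¹ᵁ N w := fun w x _ => hN₀ w x.2
  let a' : T → Γ(V'.left, ⊤) := fun w => (ι.left.appLE (N w) ⊤ (hle w)).hom (a w)
  have hga : ∀ (w : T) (y : V'.left), (V'.left.presheaf.germ ⊤ y trivial).hom (a' w) =
      (ι.left.stalkMap y).hom ((V.left.presheaf.germ (N w) (ι.left y) (hle w trivial)).hom (a w)) :=
    fun w y => germ_appLE ι.left (N w) (hle w) y (hle w trivial) (a w)
  have hw' : ι.left ≫ V.hom = V'.hom := CategoryTheory.Over.w ι.hom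
  have hunit : ∀ w : T, IsUnit ((fstE j V').appTop.hom (a' w)) := by
    intro w
    apply isUnit_of_germ
    intro z
    rw [germ_appTop, hga]
    refine IsUnit.map _ (IsUnit.map _ (hau w _ _ ?_))
    refine ⟨sndE j V' z, ?_⟩
    have h3 : fstE j V' ≫ V'.hom = sndE j V' ≫ j := (isPullback_E j V').w
    have h4 := congrArg (fun f => f z) h3
    rw [← hw'] at h4
    exact h4.symm
  let σ : T → EtCoh.sect ((EtCoh.push j).obj (EtCoh.Gm W)) V' := fun w => ofUnitP j (hunit w).unit
  have hσ : ∀ (w : T) (y : V'.left), ((evW j y (σ w)).toMul : FractionRing (V'.left.presheaf.stalk y)) =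
      algebraMap (V'.left.presheaf.stalk y) _ ((V'.left.presheaf.germ ⊤ y trivial).hom (a' w)) :=
    fun w y => evW_of_fun j y (a' w) (σ w) rfl
  refine ⟨V', ι ≫ resι U W₀, ⟨(⟨v, hvN₀⟩ : N₀), rfl⟩, ∑ w : T, (-(d₁.1 w.1).down) • σ w, ?_⟩
  apply Subtype.ext
  funext y
  let y₁ : V.left := ι.left y
  have hy₁ : y₁ ∈ N₀ := y.2
  change ULift.up (ordPt y (evW j y (∑ w : T, (-(d₁.1 w.1).down) • σ w))) = d₁.1 y₁
  apply ULift.ext
  change ordPt y (evW j y (∑ w : T, (-(d₁.1 w.1).down) • σ w)) = (d₁.1 y₁).down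
  have hdim : ringKrullDim (V'.left.presheaf.stalk y) = ringKrullDim (V.left.presheaf.stalk y₁) := by
    exact Groth.Agent.Etbase.EtaleStalk.ringKrullDim_stalk ι.left y
  have hhom : V'.hom y = V.hom y₁ := by
    rw [← hw']
    rfl
  by_cases hyT : y₁ ∈ T
  · have hyv : y₁ ⤳ v := hsp y₁ hy₁ hyT
    have hdy : ringKrullDim (V.left.presheaf.stalk y₁) = 1 := ((hT y₁).1 hyT).2
    -- the order of `σ w`
    have hgerm : ∀ w : T, (V.left.presheaf.germ (N w) y₁ (hle w trivial)).hom (a w) =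
        sp hyv ((V.left.presheaf.germ (N w) v (hvN w)).hom (a w)) := fun w =>
      (germ_sp hyv (hvN w) _ (a w)).symm
    have hne : ∀ w : T, algebraMap (V.left.presheaf.stalk y₁) (FractionRing (V.left.presheaf.stalk y₁))
        ((V.left.presheaf.germ (N w) y₁ (hle w trivial)).hom (a w)) ≠ 0 := by
      intro w
      rw [hgerm w, Ne, IsFractionRing.to_map_eq_zero_iff]
      by_cases hyw : y₁ = w.1
      · have h3 : w.1 ⤳ v := hyw ▸ hyv
        have h4 := (hairr w h3).ne_zero
        have h5 : ∀ (y₂ : V.left) (e : y₁ = y₂) (h6 : y₂ ⤳ v) (c : V.left.presheaf.stalk v),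
            sp h6 c ≠ 0 → sp hyv c ≠ 0 := by
          rintro _ rfl h6 c hc
          exact hc
        exact h5 w.1 hyw h3 _ h4
      · exact (haunit w y₁ hyv hdy hyw).ne_zero
    let P : T → Additive (FractionRing (V.left.presheaf.stalk y₁))ˣ :=
      fun w => Additive.ofMul (Units.mk0 _ (hne w))
    have hev : ∀ w : T, evW j y (σ w) = (Units.map (fracMap ι.left y).toMonoidHom).toAdditive (P w) := by
      intro w
      apply Additive.toMul.injective
      apply Units.ext
      refine (hσ w y).trans ?_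
      rw [hga w y]
      exact (fracMap_algebraMap ι.left y _).symm
    have hord : ∀ w : T, ordPt y (evW j y (σ w)) = ordPt y₁ (P w) := fun w => by
      rw [hev w]
      exact ordPt_map ι.left y (P w)
    rw [map_sum, map_sum]
    simp only [map_zsmul]
    rw [Finset.sum_eq_single (⟨y₁, hyT⟩ : T)]
    · rw [hord]
      have h3 := ordPt_uniformizer y₁ hdy (P ⟨y₁, hyT⟩)
        (sp hyv ((V.left.presheaf.germ (N ⟨y₁, hyT⟩) v (hvN ⟨y₁, hyT⟩)).hom (a ⟨y₁, hyT⟩)))
        (hairr ⟨y₁, hyT⟩ hyv) (by rw [← hgerm]; rfl)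
      rw [h3]
      simp
    · intro w _ hwne
      have h4 : y₁ ≠ w.1 := fun h => hwne (Subtype.ext h.symm)
      rw [hord, ordPt_eq_zero_of_unit y₁ (P w)
        (sp hyv ((V.left.presheaf.germ (N w) v (hvN w)).hom (a w))) (haunit w y₁ hyv hdy h4)
        (by rw [← hgerm]; rfl), smul_zero]
    · intro h
      exact absurd (Finset.mem_univ _) h
  · have h3 : V.hom y₁ ∉ TW j := by
      intro h4
      apply hyT
      rw [hT]
      refine ⟨h4.2, ?_⟩
      rw [K281.DivEval.dim_hom y₁]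
      exact h4.1
    have h4 : d₁.1 y₁ = 0 := by
      by_contra h5
      exact h3 (d₁.2 y₁ h5)
    rw [h4]
    by_contra h5
    apply h3
    rw [← hhom]
    exact mem_TW j y _ h5

instance epi_ΦW : Epi (ΦW j) := by
  rw [Groth.Agent.Dix.EtaleSieve.epi_iff]
  intro U d u
  exact exists_section_local j d u

/-- The divisor sequence. -/
noncomputable def divSeq : ShortComplex (EtCoh.Ab Z) := ShortComplex.mk (gmPush j) (ΦW j) (gm_ΦW j)

theorem shortExact_divSeq : (divSeq j).ShortExact where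
  exact := by
    rw [ShortComplex.exact_iff_epi_kernel_lift]
    rw [Groth.Agent.Dix.EtaleSieve.epi_iff]
    intro U t u
    let s : EtCoh.sect ((EtCoh.push j).obj (EtCoh.Gm W)) U := (kernel.ι (ΦW j)).hom.app (op U) t
    have hs : (ΦW j).hom.app (op U) s = 0 := by
      have e : kernel.ι (ΦW j) ≫ ΦW j = 0 := kernel.condition _
      exact congrArg (fun f => f.hom.app (op U) t) e
    obtain ⟨V, g, hv, r, hr⟩ := exists_gm_lift j s hs u
    refine ⟨V, g, hv, r, ?_⟩
    apply Groth.Agent.Dix.PointExact.sect_injective_of_mono (kernel.ι (ΦW j))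
    have e1 : (kernel.ι (ΦW j)).hom.app (op V)
        ((kernel.lift (divSeq j).g (divSeq j).f (divSeq j).zero).hom.app (op V) r) =
        (gmPush j).hom.app (op V) r :=
      congrArg (fun f => f.hom.app (op V) r)
        (kernel.lift_ι (divSeq j).g (divSeq j).f (divSeq j).zero)
    refine e1.trans (hr.trans ?_)
    exact (ConcreteCategory.congr_hom ((kernel.ι (ΦW j)).hom.naturality g.op) t).symm
  mono_f := mono_gmPush j
  epi_g := epi_ΦW j

end K281.DivSurj
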