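import Groth.Agent.Dix.K281.LerayTwo

/-!
# Classes on coproducts, and the Leray sequence in degree two with local triviality on a family
-/

set_option autoImplicit false

universe w w' v v' u u' t

open CategoryTheory CategoryTheory.Limits CategoryTheory.Abelian

namespace K281.ExtCofan

/-- A class on a coproduct vanishes if its restrictions to the summands vanish. -/
theorem ext_eq_zero {D : Type u'} [Category.{v'} D] [Abelian D] [HasExt.{w'} D] [EnoughInjectives D]
    {ι : Type t} {A : ι → D} (c : Cofan A) (hc : IsColimit c) :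
    ∀ (n : ℕ) (N : D) (e : Ext.{w'} c.pt N n),
      (∀ i, (Ext.mk₀ (c.inj i)).comp e (zero_add n) = 0) → e = 0 := by
  intro n
  induction n with
  | zero =>
    intro N e h
    obtain ⟨f, rfl⟩ := (Ext.mk₀_bijective _ _).2 e
    have h1 : f = 0 := Cofan.IsColimit.hom_ext hc _ _ fun i => by
      have h2 := h i
      rw [Ext.mk₀_comp_mk₀] at h2
      rw [comp_zero]
      exact (Ext.mk₀_bijective _ _).1 (h2.trans (Ext.mk₀_zero _ _).symm)
    rw [h1, Ext.mk₀_zero]
  | succ n ih =>
    intro N e h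
    let I : InjectivePresentation N := Classical.arbitrary _
    let S := ShortComplex.mk _ _ (cokernel.condition I.f)
    have hI : Injective S.X₂ := I.injective
    have hS : S.ShortExact := { exact := ShortComplex.exact_cokernel I.f }
    obtain ⟨y, rfl⟩ := Ext.covariant_sequence_exact₁ c.pt hS e (Ext.eq_zero_of_injective _)
      (rfl : n + 1 = n + 1)
    have h1 : ∀ i, ∃ x : Ext (A i) S.X₂ n, x.comp (Ext.mk₀ S.g) (add_zero n) =
        (Ext.mk₀ (c.inj i)).comp y (zero_add n) := fun i =>
      Ext.covariant_sequence_exact₃ (A i) hS _ rfl (by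
        rw [Ext.comp_assoc (h₁₂ := zero_add n) (h₂₃ := rfl) (h := by omega)]
        exact h i)
    rcases n with _ | n
    · obtain ⟨f, rfl⟩ := (Ext.mk₀_bijective _ _).2 y
      have h2 : ∀ i, ∃ g : A i ⟶ S.X₂, g ≫ S.g = c.inj i ≫ f := fun i => by
        obtain ⟨x, hx⟩ := h1 i
        obtain ⟨g, rfl⟩ := (Ext.mk₀_bijective _ _).2 x
        rw [Ext.mk₀_comp_mk₀, Ext.mk₀_comp_mk₀] at hx
        exact ⟨g, (Ext.mk₀_bijective _ _).1 hx⟩
      choose g hg using h2
      have h3 : Cofan.IsColimit.desc hc g ≫ S.g = f := Cofan.IsColimit.hom_ext hc _ _ fun i => by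
        rw [← Category.assoc, Cofan.IsColimit.fac, hg]
      rw [← h3, ← Ext.mk₀_comp_mk₀, Ext.comp_assoc (h₁₂ := rfl) (h₂₃ := rfl) (h := rfl),
        hS.comp_extClass, Ext.comp_zero]
    · have h2 : y = 0 := ih _ y fun i => by
        obtain ⟨x, hx⟩ := h1 i
        rw [← hx, Ext.eq_zero_of_injective x, Ext.zero_comp]
      rw [h2, Ext.zero_comp]

open Groth.Agent.EtpbcB.EdgeLemma

variable {C : Type u} [Category.{v} C] [Abelian C] [HasExt.{w} C]
variable {D : Type u'} [Category.{v'} D] [Abelian D] [HasExt.{w'} D] [EnoughInjectives D]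
variable {L : C ⥤ D} {R : D ⥤ C} [L.Additive] [PreservesFiniteLimits L] [PreservesFiniteColimits L]
variable [R.Additive] [PreservesFiniteLimits R] (adj : L ⊣ R)
variable {S : ShortComplex D} (hS : S.ShortExact)

include hS in
/-- If `R^1 S.X₁ = 0`, classes of degree two which die on `L Q_i` for a jointly epimorphic family `Q_i → A`
are in the image of the edge map. -/
theorem exists_edge_two_eq [Injective S.X₂] (h : Epi (R.map S.g)) {A : C} {ι : Type t} {Q : ι → C}
    (c : Cofan Q) (hc : IsColimit c) (π : ∀ i, Q i ⟶ A)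
    (hπ : ∀ (B : C) (f : A ⟶ B), (∀ i, π i ≫ f = 0) → f = 0)
    (u : Ext.{w'} (L.obj A) S.X₁ 2) (hu : ∀ i, (Ext.mk₀ (L.map (π i))).comp u (zero_add 2) = 0) :
    ∃ x : Ext.{w} A (R.obj S.X₁) 2, edge adj A S.X₁ 2 x = u := by
  have hL : PreservesColimitsOfSize.{t, t} L := adj.leftAdjoint_preservesColimits
  let p : c.pt ⟶ A := Cofan.IsColimit.desc hc π
  have hp : Epi p := Preadditive.epi_of_cancel_zero _ fun {B} f hf => hπ B f fun i => by
    rw [← Cofan.IsColimit.fac hc π i, Category.assoc, hf, comp_zero]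
  refine K281.LerayTwo.exists_edge_two_eq adj hS h p u ?_
  let c' : Cofan (fun i => L.obj (Q i)) := Cofan.mk (L.obj c.pt) (fun i => L.map (c.inj i))
  have hc' : IsColimit c' := isColimitCofanMkObjOfIsColimit L Q (fun i => c.inj i)
    (IsColimit.ofIsoColimit hc (Cofan.ext (Iso.refl _) (fun i => by simp)))
  refine ext_eq_zero c' hc' 2 _ _ fun i => ?_
  change (Ext.mk₀ (L.map (c.inj i))).comp ((Ext.mk₀ (L.map p)).comp u (zero_add 2)) (zero_add 2) = 0
  rw [Ext.mk₀_comp_mk₀_assoc, ← L.map_comp, Cofan.IsColimit.fac hc π i]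
  exact hu i

end K281.ExtCofan
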