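import Groth.Agent.EtDl.K555.BlowGeo
import Groth.Agent.Krr.H496.ExcBundle
import Groth.Agent.Krr.H484.PBCharts

/-!
# The fibres of the blow-up of a regular scheme in a regular centre

For `g : Spec k ⟶ X` with image in the centre, the fibre of the blow-up over `g` is `P^r_k`, and the
invertible ideal of the exceptional divisor restricts to `O(1)`.
-/

set_option autoImplicit false
universe u

open CategoryTheory CategoryTheory.Limits AlgebraicGeometry Opposite TopologicalSpace BlowUp

namespace K281.FibreP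

open Groth.Agent Groth.Agent.Sga67

theorem exists_lift {Y X T : Scheme.{u}} (i : Y ⟶ X) [IsClosedImmersion i] [IsReduced T] (g : T ⟶ X)
    (hg : Set.range g ⊆ Set.range i) : ∃ h : T ⟶ Y, h ≫ i = g := by
  have h1 : Surjective (pullback.fst g i) := by
    refine ⟨fun t => ?_⟩
    obtain ⟨y, hy⟩ := hg ⟨t, rfl⟩
    obtain ⟨z, hz, -⟩ := Scheme.Pullback.exists_preimage_pullback t y hy.symm
    exact ⟨z, hz⟩
  have h2 : IsIso (pullback.fst g i) := isIso_of_isClosedImmersion_of_surjective _
  refine ⟨inv (pullback.fst g i) ≫ pullback.snd g i, ?_⟩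
  rw [Category.assoc, ← pullback.condition, IsIso.inv_hom_id_assoc]

/-- Every point is a specialization of a point of codimension zero. -/
theorem exists_generic {X : Scheme.{u}} [IsLocallyNoetherian X] (x : X) :
    ∃ y : X, y ⤳ x ∧ ringKrullDim (X.presheaf.stalk y) = 0 := by
  have hfin : ∀ z : X, Order.coheight z < ⊤ := by
    intro z
    have h1 : ringKrullDim (X.presheaf.stalk z) < ⊤ := ringKrullDim_lt_top
    rw [AlgebraicGeometry.ringKrullDim_stalk_eq_coheight] at h1
    exact WithBot.coe_lt_coe.1 h1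
  obtain ⟨y, hy, hmin⟩ := WellFounded.has_min (measure (fun z : X => (Order.coheight z).toNat)).wf
    {z | z ⤳ x} ⟨x, specializes_rfl⟩
  refine ⟨y, hy, ?_⟩
  rw [AlgebraicGeometry.ringKrullDim_stalk_eq_coheight]
  have h0 : Order.coheight y = 0 := by
    rw [Order.coheight_eq_zero]
    intro z hz
    by_contra hlt
    have h2 : y < z := lt_of_le_not_ge hz hlt
    have h3 : z ⤳ x := (show z ⤳ y from hz).trans hy
    have h4 := Order.coheight_strictAnti h2 (hfin z)
    refine hmin z h3 ?_
    change (Order.coheight z).toNat < (Order.coheight y).toNat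
    rw [← ENat.coe_lt_coe, ENat.coe_toNat (hfin z).ne, ENat.coe_toNat (hfin y).ne]
    exact h4
  rw [h0]
  rfl

/-- **The fibres of the blow-up.** -/
theorem exists_fibre {X X' : Scheme.{u}} [IsLocallyNoetherian X]
    (hreg : ∀ x : X, IsRegularLocalRing (X.presheaf.stalk x)) (I : X.IdealSheafData)
    (hYreg : ∀ y : ↥I.subscheme, IsRegularLocalRing (I.subscheme.presheaf.stalk y))
    (hYcodim : ∀ x : X, x ∈ I.support → 1 ≤ ringKrullDim (X.presheaf.stalk x))
    (b : X' ⟶ X) (hb : IsBlowUp b I) {k : Type u} [Field k] (g : Spec (CommRingCat.of k) ⟶ X)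
    (hg : g (IsLocalRing.closedPoint k) ∈ I.support) :
    ∃ (L : X'.Modules) (_ : PicF.IsInvertible L) (r : ℕ) (j : CohB1.ProjSpace r k ⟶ X'),
      IsPullback j (CohB1.ProjSpace.toSpec r k) b g ∧
      Nonempty ((Scheme.Modules.pullback j).obj L ≅ Twist.twistProjSpace r k 1) := by
  let f : I.subscheme ⟶ X := I.subschemeι
  have hker : f.ker = I := Scheme.IdealSheafData.ker_subschemeι I
  have hf : Mor2.IsRegularClosedImmersion f :=
    K555.BlowGeo.isRegularClosedImmersion f (fun y => hreg _) hYreg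
  have hb' : IsBlowUp b f.ker := by rw [hker]; exact hb
  have hsq : IsPullback (pullback.fst b f) (pullback.snd b f) b f := IsPullback.of_hasPullback b f
  have B := Krr.H496.ExcBundle.isProjBundle_exc hf hb' hsq
  have hpt : ∀ z : (Spec (CommRingCat.of k) : Scheme.{u}), z = IsLocalRing.closedPoint k := fun z =>
    Subsingleton.elim (α := PrimeSpectrum k) z _
  have hrange : Set.range f = (I.support : Set X) := Scheme.IdealSheafData.range_subschemeι I
  obtain ⟨h, hh⟩ := exists_lift f g (by
    rintro _ ⟨z, rfl⟩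
    rw [hpt z, hrange]
    exact hg)
  let y : ↥I.subscheme := h (IsLocalRing.closedPoint k)
  have hy : f y = g (IsLocalRing.closedPoint k) := by
    rw [← hh]
    rfl
  obtain ⟨c, hc, -⟩ := KosImm.exists_chart hf y ⊤ trivial
  have hbasis := KosConormal.isLocBasis_fN c
  have hbasis' := Krr.H487.LocBasisPull.isLocBasis_pbS h hbasis
  have hV : h ⁻¹ᵁ c.V = ⊤ := by
    rw [eq_top_iff]
    intro z _
    rw [hpt z]
    exact hc
  have key : ∀ (V : (Spec (CommRingCat.of k) : Scheme.{u}).Opens) (hV : V = ⊤)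
      (b : Fin c.l.length → Sga67.Sec.Sec ((Scheme.Modules.pullback h).obj (Omega.conormal f)) V),
      LocBasis.IsLocBasis b →
      Nonempty ((Scheme.Modules.pullback h).obj (Omega.conormal f) ≅
        FlatMod.freeMod (Spec (CommRingCat.of k)) c.l.length) := by
    rintro V rfl b hb
    exact LocBasis.nonempty_iso_free hb
  obtain ⟨e⟩ := key _ hV _ hbasis'
  obtain ⟨r, hr⟩ : ∃ r, c.l.length = r + 1 := by
    refine Nat.exists_eq_succ_of_ne_zero fun h0 => ?_
    have h1 : c.l = [] := List.eq_nil_of_length_eq_zero h0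
    have h2 : f.ker.ideal ⟨c.U, c.hU⟩ = ⊥ := by
      rw [c.hker, h1, Ideal.ofList_nil]
    obtain ⟨η, hη, hη0⟩ := exists_generic (f y)
    have hηU : η ∈ c.U := hη.mem_open c.U.isOpen hc
    have h4 : η ∈ f.ker.support := by
      rw [Scheme.IdealSheafData.mem_support_iff_of_mem (U := ⟨c.U, c.hU⟩) hηU, h2]
      simp
    rw [hker] at h4
    have h5 := hYcodim η h4
    rw [hη0] at h5
    exact absurd h5 (by norm_num)
  rw [hr] at e
  obtain ⟨j, hj, ⟨ej⟩⟩ := Krr.H484.PBCharts.exists_chart B h e
  have hf1 : IsEffCartierIdeal (pullback.fst b f).ker := Krr.H496.ExcBundle.isEff_exc hb' hsq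
  refine ⟨ClSub.idealMod (pullback.fst b f).ker, Dix.IdealModCartier.isInvertible_idealMod hf1, r,
    j ≫ pullback.fst b f, ?_, ⟨?_⟩⟩
  · have h6 := hj.paste_horiz hsq
    rwa [hh] at h6
  · exact ((Scheme.Modules.pullbackComp j (pullback.fst b f)).symm.app _) ≪≫ ej

end K281.FibreP
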