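import Groth.Agent.Dix.K281.FibreP
import Groth.Agent.Dix.K281.DivEval

/-!
# Geometry of the blow-up of a regular scheme in a regular centre: the locus where it is an isomorphism
-/

set_option autoImplicit false
universe u

open CategoryTheory CategoryTheory.Limits AlgebraicGeometry Opposite TopologicalSpace BlowUp

namespace K281.Geo

open Groth.Agent Groth.Agent.Divis.CartierBasic Groth.Agent.Divis.CartierStalk
open Groth.Agent.CohtopA.GmDivGen Groth.Agent.Sga67

variable {X X' : Scheme.{u}}

/-- The open locus where `I` is generated by a nonzerodivisor. -/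
def effLocus (I : X.IdealSheafData) : X.Opens where
  carrier := {x | ∃ V : X.affineOpens, x ∈ V.1 ∧
    ∃ f : Γ(X, V.1), f ∈ nonZeroDivisors Γ(X, V.1) ∧ I.ideal V = Ideal.span {f}}
  is_open' := by
    rw [isOpen_iff_forall_mem_open]
    rintro x ⟨V, hx, hV⟩
    exact ⟨V.1, fun y hy => ⟨V, hy, hV⟩, V.1.isOpen, hx⟩

theorem mem_effLocus_of_notMem_support [IsLocallyNoetherian X] (I : X.IdealSheafData) (x : X)
    (hx : x ∉ I.support) : x ∈ effLocus I := by
  rw [notMem_support_iff_stalkIdeal_eq_top] at hx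
  exact exists_generator_of_stalkIdeal I x 1 (one_mem _) (by rw [hx, Ideal.span_singleton_one])

theorem stalkIdeal_of_mem (I : X.IdealSheafData) (x : X) (hx : x ∈ effLocus I) :
    ∃ g ∈ nonZeroDivisors (X.presheaf.stalk x), stalkIdeal I x = Ideal.span {g} := by
  obtain ⟨U, hxU, f, hf, h⟩ := hx
  let := X.presheaf.algebra_section_stalk (⟨x, hxU⟩ : U.1)
  have := U.2.isLocalization_stalk ⟨x, hxU⟩
  refine ⟨X.presheaf.germ U.1 x hxU f, ?_, ?_⟩
  · exact IsLocalization.map_nonZeroDivisors_le (U.2.primeIdealOf ⟨x, hxU⟩).asIdeal.primeCompl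
      (X.presheaf.stalk x) (Submonoid.mem_map_of_mem _ hf)
  · rw [stalkIdeal_eq I U hxU, h, Ideal.map_span, Set.image_singleton]

theorem isEff_comap_effLocus [IsLocallyNoetherian X] (I : X.IdealSheafData) :
    IsEffCartierIdeal (I.comap (effLocus I).ι) := by
  have : IsLocallyNoetherian (effLocus I).toScheme := isLocallyNoetherian_of_isOpenImmersion (effLocus I).ι
  rw [isEffCartierIdeal_iff_stalkIdeal]
  intro x
  obtain ⟨g, hg, h⟩ := stalkIdeal_of_mem I ((effLocus I).ι x) x.2
  let e := (asIso ((effLocus I).ι.stalkMap x)).commRingCatIsoToRingEquiv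
  refine ⟨e g, ?_, ?_⟩
  · rw [← MulEquivClass.map_nonZeroDivisors e]
    exact Submonoid.mem_map_of_mem _ hg
  · rw [stalkIdeal_comap, h, Ideal.map_span, Set.image_singleton]
    rfl

variable {I : X.IdealSheafData} {b : X' ⟶ X}

theorem exists_section_effLocus [IsLocallyNoetherian X] (hb : IsBlowUp b I) :
    ∃ s : (effLocus I : Scheme.{u}) ⟶ X', IsPullback s (𝟙 _) b (effLocus I).ι := by
  have h1 := Divis.BlowUpFormal.isBlowUp_morphismRestrict hb (effLocus I)
  have h2 : IsIso (b ∣_ effLocus I) :=
    Divis.BlowUpFormal.isIso_of_isBlowUp_of_isEff h1 (isEff_comap_effLocus I)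
  exact Sga5.H855.Geom.exists_section b (effLocus I)

/-- No generic point lies on an effective Cartier divisor. -/
theorem notMem_support_of_isGen {D : X.IdealSheafData} (hD : IsEffCartierIdeal D) (z : X)
    (hz : IsGen X z) : z ∉ D.support := by
  intro h
  obtain ⟨g, hg, hs⟩ := exists_stalkIdeal_eq_span hD z
  rw [mem_support_iff_stalkIdeal_le, hs, Ideal.span_singleton_le_iff_mem] at h
  have h1 : IsLocalRing.maximalIdeal (X.presheaf.stalk z) = ⊥ :=
    IsLocalRing.isField_iff_maximalIdeal_eq.1 hz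
  rw [h1, Ideal.mem_bot] at h
  subst h
  exact zero_notMem_nonZeroDivisors hg

theorem hasGen_section [IsLocallyNoetherian X] (hb : IsBlowUp b I)
    {s : (effLocus I : Scheme.{u}) ⟶ X'} (hs : IsPullback s (𝟙 _) b (effLocus I).ι) :
    K281.DivEval.HasGen s where
  mem z hz := by
    have h1 := notMem_support_of_isGen hb.1 z hz
    rw [Scheme.IdealSheafData.support_comap] at h1
    have h2 : b z ∈ effLocus I := mem_effLocus_of_notMem_support I (b z) h1
    obtain ⟨w, hw, -⟩ := Scheme.exists_preimage_of_isPullback hs z ⟨b z, h2⟩ rfl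
    exact ⟨w, hw⟩

theorem hasGen_of_codim (U : X.Opens) (h : ∀ x : X, x ∉ U → 1 ≤ ringKrullDim (X.presheaf.stalk x)) :
    K281.DivEval.HasGen U.ι where
  mem z hz := by
    by_contra hz'
    rw [Scheme.Opens.range_ι] at hz'
    have h1 := h z hz'
    rw [ringKrullDim_eq_zero_of_isField hz] at h1
    exact absurd h1 (by norm_num)

/-- **The blow-up is an isomorphism away from codimension two.** -/
theorem two_le_dim [IsLocallyNoetherian X]
    (hreg : ∀ x : X, IsRegularLocalRing (X.presheaf.stalk x)) (I : X.IdealSheafData)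
    (hYreg : ∀ y : ↥I.subscheme, IsRegularLocalRing (I.subscheme.presheaf.stalk y))
    (hYcodim : ∀ x : X, x ∈ I.support → 1 ≤ ringKrullDim (X.presheaf.stalk x))
    (x : X) (hx : x ∉ effLocus I) : 2 ≤ ringKrullDim (X.presheaf.stalk x) := by
  have hxI : x ∈ I.support := by
    by_contra h
    exact hx (mem_effLocus_of_notMem_support I x h)
  obtain ⟨y, hy⟩ := exists_subscheme_apply_eq I hxI
  subst hy
  have hker : I.subschemeι.ker = I := Scheme.IdealSheafData.ker_subschemeι I
  have hf : Mor2.IsRegularClosedImmersion I.subschemeι :=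
    K555.BlowGeo.isRegularClosedImmersion I.subschemeι (fun y => hreg _) hYreg
  obtain ⟨c, hc, -⟩ := KosImm.exists_chart hf y ⊤ trivial
  have hlen := K555.BlowDim.length_eq I.subschemeι c.hU y hc c.l c.hl c.hker
  have hyreg := hYreg y
  obtain ⟨d, hd⟩ := CalgA.RegBasic.ringKrullDim_eq_natCast (I.subscheme.presheaf.stalk y)
  rw [hd] at hlen
  have h2 : 2 ≤ c.l.length := by
    by_contra hlt
    have h3 : c.l.length = 0 ∨ c.l.length = 1 := by omega
    rcases h3 with h0 | h1
    · have h1 : c.l = [] := List.eq_nil_of_length_eq_zero h0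
      have h2 : I.subschemeι.ker.ideal ⟨c.U, c.hU⟩ = ⊥ := by
        rw [c.hker, h1, Ideal.ofList_nil]
      obtain ⟨η, hη, hη0⟩ := FibreP.exists_generic (I.subschemeι y)
      have hηU : η ∈ c.U := hη.mem_open c.U.isOpen hc
      have h4 : η ∈ I.subschemeι.ker.support := by
        rw [Scheme.IdealSheafData.mem_support_iff_of_mem (U := ⟨c.U, c.hU⟩) hηU, h2]
        simp
      rw [hker] at h4
      have h5 := hYcodim η h4
      rw [hη0] at h5
      exact absurd h5 (by norm_num)
    · obtain ⟨a, ha⟩ := List.length_eq_one_iff.1 h1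
      apply hx
      refine ⟨⟨c.U, c.hU⟩, hc, a, ?_, ?_⟩
      · have h4 := c.hl
        rw [ha, RingTheory.Sequence.isWeaklyRegular_singleton_iff,
          isSMulRegular_iff_right_eq_zero_of_smul] at h4
        rw [mem_nonZeroDivisors_iff_left]
        exact h4
      · have h4 := c.hker
        rw [hker, ha, Ideal.ofList_singleton] at h4
        exact h4
  rw [hlen]
  have h6 : ((2 : ℕ) : WithBot ℕ∞) ≤ ((d + c.l.length : ℕ) : WithBot ℕ∞) := by
    exact_mod_cast (show 2 ≤ d + c.l.length by omega)
  refine le_trans ?_ (h6.trans ?_)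
  · norm_num
  · push_cast
    exact le_rfl

end K281.Geo
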