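import Groth.Agent.Dix.K281.UnitCobHens
import Groth.Agent.Etbase.EtQC
import Groth.Agent.Sga4A.HensClosed2

/-!
# The rings of functions on the Čech nerve of a finite étale cover over a local ring
-/

set_option autoImplicit false
universe u

open CategoryTheory CategoryTheory.Limits AlgebraicGeometry Opposite Simplicial
open scoped TensorProduct

namespace K281.HensCech

open Groth.Agent.Etbase.CechCartan Groth.Agent.Etbase.EtCartan Groth.Agent.Etbase.EtQC
  Groth.Agent.Etbase.FFExact UnitCob UnitCobHens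

section bcl

variable {A : Type u} [CommRing A] {B B' : Type u} [CommRing B] [Algebra A B] [CommRing B'] [Algebra A B']
  (J : Type u) [AddCommGroup J] [Module A J] (φ : B →ₐ[A] B')

omit [AddCommGroup J] [Module A J] in
theorem isBC_of_base {J : Type*} [AddCommGroup J] [Module A J] {M M' : Type*} [AddCommGroup M]
    [AddCommGroup M'] [Module A M] [Module B M] [IsScalarTower A B M] [Module A M'] [Module B' M']
    [IsScalarTower A B' M'] (f : J →ₗ[A] M) (hf : IsBaseChange B f) (f' : J →ₗ[A] M')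
    (hf' : IsBaseChange B' f') (ψ : M →+ M') (hψ : ∀ (b : B) (m : M), ψ (b • m) = φ b • ψ m)
    (comm : ∀ j, ψ (f j) = f' j) : IsBC (φ : B →+* B') ψ := by
  refine ⟨hψ, ?_⟩
  let : Algebra B B' := (φ : B →+* B').toAlgebra
  let : Module B M' := Module.compHom _ (φ : B →+* B')
  have : IsScalarTower A B B' := IsScalarTower.of_algebraMap_eq (fun a => (φ.commutes a).symm)
  have : IsScalarTower B B' M' := ⟨fun a b m => by
    change (φ a * b) • m = φ a • b • m
    rw [mul_smul]⟩
  have : IsScalarTower A B M' := ⟨fun a b m => by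
    change φ (a • b) • m = a • φ b • m
    rw [map_smul, smul_assoc]⟩
  refine IsBaseChange.of_comp hf ?_
  have h : (({ toFun := ψ, map_add' := ψ.map_add, map_smul' := hψ } : M →ₗ[B] M').restrictScalars A) ∘ₗ f
      = f' := by
    ext j
    exact comm j
  rw [h]
  exact hf'

/-- The lifted tensor map. -/
noncomputable def ulT : ULift.{u + 1} (B ⊗[A] J) →+ ULift.{u + 1} (B' ⊗[A] J) :=
  { toFun := fun x => ULift.up (φ.toLinearMap.rTensor J x.down)
    map_zero' := by
      change ULift.up (φ.toLinearMap.rTensor J 0) = _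
      rw [map_zero]; rfl
    map_add' := by
      intro x y
      change ULift.up (φ.toLinearMap.rTensor J (x.down + y.down)) = _
      rw [map_add]; rfl }

theorem isBC_ulift : IsBC (φ : B →+* B') (ulT J φ) := by
  have hlin : ∀ (a : B) (m : B ⊗[A] J),
      φ.toLinearMap.rTensor J (a • m) = φ a • φ.toLinearMap.rTensor J m := by
    intro a m
    induction m using TensorProduct.induction_on with
    | zero => simp
    | tmul b j =>
      rw [TensorProduct.smul_tmul', LinearMap.rTensor_tmul, LinearMap.rTensor_tmul,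
        TensorProduct.smul_tmul']
      congr 1
      exact map_mul φ a b
    | add x y hx hy => rw [smul_add, map_add, map_add, smul_add, hx, hy]
  refine isBC_of_base φ
    ((ULift.moduleEquiv (R := A) (M := B ⊗[A] J)).symm.toLinearMap ∘ₗ TensorProduct.mk A B J 1)
    (IsBaseChange.of_equiv (ULift.moduleEquiv (R := B) (M := B ⊗[A] J)).symm (fun x => rfl))
    ((ULift.moduleEquiv (R := A) (M := B' ⊗[A] J)).symm.toLinearMap ∘ₗ TensorProduct.mk A B' J 1)
    (IsBaseChange.of_equiv (ULift.moduleEquiv (R := B') (M := B' ⊗[A] J)).symm (fun x => rfl))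
    (ulT J φ) (fun a m => congrArg ULift.up (hlin a m.down)) (fun j => ?_)
  change ULift.up (φ.toLinearMap.rTensor J (1 ⊗ₜ j)) = ULift.up ((1 : B') ⊗ₜ[A] j)
  simp

end bcl

section alg

variable {A : Type u} [CommRing A]

/-- The structure map on global functions. -/
noncomputable def str (W : (Spec (CommRingCat.of A)).Etale) : A →+* Γ(W.left, ⊤) :=
  ((Scheme.ΓSpecIso (CommRingCat.of A)).inv ≫ W.hom.appTop).hom

noncomputable instance algΓ (W : (Spec (CommRingCat.of A)).Etale) : Algebra A Γ(W.left, ⊤) :=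
  (str W).toAlgebra

theorem algebraMap_eq (W : (Spec (CommRingCat.of A)).Etale) :
    algebraMap A Γ(W.left, ⊤) = ((Scheme.ΓSpecIso (CommRingCat.of A)).inv ≫ W.hom.appTop).hom := rfl

/-- Restriction of functions as an algebra map. -/
noncomputable def res {W' W : (Spec (CommRingCat.of A)).Etale} (g : W' ⟶ W) :
    Γ(W.left, ⊤) →ₐ[A] Γ(W'.left, ⊤) :=
  { g.left.appTop.hom with
    commutes' := by
      intro a
      change g.left.appTop.hom (((Scheme.ΓSpecIso (CommRingCat.of A)).inv ≫ W.hom.appTop).hom a) =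
        ((Scheme.ΓSpecIso (CommRingCat.of A)).inv ≫ W'.hom.appTop).hom a
      have h : g.left ≫ W.hom = W'.hom := Over.w g.hom
      rw [← h, Scheme.Hom.comp_appTop]
      rfl }

theorem res_apply {W' W : (Spec (CommRingCat.of A)).Etale} (g : W' ⟶ W) (x : Γ(W.left, ⊤)) :
    res g x = g.left.appTop.hom x := rfl

theorem res_id (W : (Spec (CommRingCat.of A)).Etale) : res (𝟙 W) = AlgHom.id A _ := by
  ext x
  change (𝟙 W : W ⟶ W).left.appTop.hom x = x
  have : (𝟙 W : W ⟶ W).left = 𝟙 W.left := rfl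
  rw [this]
  simp

theorem res_comp {W'' W' W : (Spec (CommRingCat.of A)).Etale} (h : W'' ⟶ W') (g : W' ⟶ W) :
    res (h ≫ g) = (res h).comp (res g) := by
  ext x
  change (h ≫ g).left.appTop.hom x = h.left.appTop.hom (g.left.appTop.hom x)
  have : (h ≫ g).left = h.left ≫ g.left := rfl
  rw [this, Scheme.Hom.comp_appTop]
  rfl

/-- The quasi-coherent presheaf attached to a module. -/
noncomputable def PJ (J : Type u) [AddCommGroup J] [Module A J] :
    (Spec (CommRingCat.of A)).Etaleᵒᵖ ⥤ AddCommGrpCat.{u + 1} where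
  obj W := AddCommGrpCat.of (ULift.{u + 1} (Γ(W.unop.left, ⊤) ⊗[A] J))
  map {W W'} g := AddCommGrpCat.ofHom (ulT J (res g.unop))
  map_id W := by
    ext x
    change (res (𝟙 W.unop)).toLinearMap.rTensor J x.down = x.down
    rw [res_id]
    simp
  map_comp {W W' W''} g h := by
    ext x
    change (res (h.unop ≫ g.unop)).toLinearMap.rTensor J x.down =
      (res h.unop).toLinearMap.rTensor J ((res g.unop).toLinearMap.rTensor J x.down)
    rw [res_comp, AlgHom.comp_toLinearMap, LinearMap.rTensor_comp]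
    rfl

theorem PJ_map (J : Type u) [AddCommGroup J] [Module A J]
    {W W' : (Spec (CommRingCat.of A)).Etale} (g : W' ⟶ W) (x : Γ(W.left, ⊤) ⊗[A] J) :
    (PJ J).map g.op (ULift.up x) = ULift.up ((res g).toLinearMap.rTensor J x) := rfl

/-- quasi-coherence. -/
noncomputable def qcPJ (J : Type u) [AddCommGroup J] [Module A J] : QC (PJ (A := A) J) where
  mod W := inferInstanceAs (Module Γ(W.left, ⊤) (ULift.{u + 1} (Γ(W.left, ⊤) ⊗[A] J)))
  isBC := fun g _ _ => isBC_ulift J (res g)

/-- elements of `PJ`. -/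
noncomputable def mkJ (J : Type u) [AddCommGroup J] [Module A J] (W : (Spec (CommRingCat.of A)).Etale) :
    Γ(W.left, ⊤) ⊗[A] J ≃+ (PJ (A := A) J).obj (op W) :=
  (AddEquiv.ulift.symm : Γ(W.left, ⊤) ⊗[A] J ≃+ ULift.{u + 1} (Γ(W.left, ⊤) ⊗[A] J))

theorem mkJ_map (J : Type u) [AddCommGroup J] [Module A J]
    {W W' : (Spec (CommRingCat.of A)).Etale} (g : W' ⟶ W) (x : Γ(W.left, ⊤) ⊗[A] J) :
    (PJ J).map g.op (mkJ J W x) = mkJ J W' ((res g).toLinearMap.rTensor J x) := rfl

theorem res_units_id (B : Type u) [CommRing B] [Algebra A B] (W : (Spec (CommRingCat.of A)).Etale)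
    (y : (B ⊗[A] Γ(W.left, ⊤))ˣ) :
    Units.map (ex B (res (𝟙 W)) : B ⊗[A] Γ(W.left, ⊤) →* B ⊗[A] Γ(W.left, ⊤)) y = y := by
  apply Units.ext
  change ex B (res (𝟙 W)) (y : B ⊗[A] Γ(W.left, ⊤)) = y
  rw [res_id]
  simp

theorem res_units_comp (B : Type u) [CommRing B] [Algebra A B] {W W' W'' : (Spec (CommRingCat.of A)).Etale}
    (h : W'' ⟶ W') (g : W' ⟶ W) (y : (B ⊗[A] Γ(W.left, ⊤))ˣ) :
    Units.map (ex B (res (h ≫ g)) : B ⊗[A] Γ(W.left, ⊤) →* B ⊗[A] Γ(W''.left, ⊤)) y =
      Units.map (ex B (res h) : B ⊗[A] Γ(W'.left, ⊤) →* B ⊗[A] Γ(W''.left, ⊤))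
        (Units.map (ex B (res g) : B ⊗[A] Γ(W.left, ⊤) →* B ⊗[A] Γ(W'.left, ⊤)) y) := by
  apply Units.ext
  change ex B (res (h ≫ g)) (y : B ⊗[A] Γ(W.left, ⊤)) = ex B (res h) (ex B (res g) (y : B ⊗[A] Γ(W.left, ⊤)))
  rw [res_comp]
  have : ex B ((res h).comp (res g)) = (ex B (res h)).comp (ex B (res g)) := by
    ext <;> simp
  exact DFunLike.congr_fun this _

/-- units of the base change, as a presheaf of abelian groups -/
noncomputable def PU (B : Type u) [CommRing B] [Algebra A B] :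
    (Spec (CommRingCat.of A)).Etaleᵒᵖ ⥤ AddCommGrpCat.{u} where
  obj W := AddCommGrpCat.of (Additive (B ⊗[A] Γ(W.unop.left, ⊤))ˣ)
  map {W W'} g := AddCommGrpCat.ofHom
    (MonoidHom.toAdditive (Units.map (ex B (res g.unop) : B ⊗[A] Γ(W.unop.left, ⊤) →* B ⊗[A] Γ(W'.unop.left, ⊤))))
  map_id W := AddCommGrpCat.hom_ext (AddMonoidHom.ext fun x => res_units_id B W.unop x)
  map_comp {W W' W''} g h := AddCommGrpCat.hom_ext (AddMonoidHom.ext fun x =>
    res_units_comp B h.unop g.unop x)

/-- elements of `PU`. -/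
noncomputable def mkU (B : Type u) [CommRing B] [Algebra A B] (W : (Spec (CommRingCat.of A)).Etale) :
    Additive (B ⊗[A] Γ(W.left, ⊤))ˣ ≃+ (PU (A := A) B).obj (op W) := AddEquiv.refl _

theorem mkU_map (B : Type u) [CommRing B] [Algebra A B]
    {W W' : (Spec (CommRingCat.of A)).Etale} (g : W' ⟶ W) (x : (B ⊗[A] Γ(W.left, ⊤))ˣ) :
    (PU B).map g.op (mkU B W (Additive.ofMul x)) = mkU B W' (Additive.ofMul (Units.map
      (ex B (res g) : B ⊗[A] Γ(W.left, ⊤) →* B ⊗[A] Γ(W'.left, ⊤)) x)) := rfl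

section nerve

variable {V U : (Spec (CommRingCat.of A)).Etale} (f : V ⟶ U)

/-- functions on the nerve -/
abbrev CC (n : ℕ) : Type u := Γ(((Arrow.mk f).cechNerve _⦋n⦌ : (Spec (CommRingCat.of A)).Etale).left, ⊤)

/-- coface maps -/
noncomputable def aa (n : ℕ) (i : Fin (n + 2)) : CC f n →ₐ[A] CC f (n + 1) :=
  res ((Arrow.mk f).cechNerve.δ i)

theorem dU_eq (B : Type u) [CommRing B] [Algebra A B] (n : ℕ) (y : (B ⊗[A] CC f n)ˣ) :
    dC (PU B) (Arrow.mk f).cechNerve n (mkU B _ (Additive.ofMul y)) =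
      mkU B _ (Additive.ofMul (dU B (aa f n) y)) := by
  refine (dC_apply _ _ _ _).trans ?_
  rw [dU_apply, ofMul_prod, map_sum]
  refine Finset.sum_congr rfl fun i _ => ?_
  rw [ofMul_zpow, map_zsmul]
  rfl

theorem dU_dU (B : Type u) [CommRing B] [Algebra A B] (n : ℕ) (y : (B ⊗[A] CC f n)ˣ) :
    dU B (aa f (n + 1)) (dU B (aa f n) y) = 1 := by
  have h := dC_dC_apply (PU B) (Arrow.mk f).cechNerve n (mkU B _ (Additive.ofMul y))
  have h2 := (dU_eq f B (n + 1) (dU B (aa f n) y)).symm.trans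
    ((congrArg (dC (PU B) (Arrow.mk f).cechNerve (n + 1)) (dU_eq f B n y)).symm.trans h)
  exact h2

theorem dL_eq (J : Type u) [AddCommGroup J] [Module A J] (n : ℕ) (y : J ⊗[A] CC f n) :
    dC (PJ J) (Arrow.mk f).cechNerve n (mkJ J _ (TensorProduct.comm A _ _ y)) =
      mkJ J _ (TensorProduct.comm A _ _ (dL J (aa f n) y)) := by
  refine (dC_apply _ _ _ _).trans ?_
  rw [dL_apply, map_sum, map_sum]
  refine Finset.sum_congr rfl fun i _ => ?_
  rw [map_zsmul, map_zsmul]
  congr 1
  refine (mkJ_map J _ _).trans ?_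
  congr 1
  induction y using TensorProduct.induction_on with
  | zero => simp
  | tmul j c => simp [aa]
  | add x y hx hy => simp only [map_add, hx, hy]

theorem exactL (hf : AffCov f) (n : ℕ) : ExactL (aa f n) (aa f (n + 1)) := by
  intro J _ _ x hx
  have h := (qcPJ (A := A) J).etAcyc f hf n (mkJ J _ (TensorProduct.comm A _ _ x)) (by
    refine (dL_eq f J (n + 1) x).trans ?_
    rw [hx, map_zero, map_zero])
  obtain ⟨y, hy⟩ := h
  obtain ⟨y, rfl⟩ := (mkJ J _).surjective y
  obtain ⟨y, rfl⟩ := (TensorProduct.comm A J (CC f n)).surjective y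
  refine ⟨y, ?_⟩
  have := (dL_eq f J n y).symm.trans hy
  exact (TensorProduct.comm A _ _).injective ((mkJ J _).injective this)

end nerve

end alg

end K281.HensCech
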