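import Groth.Agent.S10960
import Groth.Agent.CurvesA.H2Mu
import Groth.Agent.CurvesA.H1GmPicSurj

/-!
# `H²(P^r, μ_n)` is generated by the class of `O(1)` (`k` separably closed, `n` invertible in `k`)

Stated with the cardinality of `H²(P^r, ℤ/n)` as an input (`hc`).
-/

set_option autoImplicit false
universe u

open CategoryTheory CategoryTheory.Limits AlgebraicGeometry Opposite

namespace K281.PnKummer

open Groth.Agent Groth.Agent.Grpsch Groth.Agent.CurvesA.H1GmPic

variable (r : ℕ) (k : Type u) [Field k]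

/-- Projective space. -/
noncomputable abbrev P : Scheme.{u} := CohB1.ProjSpace r k

/-- `O(d)` -/
noncomputable abbrev tw (d : ℤ) : (P r k).Modules := Twist.twistProjSpace r k d

theorem isInvertible_tw (d : ℤ) : PicF.IsInvertible (tw r k d) :=
  Groth.Agent.S10962.isInvertible_twist k r d

/-- The class of `O(d)`. -/
noncomputable def cl (d : ℤ) : PicGrp.Pic (P r k) := PicGrp.mk (tw r k d) (isInvertible_tw r k d)

theorem cl_mul (a b : ℤ) : cl r k a * cl r k b = cl r k (a + b) := by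
  unfold cl
  rw [PicGrp.mk_mul_mk]
  obtain ⟨e⟩ := Groth.Agent.S10962.nonempty_tensor k r a b
  exact PicGrp.mk_congr e

/-- The homomorphism `ℤ → Pic (P^r)`. -/
noncomputable def clHom : ℤ →+ Additive (PicGrp.Pic (P r k)) :=
  AddMonoidHom.mk' (fun d => Additive.ofMul (cl r k d)) (fun a b => by
    rw [← ofMul_mul, cl_mul])

theorem clHom_surjective : Function.Surjective (clHom r k) := by
  intro c
  obtain ⟨L, hL, hc⟩ := PicGrp.exists_mk (Additive.toMul c)
  obtain ⟨d, ⟨e⟩⟩ := Groth.Agent.S1697.result k r L hL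
  refine ⟨d, ?_⟩
  change Additive.ofMul (cl r k d) = c
  have h : cl r k d = Additive.toMul c := by
    rw [hc]
    exact PicGrp.mk_congr e.symm
  rw [h]
  rfl

theorem clHom_injective (hr : 1 ≤ r) : Function.Injective (clHom r k) := by
  intro a b hab
  have h1 : cl r k a = cl r k b := hab
  obtain ⟨e⟩ := (PicGrp.mk_eq_iff _ _).1 h1
  exact Groth.Agent.S10960.eq_of_iso k r hr e

/-- `ℤ = Pic (P^r) → H^1(P^r, G_m)`. -/
noncomputable def φ : ℤ →+ EtCoh.H (P r k) (EtCoh.Gm (P r k)) 1 :=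
  (clsHom (P r k)).comp (clHom r k)

theorem φ_one : φ r k 1 = clsL (tw r k 1) (isInvertible_tw r k 1) := rfl

theorem φ_surjective : Function.Surjective (φ r k) :=
  (picEquiv (P r k)).surjective.comp (clHom_surjective r k)

theorem φ_injective (hr : 1 ≤ r) : Function.Injective (φ r k) :=
  (clsHom_injective (P r k)).comp (clHom_injective r k hr)

/-- `H²(P^r, μ_n)` is generated by the class of `O(1)` if it has (at most) `n` elements. -/
theorem exists_δ (hr : 1 ≤ r) (n : ℕ) (hn : (n : k) ≠ 0)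
    (hc : Nonempty (EtCoh.H (P r k) (EtCoh.mu (P r k) n) 2 ≃+ ZMod n))
    (y : EtCoh.H (P r k) (EtCoh.mu (P r k) n) 2) :
    ∃ a : ℤ, Dix.KummerLES.δ (CurvesA.H2Mu.isUnit_natCast (CohB1.ProjSpace.toSpec r k) n hn) 1
      (a • clsL (tw r k 1) (isInvertible_tw r k 1)) = y := by
  have hn0 : n ≠ 0 := by rintro rfl; simp at hn
  have hu := CurvesA.H2Mu.isUnit_natCast (CohB1.ProjSpace.toSpec r k) n hn
  have : NeZero n := ⟨hn0⟩
  obtain ⟨e⟩ := hc
  have hfin : Finite (EtCoh.H (P r k) (EtCoh.mu (P r k) n) 2) := Finite.of_equiv _ e.symm.toEquiv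
  have hcard : Nat.card (EtCoh.H (P r k) (EtCoh.mu (P r k) n) 2) = n := by
    rw [Nat.card_congr e.toEquiv, Nat.card_zmod]
  let ψ : ℤ →+ EtCoh.H (P r k) (EtCoh.mu (P r k) n) 2 := (Dix.KummerLES.δ hu 1).comp (φ r k)
  have hψ : ∀ a : ℤ, ψ a = 0 → (n : ℤ) ∣ a := by
    intro a ha
    obtain ⟨y, hy⟩ := Dix.KummerLES.exists_nsmul_of_δ_eq_zero hu 1 (φ r k a) ha
    obtain ⟨b, rfl⟩ := φ_surjective r k y
    rw [← map_nsmul] at hy
    refine ⟨b, ?_⟩
    rw [← φ_injective r k hr hy, nsmul_eq_mul]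
  have hinj : Function.Injective (fun i : Fin n => ψ (i : ℕ)) := by
    intro i j hij
    have h1 : ψ (((i : ℕ) : ℤ) - ((j : ℕ) : ℤ)) = 0 := by
      rw [map_sub, sub_eq_zero]
      exact hij
    have h2 := hψ _ h1
    have h3 : ((i : ℕ) : ℤ) - ((j : ℕ) : ℤ) = 0 := by
      refine Int.eq_zero_of_abs_lt_dvd h2 ?_
      rw [abs_lt]
      constructor <;> omega
    apply Fin.ext
    omega
  have hbij : Function.Bijective (fun i : Fin n => ψ (i : ℕ)) := by
    refine Function.Injective.bijective_of_nat_card_le hinj ?_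
    rw [hcard, Nat.card_eq_fintype_card, Fintype.card_fin]
  obtain ⟨i, hi⟩ := hbij.2 y
  refine ⟨((i : ℕ) : ℤ), ?_⟩
  rw [← φ_one, ← map_zsmul, zsmul_eq_mul, mul_one]
  exact hi

end K281.PnKummer
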