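import Groth.Agent.Sga4A.HensFibre
import Groth.Agent.Dix.K281.KumNat
import Groth.Agent.Dix.K281.PnKummer
import Groth.Agent.Dix.K281.ClsPull

/-!
# `H²(X, G_m)[n] = 0` for `X` proper over a strictly henselian ring with closed fibre `P^r`
-/

set_option autoImplicit false
universe u

open CategoryTheory CategoryTheory.Limits AlgebraicGeometry Opposite
open Groth.Agent.Etcore.Kappa228

namespace K281.ProjFibre

open Groth.Agent Groth.Agent.CurvesA.H1GmPic
open scoped Groth.Agent.Etcore.EtInst Groth.Agent.Etcore.HC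

/-- Every class in `H²(P^r_k, μ_n)` is the Kummer class of a power of `O(1)` (`k` separably closed, `n`
invertible in `k`). -/
def PnGen : Prop := ∀ (r : ℕ) (k : Type u) [Field k] [IsSepClosed k] (n : ℕ) (hn : (n : k) ≠ 0)
    (y : EtCoh.H (PnKummer.P r k) (EtCoh.mu (PnKummer.P r k) n) 2),
    ∃ a : ℤ, Dix.KummerLES.δ (CurvesA.H2Mu.isUnit_natCast (CohB1.ProjSpace.toSpec r k) n hn) 1
      (a • clsL (PnKummer.tw r k 1) (PnKummer.isInvertible_tw r k 1)) = y

theorem isUnit_natCast (A : Type u) [CommRing A] [IsLocalRing A] {X : Scheme.{u}}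
    (f : X ⟶ Spec (CommRingCat.of A)) (n : ℕ) (hn : (n : IsLocalRing.ResidueField A) ≠ 0) :
    IsUnit (n : Γ(X, ⊤)) := by
  have h1 : IsUnit (n : A) := by
    rw [← IsLocalRing.notMem_maximalIdeal, ← IsLocalRing.residue_eq_zero_iff, map_natCast]
    exact hn
  let φ : A →+* Γ(X, ⊤) := ((Scheme.ΓSpecIso (CommRingCat.of A)).inv ≫ f.appTop).hom
  have h2 := h1.map φ
  rwa [map_natCast] at h2

section Main

variable (A : Type u) [CommRing A] [HenselianLocalRing A] [IsSepClosed (IsLocalRing.ResidueField A)]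
  {X : Scheme.{u}} (f : X ⟶ Spec (CommRingCat.of A)) [IsProper f] (r : ℕ)
  (j : PnKummer.P r (IsLocalRing.ResidueField A) ⟶ X)
  (sq : IsPullback j (CohB1.ProjSpace.toSpec r (IsLocalRing.ResidueField A)) f
    (Spec.map (CommRingCat.ofHom (IsLocalRing.residue A))))

include sq in
/-- **Torsion of `H²(X, G_m)` prime to the residue characteristic vanishes if the closed fibre is
`P^r` and `O(1)` extends to `X`.** -/
theorem torsion_H2_eq_zero (hP : PnGen.{u}) (L : X.Modules) (hL : PicF.IsInvertible L)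
    (e : (Scheme.Modules.pullback j).obj L ≅ PnKummer.tw r (IsLocalRing.ResidueField A) 1)
    (n : ℕ) (hn : (n : IsLocalRing.ResidueField A) ≠ 0) (η : EtCoh.H X (EtCoh.Gm X) 2)
    (hη : n • η = 0) : η = 0 := by
  have hu := isUnit_natCast A f n hn
  have hn0 : n ≠ 0 := by rintro rfl; simp at hn
  have : HenselianRing A (IsLocalRing.maximalIdeal A) := inferInstance
  have hinj : Function.Injective (HM n j 2) := by
    refine KumNat.HM_injective j n hu 2 ?_
    exact (Sga4A.HensFibre.Hpull_proper A (IsLocalRing.maximalIdeal A) f j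
      (CohB1.ProjSpace.toSpec r (IsLocalRing.ResidueField A)) sq (EtCoh.mu X n)
      (Etcore.MuGlobal.isTorsion_mu X n (Nat.one_le_iff_ne_zero.2 hn0)) 2).1
  refine KumNat.torsion_eq_zero j n hu hinj (fun y => ?_) η hη
  obtain ⟨a, ha⟩ := hP r (IsLocalRing.ResidueField A) n hn y
  have hL' : PicF.IsInvertible ((Scheme.Modules.pullback j).obj L) :=
    Groth.Agent.Fdesc.LocGen.isInvertible_pullback j hL
  have h1 : HG j 1 (clsL L hL) =
      clsL (PnKummer.tw r (IsLocalRing.ResidueField A) 1) (PnKummer.isInvertible_tw r _ 1) := by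
    refine (KumNat.HGmPull_eq_HG j 1 (clsL L hL)).symm.trans ?_
    refine (ClsPull.HGmPull_clsL j L hL hL').trans ?_
    exact clsL_congr hL' _ e
  refine ⟨a • clsL L hL, ?_⟩
  rw [← ha]
  have h2 : HG j 1 (a • clsL L hL) =
      a • clsL (PnKummer.tw r (IsLocalRing.ResidueField A) 1) (PnKummer.isInvertible_tw r _ 1) := by
    rw [map_zsmul, h1]
  exact congrArg _ h2

end Main

end K281.ProjFibre
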