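import Groth.Agent.EtpbcB.StrictLoc
import Groth.Agent.Topos.H571.GmSys
import Groth.Agent.Dix.K281.KumNat

/-!
# Classes of `G_m` which die over a strict localization of the base die étale-locally on the base
-/

set_option autoImplicit false
universe u

open CategoryTheory CategoryTheory.Limits AlgebraicGeometry Opposite TopologicalSpace
open Groth.Agent.Etcore.Kappa228
open scoped Groth.Agent.Etcore.EtInst

namespace K281.Spread

open Groth.Agent Groth.Agent.EtpbcB.StrictLoc Groth.Agent.Etcore.EtInst Groth.Agent.Etcore.PullCoh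
open Groth.Agent.Etcore Groth.Agent.Etcore.GmFun Groth.Agent.Etcore.LimDeg0

attribute [local instance] Groth.Agent.S0101.result

theorem HHmap_gmp {X Y : Scheme.{u}} (f : X ⟶ Y) (q : ℕ) (x : HH Y (EtCoh.Gm Y) q) :
    HHmap (gmp f) q (HpullCalc.hp f _ q x) = HG f q x :=
  (Topos.H571.GmGlue.HGmPull_eq f q x).symm.trans (KumNat.HGmPull_eq_HG f q x)

/-- A class which dies on `X ×_Y Spec O^sh` dies on `X ×_Y V` for an étale neighbourhood `V`. -/
theorem exists_nbh {Y X' : Scheme.{u}} (b : X' ⟶ Y) [QuasiCompact b] [QuasiSeparated b]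
    {Ω : Type u} [Field Ω] [IsSepClosed Ω] (ξ : Spec (CommRingCat.of Ω) ⟶ Y)
    {XA : Scheme.{u}} {fA : XA ⟶ Spec (Osh ξ)} {a : XA ⟶ X'} (h : IsPullback a fA b (toBase ξ))
    (q : ℕ) (η : HH X' (EtCoh.Gm X') q) (h0 : HG a q η = 0) :
    ∃ V : Y.Etale, ξ default ∈ Set.range V.hom ∧ HG ((EtCoh.bc b).obj V).hom q η = 0 := by
  let i := i₀ ξ
  let p : ∀ i, XA ⟶ (DX ξ b).obj i := fun i => legX ξ b h i
  have hp : ∀ {x y : Idx ξ} (f : x ⟶ y), p x ≫ (DX ξ b).map f = p y := fun g => legX_map ξ b h g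
  have hc : IsLimit (coneOf (D := DX ξ b) p hp) := isLimitConeX ξ b h
  let x : HH ((DX ξ b).obj i) (EtCoh.Gm ((DX ξ b).obj i)) q :=
    HG ((EtCoh.bc b).obj ((D ξ).obj i)).hom q η
  have i1 : ∀ i, PreservesFiniteLimits (EtCoh.pull (p i)) := fun i => Groth.Agent.S0101.result _
  have i2 : ∀ {i j : Idx ξ} (f : i ⟶ j), PreservesFiniteLimits (EtCoh.pull ((DX ξ b).map f)) :=
    fun f => Groth.Agent.S0101.result _
  have hx : HHmap (gmp (p i)) q (HpullCalc.hp (p i) _ q x) = 0 :=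
    (HHmap_gmp (p i) q x).trans
      ((HG_HG (legX ξ b h i) ((EtCoh.bc b).obj ((D ξ).obj i)).hom a (legX_hom ξ b h i) q η).trans h0)
  obtain ⟨k, f, hk⟩ := Topos.H571.GmSys.exists_gm_eq_zero (D := DX ξ b) p hp hc q i x hx
  refine ⟨(D ξ).obj k, ⟨lft ξ k default, ?_⟩, ?_⟩
  · exact congrArg (fun g => g default) (lft_hom ξ k)
  · refine Eq.trans ?_ ((HHmap_gmp ((DX ξ b).map f) q x).symm.trans hk)
    exact (HG_HG ((DX ξ b).map f) ((EtCoh.bc b).obj ((D ξ).obj i)).hom _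
      (CategoryTheory.Over.w ((EtCoh.bc b).map ((D ξ).map f)).hom) q η).symm

end K281.Spread
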