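import Groth.Agent.EtpbcB.OshHens
import Groth.Agent.S0073
import Groth.Agent.Dix.K281.Spread
import Groth.Agent.Dix.K281.Geo
import Groth.Agent.Dix.K281.ProjFibre

/-!
# Torsion classes on the blow-up are étale-locally trivial on the base
-/

set_option autoImplicit false
universe u

open CategoryTheory CategoryTheory.Limits AlgebraicGeometry Opposite TopologicalSpace BlowUp
open Groth.Agent.Etcore.Kappa228
open scoped Groth.Agent.Etcore.EtInst

namespace K281.LocTriv

open Groth.Agent Groth.Agent.EtpbcB.StrictLoc Groth.Agent.Etcore.EtInst Groth.Agent.Etcore.PullCoh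
open Groth.Agent.Etcore K281.Geo Groth.Agent.Etrest.StrictLoc

attribute [local instance] Groth.Agent.S0101.result

section Pt

variable {X : Scheme.{u}} {Ω : Type u} [Field Ω] [IsSepClosed Ω] (ξ : Spec (CommRingCat.of Ω) ⟶ X)

theorem toBase_closedPoint : toBase ξ (IsLocalRing.closedPoint (Osh ξ)) = ξ default := by
  rw [← pt_default ξ]
  exact congrArg (fun g => g default) (pt_toBase ξ)

/-- The closed point of the strict localization. -/
noncomputable def cp : Spec (CommRingCat.of (IsLocalRing.ResidueField (Osh ξ))) ⟶ Spec (Osh ξ) :=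
  Spec.map (CommRingCat.ofHom (IsLocalRing.residue (Osh ξ)))

theorem cp_toBase (z : Spec (CommRingCat.of (IsLocalRing.ResidueField (Osh ξ)))) :
    (cp ξ ≫ toBase ξ) z = ξ default := by
  rw [← toBase_closedPoint ξ]
  exact congrArg (toBase ξ) (resPt_closedPoint (Osh ξ) z)

end Pt

variable {X X' : Scheme.{u}} [IsLocallyNoetherian X]
  (hreg : ∀ x : X, IsRegularLocalRing (X.presheaf.stalk x)) (I : X.IdealSheafData)
  (hYreg : ∀ y : ↥I.subscheme, IsRegularLocalRing (I.subscheme.presheaf.stalk y))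
  (hYcodim : ∀ x : X, x ∈ I.support → 1 ≤ ringKrullDim (X.presheaf.stalk x))
  (b : X' ⟶ X) (hb : IsBlowUp b I)

include hb in
/-- Off the centre. -/
theorem exists_of_notMem (x : X) (hx : x ∈ effLocus I) (η : HH X' (EtCoh.Gm X') 2) :
    ∃ V : X.Etale, x ∈ Set.range V.hom ∧ HG ((EtCoh.bc b).obj V).hom 2 η = 0 := by
  obtain ⟨Ω, _, _, ξ, hξ⟩ := Groth.Agent.Etcore.Stalks.exists_geom x
  have hprop : IsProper b := K555.BlowGeo.isProper hb
  obtain ⟨s, hs⟩ := exists_section_effLocus hb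
  have hr : Set.range (toBase ξ) ⊆ Set.range (effLocus I).ι := by
    rintro _ ⟨z, rfl⟩
    have h1 : toBase ξ z ⤳ x := by
      rw [← hξ, ← toBase_closedPoint ξ]
      exact (IsLocalRing.specializes_closedPoint z).map (toBase ξ).continuous
    rw [Scheme.Opens.range_ι]
    exact h1.mem_open (effLocus I).isOpen hx
  let t : Spec (Osh ξ) ⟶ (effLocus I : Scheme.{u}) := IsOpenImmersion.lift (effLocus I).ι (toBase ξ) hr
  have ht : t ≫ (effLocus I).ι = toBase ξ := IsOpenImmersion.lift_fac _ _ _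
  have h2 : IsPullback (t ≫ s) (𝟙 _) b (t ≫ (effLocus I).ι) :=
    (IsPullback.of_vert_isIso ⟨by simp⟩ : IsPullback t (𝟙 _) (𝟙 _) t).paste_horiz hs
  rw [ht] at h2
  have h3 : Subsingleton (HH (Spec (Osh ξ)) (EtCoh.Gm _) 2) :=
    Groth.Agent.S0073.result (Osh ξ) (EtCoh.Gm _) 2 (by norm_num)
  obtain ⟨V, hV, hV0⟩ := K281.Spread.exists_nbh b ξ h2 2 η (h3.elim _ _)
  exact ⟨V, by rw [← hξ]; exact hV, hV0⟩

include hreg hYreg hYcodim hb in
/-- On the centre. -/
theorem exists_of_mem (hP : K281.ProjFibre.PnGen.{u}) (x : X) (hx : x ∈ I.support) (n : ℕ)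
    (hn : (n : X.residueField x) ≠ 0) (η : HH X' (EtCoh.Gm X') 2) (hη : n • η = 0) :
    ∃ V : X.Etale, x ∈ Set.range V.hom ∧ HG ((EtCoh.bc b).obj V).hom 2 η = 0 := by
  obtain ⟨Ω, _, _, ξ, hξ⟩ := Groth.Agent.Etcore.Stalks.exists_geom x
  have hprop : IsProper b := K555.BlowGeo.isProper hb
  have hg : (cp ξ ≫ toBase ξ) (IsLocalRing.closedPoint (IsLocalRing.ResidueField (Osh ξ))) = x := by
    rw [← hξ]
    exact cp_toBase ξ _
  obtain ⟨L, hL, r, j, hj, ⟨e⟩⟩ := K281.FibreP.exists_fibre hreg I hYreg hYcodim b hb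
    (cp ξ ≫ toBase ξ) (by rw [hg]; exact hx)
  obtain ⟨κ, -⟩ := exists_residueField_hom (cp ξ ≫ toBase ξ) x hg
  have hn' : (n : IsLocalRing.ResidueField (Osh ξ)) ≠ 0 := by
    intro h0
    apply hn
    apply κ.injective
    rw [map_natCast, map_zero, h0]
  have h : IsPullback (pullback.fst b (toBase ξ)) (pullback.snd b (toBase ξ)) b (toBase ξ) :=
    IsPullback.of_hasPullback _ _
  let j' := h.lift j (CohB1.ProjSpace.toSpec r (IsLocalRing.ResidueField (Osh ξ)) ≫ cp ξ) (by
    rw [Category.assoc]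
    exact hj.w)
  have hj' : j' ≫ pullback.fst b (toBase ξ) = j := h.lift_fst _ _ _
  have sq : IsPullback j' (CohB1.ProjSpace.toSpec r (IsLocalRing.ResidueField (Osh ξ)))
      (pullback.snd b (toBase ξ)) (cp ξ) := by
    refine IsPullback.of_right ?_ (h.lift_snd _ _ _) h
    rw [hj']
    exact hj
  have h0 : HG (pullback.fst b (toBase ξ)) 2 η = 0 := by
    refine @K281.ProjFibre.torsion_H2_eq_zero (Osh ξ) _ (henselianLocalRing ξ)
      (isSepClosed_residueField ξ) _ (pullback.snd b (toBase ξ)) _ r j' sq hP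
      ((Scheme.Modules.pullback (pullback.fst b (toBase ξ))).obj L)
      (Fdesc.LocGen.isInvertible_pullback (pullback.fst b (toBase ξ)) hL)
      ((Scheme.Modules.pullbackComp j' (pullback.fst b (toBase ξ))).app L ≪≫
        (Scheme.Modules.pullbackCongr hj').app L ≪≫ e) n hn' _ ?_
    exact (map_nsmul (HG (pullback.fst b (toBase ξ)) 2) n η).symm.trans (by rw [hη, map_zero])
  obtain ⟨V, hV, hV0⟩ := K281.Spread.exists_nbh b ξ h 2 η h0
  exact ⟨V, by rw [← hξ]; exact hV, hV0⟩

end K281.LocTriv
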