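import Groth.Agent.S3171
import Groth.Agent.S3172
import Groth.Agent.Dix.K281.PnKummer

/-!
# `H²(P^r, μ_n)` is generated by the class of `O(1)`
-/

set_option autoImplicit false
universe u

open CategoryTheory CategoryTheory.Limits AlgebraicGeometry Opposite

namespace K281.PnMu

open Groth.Agent Groth.Agent.CurvesA.H1GmPic

section Pn

variable (r : ℕ) (k : Type u) [Field k] [IsSepClosed k]

theorem nonempty_H2_mu (hr : 1 ≤ r) (n : ℕ) (hn : (n : k) ≠ 0) :
    Nonempty (EtCoh.H (PnKummer.P r k) (EtCoh.mu (PnKummer.P r k) n) 2 ≃+ ZMod n) := by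
  obtain ⟨e⟩ := Groth.Agent.S3172.result k n hn r 1 hr
  obtain ⟨e'⟩ := CurvesA.MuConst.nonempty_iso_const_mu_of_isSepClosed k n hn (CohB1.ProjSpace.toSpec r k)
  exact ⟨(CurvesA.H2Mu.hEquiv e' 2).symm.trans e⟩

theorem subsingleton_H2_mu (n : ℕ) (hn : (n : k) ≠ 0) :
    Subsingleton (EtCoh.H (PnKummer.P 0 k) (EtCoh.mu (PnKummer.P 0 k) n) 2) := by
  have h := Groth.Agent.S3171.result k n hn 0 2 (Or.inr (by omega))
  obtain ⟨e'⟩ := CurvesA.MuConst.nonempty_iso_const_mu_of_isSepClosed k n hn (CohB1.ProjSpace.toSpec 0 k)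
  exact (CurvesA.H2Mu.hEquiv e' 2).symm.toEquiv.subsingleton

/-- Every class in `H²(P^r, μ_n)` is the Kummer class of a power of `O(1)`. -/
theorem exists_δ (n : ℕ) (hn : (n : k) ≠ 0)
    (y : EtCoh.H (PnKummer.P r k) (EtCoh.mu (PnKummer.P r k) n) 2) :
    ∃ a : ℤ, Dix.KummerLES.δ (CurvesA.H2Mu.isUnit_natCast (CohB1.ProjSpace.toSpec r k) n hn) 1
      (a • clsL (PnKummer.tw r k 1) (PnKummer.isInvertible_tw r k 1)) = y := by
  rcases Nat.eq_zero_or_pos r with rfl | hr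
  · have := subsingleton_H2_mu k n hn
    exact ⟨0, Subsingleton.elim _ _⟩
  · exact PnKummer.exists_δ r k hr n hn (nonempty_H2_mu r k hr n hn) y

end Pn

end K281.PnMu
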