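import Mathlib.RingTheory.Smooth.Basic
import Mathlib.RingTheory.FinitePresentation
import Mathlib.RingTheory.Flat.Basic
import Mathlib.LinearAlgebra.TensorProduct.RightExactness
import Mathlib.LinearAlgebra.FreeModule.Finite.Basic
import Mathlib.RingTheory.TensorProduct.Free
import Mathlib.Algebra.MvPolynomial.CommRing

/-!
# Unit cochains: the scheme of solutions of `d y = x`

`C0 → C1 → C2` finite free `R`-algebras with finite families of algebra maps `a i : C0 → C1`, `b j : C1 → C2`.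
For an `R`-algebra `A` the multiplicative differential is
`dU A a y = ∏ i, (a i) y ^ (-1)^i` on units of `A ⊗ C0`.  If the additive complexes
`J ⊗ C0 → J ⊗ C1 → J ⊗ C2` are exact for all `R`-modules `J`, then for a cocycle `x` the functor of
solutions of `dU y = x` is represented by a smooth algebra.
-/

set_option autoImplicit false
universe u v w
open scoped TensorProduct

namespace K281.UnitCob

variable {R : Type u} [CommRing R]

section basic

variable (A : Type v) [CommRing A] [Algebra R A] {C0 C1 C2 : Type u} [CommRing C0] [Algebra R C0]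
  [CommRing C1] [Algebra R C1] [CommRing C2] [Algebra R C2]

/-- extension of scalars of an algebra map to `A ⊗ -`. -/
noncomputable abbrev ex (a : C0 →ₐ[R] C1) : A ⊗[R] C0 →ₐ[R] A ⊗[R] C1 :=
  Algebra.TensorProduct.map (AlgHom.id R A) a

variable {A}

/-- base change along `f : A → B`. -/
noncomputable abbrev bc {B : Type w} [CommRing B] [Algebra R B] (f : A →ₐ[R] B) (C : Type u)
    [CommRing C] [Algebra R C] : A ⊗[R] C →ₐ[R] B ⊗[R] C :=
  Algebra.TensorProduct.map f (AlgHom.id R C)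

theorem bc_ex {B : Type w} [CommRing B] [Algebra R B] (f : A →ₐ[R] B) (a : C0 →ₐ[R] C1)
    (x : A ⊗[R] C0) : bc f C1 (ex A a x) = ex B a (bc f C0 x) := by
  have : (bc f C1).comp (ex A a) = (ex B a).comp (bc f C0) := by
    ext <;> simp
  exact DFunLike.congr_fun this x

variable (A)

/-- The multiplicative differential. -/
noncomputable def dU {p : ℕ} (a : Fin p → (C0 →ₐ[R] C1)) : (A ⊗[R] C0)ˣ →* (A ⊗[R] C1)ˣ where
  toFun y := ∏ i, (Units.map (ex A (a i) : A ⊗[R] C0 →* A ⊗[R] C1) y) ^ ((-1 : ℤ) ^ (i : ℕ))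
  map_one' := by simp
  map_mul' x y := by
    simp only [map_mul, mul_zpow, Finset.prod_mul_distrib]

theorem dU_apply {p : ℕ} (a : Fin p → (C0 →ₐ[R] C1)) (y : (A ⊗[R] C0)ˣ) :
    dU A a y = ∏ i, (Units.map (ex A (a i) : A ⊗[R] C0 →* A ⊗[R] C1) y) ^ ((-1 : ℤ) ^ (i : ℕ)) := rfl

theorem bc_dU {B : Type w} [CommRing B] [Algebra R B] (f : A →ₐ[R] B) {p : ℕ}
    (a : Fin p → (C0 →ₐ[R] C1)) (y : (A ⊗[R] C0)ˣ) :
    Units.map (bc f C1 : A ⊗[R] C1 →* B ⊗[R] C1) (dU A a y) =
      dU B a (Units.map (bc f C0 : A ⊗[R] C0 →* B ⊗[R] C0) y) := by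
  rw [dU_apply, dU_apply, map_prod]
  refine Finset.prod_congr rfl fun i _ => ?_
  rw [map_zpow]
  congr 1
  ext
  exact bc_ex f (a i) _

/-- The additive differential. -/
noncomputable def dL (J : Type v) [AddCommGroup J] [Module R J] {p : ℕ}
    (a : Fin p → (C0 →ₐ[R] C1)) : J ⊗[R] C0 →ₗ[R] J ⊗[R] C1 :=
  ∑ i : Fin p, ((-1 : ℤ) ^ (i : ℕ)) • (a i).toLinearMap.lTensor J

theorem dL_apply (J : Type v) [AddCommGroup J] [Module R J] {p : ℕ}
    (a : Fin p → (C0 →ₐ[R] C1)) (x : J ⊗[R] C0) :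
    dL J a x = ∑ i : Fin p, ((-1 : ℤ) ^ (i : ℕ)) • (a i).toLinearMap.lTensor J x := by
  simp [dL]

end basic

section expo

variable {M : Type v} {S : Type w} [AddCommGroup M] [CommRing S] (e : M →+ S)
  (h : ∀ m m', e m * e m' = 0)

/-- The exponential `m ↦ 1 + e m`. -/
def expo (m : M) : Sˣ := ⟨1 + e m, 1 - e m, by
    have := h m m; linear_combination -this, by
    have := h m m; linear_combination -this⟩

theorem expo_val (m : M) : (expo e h m : S) = 1 + e m := rfl

theorem expo_zero : expo e h 0 = 1 := by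
  ext; simp [expo_val]

theorem expo_add (x y : M) : expo e h (x + y) = expo e h x * expo e h y := by
  ext
  simp only [expo_val, map_add, Units.val_mul]
  linear_combination - (h x y)

/-- The exponential as a homomorphism. -/
def expoHom : Multiplicative M →* Sˣ where
  toFun m := expo e h m.toAdd
  map_one' := expo_zero e h
  map_mul' _ _ := expo_add e h _ _

theorem expo_sum {n : ℕ} (f : Fin n → M) (c : Fin n → ℤ) :
    expo e h (∑ i, c i • f i) = ∏ i, (expo e h (f i)) ^ (c i) := by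
  have h1 := map_prod (expoHom e h) (fun i => Multiplicative.ofAdd (c i • f i)) Finset.univ
  rw [← ofAdd_sum] at h1
  refine h1.trans (Finset.prod_congr rfl fun i _ => ?_)
  rw [ofAdd_zsmul, map_zpow]
  rfl

end expo

section sqzero

variable {B : Type w} [CommRing B] [Algebra R B] (N : Ideal B) (hN : N ^ 2 = ⊥)
  (C : Type u) [CommRing C] [Algebra R C]

/-- The inclusion `N ⊗ C → B ⊗ C`. -/
noncomputable def inc : (N.restrictScalars R) ⊗[R] C →ₗ[R] B ⊗[R] C :=
  ((N.restrictScalars R).subtype).rTensor C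

include hN in
theorem inc_mul (x y : (N.restrictScalars R) ⊗[R] C) : inc N C x * inc N C y = 0 := by
  induction x using TensorProduct.induction_on with
  | zero => simp
  | tmul n c =>
    induction y using TensorProduct.induction_on with
    | zero => simp
    | tmul n' c' =>
      have h1 : (n : B) * (n' : B) = 0 := by
        have : (n : B) * (n' : B) ∈ N ^ 2 := by
          rw [pow_two]; exact Ideal.mul_mem_mul n.2 n'.2
        rw [hN] at this
        exact this
      simp [inc, h1]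
    | add y y' hy hy' => rw [map_add, mul_add, hy, hy', add_zero]
  | add x x' hx hx' => rw [map_add, add_mul, hx, hx', add_zero]

/-- The exponential on `N ⊗ C`. -/
noncomputable def expN (m : (N.restrictScalars R) ⊗[R] C) : (B ⊗[R] C)ˣ :=
  expo (inc (R := R) N C).toAddMonoidHom (inc_mul (R := R) N hN C) m

theorem expN_val (m : (N.restrictScalars R) ⊗[R] C) :
    (expN N hN C m : B ⊗[R] C) = 1 + inc N C m := rfl

theorem expN_zero : expN (R := R) N hN C 0 = 1 := expo_zero _ _

theorem inc_injective [Module.Flat R C] : Function.Injective (inc (R := R) N C) :=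
  Module.Flat.rTensor_preserves_injective_linearMap _ (Submodule.subtype_injective _)

include hN in
theorem expN_injective [Module.Flat R C] : Function.Injective (expN (R := R) N hN C) := by
  intro x y hxy
  have h1 : (1 : B ⊗[R] C) + inc N C x = 1 + inc N C y := congrArg Units.val hxy
  exact inc_injective N C (add_left_cancel h1)

theorem ker_bc (z : B ⊗[R] C) :
    bc (Ideal.Quotient.mkₐ R N) C z = 0 ↔ z ∈ Set.range (inc (R := R) N C) := by
  have hex : Function.Exact (N.restrictScalars R).subtype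
      (Ideal.Quotient.mkₐ R N).toLinearMap := by
    intro b
    simp only [AlgHom.toLinearMap_apply, Ideal.Quotient.mkₐ_eq_mk, Ideal.Quotient.eq_zero_iff_mem]
    constructor
    · intro h; exact ⟨⟨b, h⟩, rfl⟩
    · rintro ⟨⟨c, h⟩, rfl⟩; exact h
  have h := rTensor_exact C hex (Ideal.Quotient.mk_surjective)
  exact h z

theorem bc_surjective : Function.Surjective (bc (Ideal.Quotient.mkₐ R N) C) := by
  have := LinearMap.rTensor_surjective C (g := (Ideal.Quotient.mkₐ R N).toLinearMap)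
    (Ideal.Quotient.mk_surjective)
  exact this

variable {C} {C' : Type u} [CommRing C'] [Algebra R C']

theorem ex_inc (a : C →ₐ[R] C') (m : (N.restrictScalars R) ⊗[R] C) :
    ex B a (inc N C m) = inc N C' (a.toLinearMap.lTensor _ m) := by
  induction m using TensorProduct.induction_on with
  | zero => simp
  | tmul n c => simp [inc]
  | add x y hx hy => rw [map_add, map_add, map_add, map_add, hx, hy]

theorem map_expN (a : C →ₐ[R] C') (m : (N.restrictScalars R) ⊗[R] C) :
    Units.map (ex B a : B ⊗[R] C →* B ⊗[R] C') (expN N hN C m) =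
      expN N hN C' (a.toLinearMap.lTensor _ m) := by
  ext
  change ex B a (expN N hN C m : B ⊗[R] C) = _
  rw [expN_val, expN_val, map_add, map_one, ex_inc]

theorem dU_expN {p : ℕ} (a : Fin p → (C →ₐ[R] C')) (m : (N.restrictScalars R) ⊗[R] C) :
    dU B a (expN N hN C m) =
      expN N hN C' (dL _ a m) := by
  rw [dL_apply, dU_apply]
  simp_rw [map_expN]
  exact (expo_sum _ _ _ _).symm

include hN in
/-- A unit lifts along a square-zero thickening. -/
theorem exists_unit_lift (y₀ : ((B ⧸ N) ⊗[R] C)ˣ) :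
    ∃ y : (B ⊗[R] C)ˣ, Units.map (bc (Ideal.Quotient.mkₐ R N) C : B ⊗[R] C →* (B ⧸ N) ⊗[R] C) y = y₀ := by
  obtain ⟨y, hy⟩ := bc_surjective (R := R) N C (y₀ : (B ⧸ N) ⊗[R] C)
  obtain ⟨z, hz⟩ := bc_surjective (R := R) N C ((y₀⁻¹ : ((B ⧸ N) ⊗[R] C)ˣ) : (B ⧸ N) ⊗[R] C)
  have h1 : bc (Ideal.Quotient.mkₐ R N) C (y * z - 1) = 0 := by
    rw [map_sub, map_mul, hy, hz, map_one, Units.mul_inv, sub_self]
  obtain ⟨m, hm⟩ := (ker_bc N C _).1 h1
  have h2 : (y * z - 1) * (y * z - 1) = 0 := by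
    rw [← hm]; exact inc_mul N hN C m m
  refine ⟨⟨y, z * (1 - (y * z - 1)), ?_, ?_⟩, ?_⟩
  · linear_combination -h2
  · linear_combination -h2
  · ext
    exact hy

/-- A unit that reduces to one is an exponential. -/
theorem exists_expN (u : (B ⊗[R] C)ˣ)
    (hu : Units.map (bc (Ideal.Quotient.mkₐ R N) C : B ⊗[R] C →* (B ⧸ N) ⊗[R] C) u = 1) :
    ∃ m, expN N hN C m = u := by
  have h1 : bc (Ideal.Quotient.mkₐ R N) C ((u : B ⊗[R] C) - 1) = 0 := by
    have := congrArg Units.val hu
    rw [map_sub, map_one, sub_eq_zero]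
    exact this
  obtain ⟨m, hm⟩ := (ker_bc N C _).1 h1
  refine ⟨m, ?_⟩
  ext
  rw [expN_val, hm]
  ring

end sqzero

section lift

variable {C0 C1 C2 : Type u} [CommRing C0] [Algebra R C0]
  [CommRing C1] [Algebra R C1] [CommRing C2] [Algebra R C2] [Module.Flat R C2]
  {p q : ℕ} (a : Fin p → (C0 →ₐ[R] C1)) (b : Fin q → (C1 →ₐ[R] C2))

/-- Exactness hypothesis. -/
def ExactL : Prop := ∀ (J : Type u) [AddCommGroup J] [Module R J] (x : J ⊗[R] C1),
  dL J b x = 0 → ∃ y : J ⊗[R] C0, dL J a y = x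

/-- Infinitesimal lifting of solutions of `dU y = x`. -/
theorem exists_lift (hex : ExactL a b)
    (hd : ∀ (A : Type u) [CommRing A] [Algebra R A] (y : (A ⊗[R] C0)ˣ), dU A b (dU A a y) = 1)
    (B : Type u) [CommRing B] [Algebra R B] (N : Ideal B) (hN : N ^ 2 = ⊥)
    (x : (B ⊗[R] C1)ˣ) (hx : dU B b x = 1) (y₀ : ((B ⧸ N) ⊗[R] C0)ˣ)
    (hy₀ : dU (B ⧸ N) a y₀ = Units.map (bc (Ideal.Quotient.mkₐ R N) C1 : B ⊗[R] C1 →* (B ⧸ N) ⊗[R] C1) x) :
    ∃ y : (B ⊗[R] C0)ˣ, Units.map (bc (Ideal.Quotient.mkₐ R N) C0 : B ⊗[R] C0 →* (B ⧸ N) ⊗[R] C0) y = y₀ ∧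
      dU B a y = x := by
  obtain ⟨y, hy⟩ := exists_unit_lift (R := R) N hN (C := C0) y₀
  have h1 : Units.map (bc (Ideal.Quotient.mkₐ R N) C1 : B ⊗[R] C1 →* (B ⧸ N) ⊗[R] C1) (x * (dU B a y)⁻¹) = 1 := by
    rw [map_mul, map_inv, bc_dU, hy, hy₀, mul_inv_cancel]
  obtain ⟨m, hm⟩ := exists_expN N hN _ h1
  have h2 : dU B b (x * (dU B a y)⁻¹) = 1 := by
    rw [map_mul, map_inv, hx, hd, inv_one, mul_one]
  rw [← hm, dU_expN] at h2
  have h3 : dL _ b m = 0 := by
    exact expN_injective (R := R) N hN C2 (h2.trans (expN_zero N hN C2).symm)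
  obtain ⟨n, hn⟩ := hex _ m h3
  refine ⟨y * expN N hN C0 n, ?_, ?_⟩
  · rw [map_mul, hy]
    convert mul_one y₀
    ext
    change bc (Ideal.Quotient.mkₐ R N) C0 (expN N hN C0 n : B ⊗[R] C0) = 1
    rw [expN_val, map_add, map_one, (ker_bc N C0 _).2 ⟨n, rfl⟩, add_zero]
  · rw [map_mul, dU_expN, hn, hm]
    rw [mul_comm x, mul_inv_cancel_left]

end lift

end K281.UnitCob
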