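import Groth.Agent.Dix.K281.UnitCob
import Groth.Agent.S0536
import Mathlib.LinearAlgebra.TensorProduct.Basis
import Mathlib.RingTheory.TensorProduct.Free

/-!
# Representability of the functor of solutions of `d y = x`, smoothness, and lifting over henselian pairs
-/

set_option autoImplicit false
universe u v w
open scoped TensorProduct

namespace K281.UnitCobHens

open UnitCob

variable {R : Type u} [CommRing R]

/-- The vanishing ideal of an element of `P ⊗ M`, `M` finite free. -/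
theorem exists_ideal (P : Type u) [CommRing P] [Algebra R P] (M : Type u) [AddCommGroup M]
    [Module R M] [Module.Finite R M] [Module.Free R M] (E : P ⊗[R] M) :
    ∃ q : Ideal P, q.FG ∧ ∀ (A : Type u) [CommRing A] [Algebra R A] (h : P →ₐ[R] A),
      (h.toLinearMap.rTensor M E = 0 ↔ ∀ z ∈ q, h z = 0) := by
  let b := Module.Free.chooseBasis R M
  let B := Algebra.TensorProduct.basis P b
  refine ⟨Ideal.span (Set.range fun j => B.repr E j), (Submodule.fg_span (Set.finite_range _)), ?_⟩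
  intro A _ _ h
  let B' := Algebra.TensorProduct.basis A b
  have h1 : ∀ j, B'.repr (h.toLinearMap.rTensor M E) j = h (B.repr E j) := by
    intro j
    induction E using TensorProduct.induction_on with
    | zero => simp
    | tmul p m =>
      simp only [LinearMap.rTensor_tmul, AlgHom.toLinearMap_apply, B, B']
      rw [Algebra.TensorProduct.basis_repr_tmul, Algebra.TensorProduct.basis_repr_tmul]
      simp
    | add x y hx hy => simp only [map_add, Finsupp.add_apply, hx, hy]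
  constructor
  · intro h0 z hz
    induction hz using Submodule.span_induction with
    | mem z hz =>
      obtain ⟨j, rfl⟩ := hz
      rw [← h1, h0]; simp
    | zero => simp
    | add x y _ _ hx hy => rw [map_add, hx, hy, add_zero]
    | smul a x _ hx => rw [smul_eq_mul, map_mul, hx, mul_zero]
  · intro hz
    apply B'.repr.injective
    ext j
    rw [h1, hz _ (Ideal.subset_span ⟨j, rfl⟩)]
    simp

section rep

variable {C0 C1 : Type u} [CommRing C0] [Algebra R C0] [CommRing C1] [Algebra R C1]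
  {p : ℕ} (a : Fin p → (C0 →ₐ[R] C1))

/-- product with signs, using an element and its inverse. -/
noncomputable def dE (A : Type u) [CommRing A] [Algebra R A] (y y' : A ⊗[R] C0) : A ⊗[R] C1 :=
  ∏ i : Fin p, ex A (a i) (if Even (i : ℕ) then y else y')

theorem dE_eq (A : Type u) [CommRing A] [Algebra R A] (y : (A ⊗[R] C0)ˣ) :
    dE a A (y : A ⊗[R] C0) ((y⁻¹ : (A ⊗[R] C0)ˣ) : A ⊗[R] C0) = (dU A a y : A ⊗[R] C1) := by
  rw [dE, dU_apply, Units.coe_prod]
  refine Finset.prod_congr rfl fun i _ => ?_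
  split_ifs with hi
  · rw [hi.neg_one_pow, zpow_one]
    rfl
  · rw [(Nat.not_even_iff_odd.1 hi).neg_one_pow, zpow_neg_one, ← map_inv]
    rfl

theorem bc_dE {A B : Type u} [CommRing A] [Algebra R A] [CommRing B] [Algebra R B] (f : A →ₐ[R] B)
    (y y' : A ⊗[R] C0) : bc f C1 (dE a A y y') = dE a B (bc f C0 y) (bc f C0 y') := by
  rw [dE, dE, map_prod]
  refine Finset.prod_congr rfl fun i _ => ?_
  rw [bc_ex]
  split_ifs <;> rfl

/-- The image of `x : C1` in `A ⊗ C1`. -/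
noncomputable abbrev xA (A : Type u) [CommRing A] [Algebra R A] (x : C1ˣ) : (A ⊗[R] C1)ˣ :=
  Units.map (Algebra.TensorProduct.includeRight : C1 →ₐ[R] A ⊗[R] C1) x

theorem bc_xA {A B : Type u} [CommRing A] [Algebra R A] [CommRing B] [Algebra R B] (f : A →ₐ[R] B)
    (x : C1ˣ) : Units.map (bc f C1 : A ⊗[R] C1 →* B ⊗[R] C1) (xA A x) = xA B x := by
  ext
  change bc f C1 (1 ⊗ₜ (x : C1)) = 1 ⊗ₜ (x : C1)
  simp

variable [Module.Finite R C0] [Module.Free R C0] [Module.Finite R C1] [Module.Free R C1]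

omit [CommRing C1] [Algebra R C1] [Module.Finite R C0] [Module.Free R C0] [Module.Finite R C1]
  [Module.Free R C1] in
theorem repr_sum_tmul {ι : Type*} [Fintype ι] (b : Module.Basis ι R C0) (A : Type u) [CommRing A]
    [Algebra R A] (c : ι → A) (j : ι) :
    (Algebra.TensorProduct.basis A b).repr (∑ i, c i ⊗ₜ[R] b i) j = c j := by
  classical
  rw [map_sum, Finsupp.finsetSum_apply]
  simp only [Algebra.TensorProduct.basis_repr_tmul]
  simp [Finsupp.single_apply]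

omit [CommRing C1] [Algebra R C1] [Module.Finite R C0] [Module.Free R C0] [Module.Finite R C1]
  [Module.Free R C1] in
theorem sum_repr_tmul {ι : Type*} [Fintype ι] (b : Module.Basis ι R C0) (A : Type u) [CommRing A]
    [Algebra R A] (t : A ⊗[R] C0) :
    ∑ i, ((Algebra.TensorProduct.basis A b).repr t i) ⊗ₜ[R] b i = t := by
  conv_rhs => rw [← (Algebra.TensorProduct.basis A b).sum_repr t]
  refine Finset.sum_congr rfl fun i _ => ?_
  rw [Algebra.TensorProduct.basis_apply, TensorProduct.smul_tmul', smul_eq_mul, mul_one]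

omit [CommRing C1] [Algebra R C1] [Module.Finite R C1] [Module.Free R C1] in
/-- The universal pair of elements. -/
theorem exists_univ_pair : ∃ (P₀ : Type u) (_ : CommRing P₀) (_ : Algebra R P₀)
    (_ : Algebra.FinitePresentation R P₀) (Y Y' : P₀ ⊗[R] C0),
    (∀ (A : Type u) [CommRing A] [Algebra R A] (y y' : A ⊗[R] C0),
      ∃ h : P₀ →ₐ[R] A, bc h C0 Y = y ∧ bc h C0 Y' = y') ∧
    (∀ (A : Type u) [CommRing A] [Algebra R A] (h h' : P₀ →ₐ[R] A),
      bc h C0 Y = bc h' C0 Y → bc h C0 Y' = bc h' C0 Y' → h = h') := by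
  let b := Module.Free.chooseBasis R C0
  let ι := Module.Free.ChooseBasisIndex R C0
  refine ⟨MvPolynomial (ι ⊕ ι) R, inferInstance, inferInstance, inferInstance,
    ∑ i, (MvPolynomial.X (Sum.inl i) : MvPolynomial (ι ⊕ ι) R) ⊗ₜ b i,
    ∑ i, (MvPolynomial.X (Sum.inr i) : MvPolynomial (ι ⊕ ι) R) ⊗ₜ b i, ?_, ?_⟩
  · intro A _ _ y y'
    refine ⟨MvPolynomial.aeval (Sum.elim (fun i => (Algebra.TensorProduct.basis A b).repr y i)
      (fun i => (Algebra.TensorProduct.basis A b).repr y' i)), ?_, ?_⟩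
    · rw [map_sum]
      conv_rhs => rw [← sum_repr_tmul b A y]
      refine Finset.sum_congr rfl fun i _ => ?_
      rw [Algebra.TensorProduct.map_tmul, MvPolynomial.aeval_X]
      rfl
    · rw [map_sum]
      conv_rhs => rw [← sum_repr_tmul b A y']
      refine Finset.sum_congr rfl fun i _ => ?_
      rw [Algebra.TensorProduct.map_tmul, MvPolynomial.aeval_X]
      rfl
  · intro A _ _ h h' h1 h2
    rw [map_sum, map_sum] at h1 h2
    simp only [Algebra.TensorProduct.map_tmul, AlgHom.id_apply] at h1 h2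
    apply MvPolynomial.algHom_ext
    rintro (i | i)
    · rw [← repr_sum_tmul b A (fun i => h (MvPolynomial.X (Sum.inl i))) i, h1,
        repr_sum_tmul b A (fun i => h' (MvPolynomial.X (Sum.inl i))) i]
    · rw [← repr_sum_tmul b A (fun i => h (MvPolynomial.X (Sum.inr i))) i, h2,
        repr_sum_tmul b A (fun i => h' (MvPolynomial.X (Sum.inr i))) i]

omit [CommRing C1] [Algebra R C1] [Module.Finite R C0] [Module.Free R C0] [Module.Finite R C1]
  [Module.Free R C1] in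
theorem bc_bc {A B D : Type u} [CommRing A] [Algebra R A] [CommRing B] [Algebra R B] [CommRing D]
    [Algebra R D] (f : A →ₐ[R] B) (g : B →ₐ[R] D) (t : A ⊗[R] C0) :
    bc g C0 (bc f C0 t) = bc (g.comp f) C0 t := by
  have : (bc g C0).comp (bc f C0) = bc (g.comp f) C0 := by
    ext <;> simp
  exact DFunLike.congr_fun this t

theorem exists_rep (x : C1ˣ) :
    ∃ (P : Type u) (_ : CommRing P) (_ : Algebra R P) (_ : Algebra.FinitePresentation R P)
      (u : (P ⊗[R] C0)ˣ), dU P a u = xA P x ∧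
      (∀ (A : Type u) [CommRing A] [Algebra R A] (y : (A ⊗[R] C0)ˣ), dU A a y = xA A x →
        ∃ h : P →ₐ[R] A, Units.map (bc h C0 : P ⊗[R] C0 →* A ⊗[R] C0) u = y) ∧
      (∀ (A : Type u) [CommRing A] [Algebra R A] (h h' : P →ₐ[R] A),
        Units.map (bc h C0 : P ⊗[R] C0 →* A ⊗[R] C0) u =
          Units.map (bc h' C0 : P ⊗[R] C0 →* A ⊗[R] C0) u → h = h') := by
  obtain ⟨P₀, _, _, _, Y, Y', hU, hU'⟩ := exists_univ_pair (R := R) (C0 := C0)
  obtain ⟨q₁, hq₁, H₁⟩ := exists_ideal P₀ C0 (Y * Y' - 1)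
  obtain ⟨q₂, hq₂, H₂⟩ := exists_ideal P₀ C1 (dE a P₀ Y Y' - 1 ⊗ₜ (x : C1))
  have H₁' : ∀ (A : Type u) [CommRing A] [Algebra R A] (h : P₀ →ₐ[R] A),
      (bc h C0 Y * bc h C0 Y' = 1 ↔ ∀ z ∈ q₁, h z = 0) := by
    intro A _ _ h
    rw [← H₁ A h]
    change _ ↔ bc h C0 (Y * Y' - 1) = 0
    rw [map_sub, map_mul, map_one, sub_eq_zero]
  have H₂' : ∀ (A : Type u) [CommRing A] [Algebra R A] (h : P₀ →ₐ[R] A),
      (dE a A (bc h C0 Y) (bc h C0 Y') = 1 ⊗ₜ (x : C1) ↔ ∀ z ∈ q₂, h z = 0) := by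
    intro A _ _ h
    rw [← H₂ A h]
    change _ ↔ bc h C1 (dE a P₀ Y Y' - 1 ⊗ₜ (x : C1)) = 0
    rw [map_sub, bc_dE, sub_eq_zero]
    simp
  have hP : Algebra.FinitePresentation R (P₀ ⧸ (q₁ ⊔ q₂)) :=
    Algebra.FinitePresentation.quotient (Submodule.FG.sup hq₁ hq₂)
  let π : P₀ →ₐ[R] (P₀ ⧸ (q₁ ⊔ q₂)) := Ideal.Quotient.mkₐ R (q₁ ⊔ q₂)
  have h1 : bc π C0 Y * bc π C0 Y' = 1 := (H₁' _ π).2 fun z hz =>
    Ideal.Quotient.eq_zero_iff_mem.2 (Ideal.mem_sup_left hz)
  have h2 : dE a _ (bc π C0 Y) (bc π C0 Y') = 1 ⊗ₜ (x : C1) := (H₂' _ π).2 fun z hz =>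
    Ideal.Quotient.eq_zero_iff_mem.2 (Ideal.mem_sup_right hz)
  refine ⟨P₀ ⧸ (q₁ ⊔ q₂), inferInstance, inferInstance, hP,
    ⟨bc π C0 Y, bc π C0 Y', h1, by rw [mul_comm]; exact h1⟩, ?_, ?_, ?_⟩
  · ext
    rw [← dE_eq]
    exact h2
  · intro A _ _ y hy
    obtain ⟨h₀, e1, e2⟩ := hU A (y : A ⊗[R] C0) ((y⁻¹ : (A ⊗[R] C0)ˣ) : A ⊗[R] C0)
    have k1 : ∀ z ∈ q₁, h₀ z = 0 := (H₁' A h₀).1 (by rw [e1, e2, Units.mul_inv])
    have k2 : ∀ z ∈ q₂, h₀ z = 0 := (H₂' A h₀).1 (by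
      rw [e1, e2, dE_eq, hy]
      rfl)
    have k : ∀ z ∈ q₁ ⊔ q₂, h₀ z = 0 := by
      have : q₁ ⊔ q₂ ≤ RingHom.ker h₀ := sup_le (fun z hz => k1 z hz) (fun z hz => k2 z hz)
      exact fun z hz => this hz
    refine ⟨Ideal.Quotient.liftₐ (q₁ ⊔ q₂) h₀ k, ?_⟩
    ext
    change bc (Ideal.Quotient.liftₐ (q₁ ⊔ q₂) h₀ k) C0 (bc π C0 Y) = (y : A ⊗[R] C0)
    rw [bc_bc, ← e1]
    congr 2
  · intro A _ _ h h' hu
    have s1 : bc (h.comp π) C0 Y = bc (h'.comp π) C0 Y := by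
      rw [← bc_bc, ← bc_bc]
      exact congrArg Units.val hu
    have s2 : bc (h.comp π) C0 Y' = bc (h'.comp π) C0 Y' := by
      rw [← bc_bc, ← bc_bc]
      exact congrArg (fun z : (A ⊗[R] C0)ˣ => (z⁻¹ : (A ⊗[R] C0)ˣ).val) hu
    have := hU' A _ _ s1 s2
    apply AlgHom.ext
    intro z
    obtain ⟨z, rfl⟩ := Ideal.Quotient.mk_surjective z
    exact DFunLike.congr_fun this z

end rep

section hens

variable {C0 C1 C2 : Type u} [CommRing C0] [Algebra R C0]
  [CommRing C1] [Algebra R C1] [CommRing C2] [Algebra R C2]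
  [Module.Finite R C0] [Module.Free R C0] [Module.Finite R C1] [Module.Free R C1] [Module.Flat R C2]
  {p q : ℕ} (a : Fin p → (C0 →ₐ[R] C1)) (b : Fin q → (C1 →ₐ[R] C2))

/-- Over a henselian pair, a unit cocycle congruent to one is the coboundary of a unit congruent to one. -/
theorem exists_cob (hex : ExactL a b)
    (hd : ∀ (A : Type u) [CommRing A] [Algebra R A] (y : (A ⊗[R] C0)ˣ), dU A b (dU A a y) = 1)
    (I : Ideal R) [HenselianRing R I] (x : C1ˣ)
    (hx : dU R b (xA (R := R) R x) = 1) (hxI : xA (R := R) (R ⧸ I) x = 1) :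
    ∃ y : (R ⊗[R] C0)ˣ, Units.map (bc (Ideal.Quotient.mkₐ R I) C0 :
      R ⊗[R] C0 →* (R ⧸ I) ⊗[R] C0) y = 1 ∧ dU R a y = xA R x := by
  obtain ⟨P, _, _, _, u, hu, hU, hU'⟩ := exists_rep a x
  have hxB : ∀ (B : Type u) [CommRing B] [Algebra R B], dU B b (xA B x) = 1 := by
    intro B _ _
    rw [← bc_xA (Algebra.ofId R B) x, ← bc_dU, hx, map_one]
  have hsm : Algebra.FormallySmooth R P := by
    refine Algebra.FormallySmooth.of_comp_surjective ?_
    intro B _ _ N hN g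
    obtain ⟨y, hy, hy2⟩ := exists_lift a b hex hd B N hN (xA B x) (hxB B)
      (Units.map (bc g C0 : P ⊗[R] C0 →* (B ⧸ N) ⊗[R] C0) u) (by
        rw [bc_xA, ← bc_dU, hu, bc_xA])
    obtain ⟨g', hg'⟩ := hU B y hy2
    refine ⟨g', hU' _ _ _ ?_⟩
    rw [← hy, ← hg']
    ext
    exact (bc_bc g' (Ideal.Quotient.mkₐ R N) (u : P ⊗[R] C0)).symm
  have hsm' : Algebra.Smooth R P := ⟨inferInstance, inferInstance⟩
  obtain ⟨σ, hσ⟩ := hU (R ⧸ I) 1 (by rw [map_one, hxI])
  obtain ⟨τ, hτ⟩ := Groth.Agent.S0536.result R P R I σ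
  refine ⟨Units.map (bc τ C0 : P ⊗[R] C0 →* R ⊗[R] C0) u, ?_, ?_⟩
  · rw [← hσ, ← hτ]
    ext
    exact bc_bc τ (Ideal.Quotient.mkₐ R I) (u : P ⊗[R] C0)
  · rw [← bc_dU, hu, bc_xA]

end hens

end K281.UnitCobHens
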